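import Cfsg.Agent.Lib.RealChar.FS
import Cfsg.Agent.Lib.Char.Complete
import Cfsg.Agent.Lib.Char.Linear

/-!
# The Frobenius-Schur indicator and the number of square roots
-/

namespace CfsgLib.RealChar

open scoped ComplexConjugate

/-- The Frobenius-Schur indicator of a function on a finite group. -/
noncomputable def fsInd {G : Type*} [Group G] [Fintype G] (χ : G → ℂ) : ℂ :=
  (Nat.card G : ℂ)⁻¹ * ∑ x : G, χ (x * x)

variable {G : Type*} [Group G]

theorem fsInd_eq_finsum [Fintype G] (χ : G → ℂ) :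
    fsInd χ = (Nat.card G : ℂ)⁻¹ * ∑ᶠ x : G, χ (x * x) := by
  rw [fsInd, finsum_eq_sum_of_fintype]

variable [Fintype G]

theorem fsInd_principal : fsInd (fun _ : G => (1 : ℂ)) = 1 := by
  rw [fsInd, Finset.sum_const, Finset.card_univ, nsmul_eq_mul, mul_one, Nat.card_eq_fintype_card,
    inv_mul_cancel₀]
  exact_mod_cast Fintype.card_ne_zero

/-- A character with nonzero indicator is real valued. -/
theorem im_eq_zero_of_fsInd_ne_zero {χ : G → ℂ} (hχ : Cfsg.IsIrrCharacter G χ)
    (h : fsInd χ ≠ 0) (g : G) : (χ g).im = 0 := by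
  obtain ⟨n, ρ, hρ, rfl⟩ := hχ
  haveI := hρ
  exact im_eq_zero_of_sum_sq_ne_zero ρ (fun h0 => h (by simp [fsInd, h0])) g

/-- `∑ ν(χ) χ(g)` is the number of square roots of `g`. -/
theorem sum_fsInd_mul_apply (g : G) :
    ∑ χ : Cfsg.IrrCharacter G, fsInd (χ : G → ℂ) * (χ : G → ℂ) g =
      (Nat.card {x : G // x * x = g} : ℂ) := by
  classical
  have hG : (Nat.card G : ℂ) ≠ 0 := Nat.cast_ne_zero.mpr Nat.card_pos.ne'
  have hinv : ∀ χ : Cfsg.IrrCharacter G, (χ : G → ℂ) g = conj ((χ : G → ℂ) g⁻¹) := fun χ => by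
    rw [CfsgLib.Char.IsIrrCharacter.apply_inv χ.2, Complex.conj_conj]
  have hsum : ∀ x : G, ∑ χ : Cfsg.IrrCharacter G, (χ : G → ℂ) (x * x) * (χ : G → ℂ) g =
      if IsConj (x * x) g⁻¹ then (Nat.card (Subgroup.centralizer ({x * x} : Set G)) : ℂ) else 0 := by
    intro x
    rw [← CfsgLib.Char.sum_mul_conj]
    exact Finset.sum_congr rfl fun χ _ => by rw [hinv χ]
  simp only [fsInd, mul_assoc, Finset.sum_mul]
  rw [← Finset.mul_sum, Finset.sum_comm, Finset.sum_congr rfl fun x _ => hsum x,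
    ← Finset.sum_fiberwise Finset.univ (fun x => x * x)]
  have hroots : ∀ h : G, IsConj h g⁻¹ →
      (Finset.univ.filter fun x : G => x * x = h).card = Nat.card {x : G // x * x = g} := by
    intro h hh
    obtain ⟨c, hc⟩ := isConj_iff.mp hh
    rw [← Fintype.card_subtype, ← Nat.card_eq_fintype_card]
    refine Nat.card_congr (((MulAut.conj c).toEquiv.trans (Equiv.inv G)).subtypeEquiv fun x => ?_)
    simp only [MulEquiv.toEquiv_eq_coe, Equiv.trans_apply, EquivLike.coe_coe, MulAut.conj_apply,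
      Equiv.inv_apply, ← mul_inv_rev]
    rw [show c * x * c⁻¹ * (c * x * c⁻¹) = c * (x * x) * c⁻¹ by group, inv_eq_iff_eq_inv, ← hc,
      mul_left_inj, mul_right_inj]
  have hcard : ∀ h : G, IsConj h g⁻¹ → Nat.card (Subgroup.centralizer ({h} : Set G)) *
      (Finset.univ.filter fun y : G => IsConj y g⁻¹).card = Nat.card G := by
    intro h hh
    rw [mul_comm, ← CfsgLib.Char.card_isConj_mul_card_centralizer h]
    congr 1
    rw [Nat.card_eq_fintype_card, Fintype.card_subtype]
    refine Finset.card_bij (fun a _ => a) (fun a ha => ?_) (fun a _ b _ h => h) (fun b hb => ⟨b, ?_, rfl⟩)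
    · rw [Finset.mem_filter] at ha ⊢
      exact ⟨ha.1, hh.trans ha.2.symm⟩
    · rw [Finset.mem_filter] at hb ⊢
      exact ⟨hb.1, hb.2.symm.trans hh⟩
  rw [Finset.sum_congr rfl fun h _ => Finset.sum_congr rfl fun x hx => by
    rw [(Finset.mem_filter.mp hx).2]]
  simp only [Finset.sum_const, nsmul_eq_mul, mul_ite, mul_zero]
  rw [← Finset.sum_filter]
  have hne : (Finset.univ.filter fun y : G => IsConj y g⁻¹).card ≠ 0 :=
    Finset.card_ne_zero.mpr ⟨g⁻¹, Finset.mem_filter.mpr ⟨Finset.mem_univ _, IsConj.refl _⟩⟩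
  set N := (Finset.univ.filter fun y : G => IsConj y g⁻¹).card with hN
  rw [Finset.sum_congr rfl (fun h hh => show
      ((Finset.univ.filter fun x : G => x * x = h).card : ℂ) *
        (Nat.card (Subgroup.centralizer ({h} : Set G)) : ℂ) =
        (Nat.card {x : G // x * x = g} : ℂ) * ((Nat.card G : ℂ) / N) by
    have hh' := (Finset.mem_filter.mp hh).2
    rw [hroots h hh', ← hcard h hh', Nat.cast_mul, mul_div_assoc,
      div_self (Nat.cast_ne_zero.mpr hne), mul_one])]
  rw [Finset.sum_const, ← hN, nsmul_eq_mul]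
  have : (N : ℂ) ≠ 0 := Nat.cast_ne_zero.mpr hne
  field_simp

end CfsgLib.RealChar
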