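import Mathlib.GroupTheory.PGroup
import Mathlib.Algebra.BigOperators.Group.Finset.Basic
import Mathlib.Algebra.Ring.GeomSum
import Mathlib.RingTheory.IntegralClosure.Algebra.Basic
import Mathlib.RingTheory.IntegralClosure.IntegrallyClosed
import Mathlib.Analysis.Complex.Basic
import Mathlib.Tactic

/-!
# Congruences for sums invariant under a `p`-group action
-/

namespace CfsgLib.RealChar

open MulAction

variable {P α : Type*} [Group P] [MulAction P α] {p : ℕ} [Fact p.Prime]

/-- A sum of an invariant function over a `P`-set is congruent mod `p` to the sum over the fixed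
points. -/
theorem dvd_sum_sub_sum_fixed {R : Type*} [CommRing R] [Fintype α] [Fintype (fixedPoints P α)]
    (hP : IsPGroup p P) (f : α → R) (hf : ∀ (x : P) (a : α), f (x • a) = f a) :
    (p : R) ∣ (∑ a, f a) - ∑ a : fixedPoints P α, f a := by
  classical
  have key : ∀ o : orbitRel.Quotient P α, (p : R) ∣
      (∑ a ∈ Finset.univ.filter (fun a => (Quotient.mk'' a : orbitRel.Quotient P α) = o), f a) -
      ∑ a ∈ Finset.univ.filter (fun a => (Quotient.mk'' a : orbitRel.Quotient P α) = o),
        (if a ∈ fixedPoints P α then f a else 0) := by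
    intro o
    induction o using Quotient.inductionOn' with
    | h a =>
      by_cases ha : a ∈ fixedPoints P α
      · rw [← Finset.sum_sub_distrib]
        refine Finset.dvd_sum fun b hb => ?_
        rw [Finset.mem_filter] at hb
        have hb' : b ∈ orbit P a := Quotient.exact' hb.2
        obtain ⟨x, rfl⟩ := hb'
        have : x • a = a := mem_fixedPoints.mp ha x
        dsimp only
        rw [if_pos (by rw [this]; exact ha), sub_self]
        exact dvd_zero _
      · have hmem : ∀ b, b ∈ Finset.univ.filter
            (fun b => (Quotient.mk'' b : orbitRel.Quotient P α) = Quotient.mk'' a) ↔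
            b ∈ orbit P a := by
          intro b
          simp only [Finset.mem_filter, Finset.mem_univ, true_and, Quotient.eq'',
            orbitRel_apply]
        have hnf : ∀ b ∈ orbit P a, b ∉ fixedPoints P α := by
          rintro _ ⟨x, rfl⟩ hb
          apply ha
          have := mem_fixedPoints.mp hb x⁻¹
          rw [inv_smul_smul] at this
          rw [← this] at hb
          exact hb
        have h1 : ∀ b ∈ Finset.univ.filter
            (fun b => (Quotient.mk'' b : orbitRel.Quotient P α) = Quotient.mk'' a), f b = f a := by
          intro b hb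
          obtain ⟨x, rfl⟩ := (hmem b).mp hb
          exact hf x a
        rw [Finset.sum_congr rfl h1, Finset.sum_const, nsmul_eq_mul,
          Finset.sum_eq_zero (fun b hb => if_neg (hnf b ((hmem b).mp hb))), sub_zero]
        refine dvd_mul_of_dvd_left (Nat.cast_dvd_cast ?_) _
        obtain ⟨k, hk⟩ := hP.card_orbit a
        have hcard : (Finset.univ.filter
            (fun b => (Quotient.mk'' b : orbitRel.Quotient P α) = Quotient.mk'' a)).card = p ^ k := by
          rw [← hk, Nat.card_eq_fintype_card, ← Set.toFinset_card]
          congr 1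
          ext b
          rw [hmem, Set.mem_toFinset]
        rw [hcard]
        rcases k with _ | k
        · exfalso
          apply ha
          rw [pow_zero] at hk
          haveI : Subsingleton (orbit P a) := (Nat.card_eq_one_iff_unique.mp hk).1
          intro x
          exact congrArg Subtype.val
            (Subsingleton.elim (⟨x • a, mem_orbit a x⟩ : orbit P a) ⟨a, mem_orbit_self a⟩)
        · exact dvd_pow_self p (Nat.succ_ne_zero k)
  have h2 : ∑ a : fixedPoints P α, f a = ∑ a, if a ∈ fixedPoints P α then f a else 0 := by
    rw [← Finset.sum_filter]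
    exact (Finset.sum_subtype (Finset.univ.filter (· ∈ fixedPoints P α)) (by simp) f).symm
  rw [h2, ← Finset.sum_fiberwise Finset.univ (fun a => (Quotient.mk'' a : orbitRel.Quotient P α)) f,
    ← Finset.sum_fiberwise Finset.univ (fun a => (Quotient.mk'' a : orbitRel.Quotient P α))
      (fun a => if a ∈ fixedPoints P α then f a else 0), ← Finset.sum_sub_distrib]
  exact Finset.dvd_sum fun o _ => key o

/-- A rational integer that is `p` times an algebraic integer is divisible by `p`. -/
theorem int_dvd_of_eq_mul_integral {p : ℕ} (hp : p ≠ 0) {n : ℤ} {z : ℂ} (hz : IsIntegral ℤ z)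
    (h : (n : ℂ) = p * z) : (p : ℤ) ∣ n := by
  have hz' : z = ((n / p : ℚ) : ℂ) := by
    push_cast
    rw [h, mul_div_cancel_left₀]
    exact_mod_cast hp
  rw [hz'] at hz
  have hq : IsIntegral ℤ (n / p : ℚ) := by
    have : ((n / p : ℚ) : ℂ) = algebraMap ℚ ℂ (n / p : ℚ) := by simp
    rw [this] at hz
    exact (isIntegral_algebraMap_iff (algebraMap ℚ ℂ).injective).mp hz
  obtain ⟨m, hm⟩ := IsIntegrallyClosed.isIntegral_iff.mp hq
  have hp' : (p : ℚ) ≠ 0 := by exact_mod_cast hp
  have : (n : ℚ) = m * p := by
    rw [← div_mul_cancel₀ (n : ℚ) hp', ← hm]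
    simp
  exact ⟨m, by rw [mul_comm]; exact_mod_cast this⟩

end CfsgLib.RealChar
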