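import Cfsg.Agent.Lib.Char.CliffordOver
import Cfsg.Agent.Lib.CharTools.Basic
import Cfsg.Agent.Lib.Glauberman.Solvable
import Cfsg.Agent.Lib.Glauberman.LayerBasic
import Cfsg.Agent.Lib.Glauberman.CoprimeDegree
import Cfsg.Agent.Lib.Solvable.CoprimeAction
import Cfsg.Agent.Lib.Blocks82.HallHigman
import Cfsg.Agent.Lib.PLocal.PSolvable
import Cfsg.Agent.Lib.PGroup.Basic

/-!
# Characters of degree prime to `p` and divisible by `q`

For a `p`-solvable and `q`-solvable group with trivial `p'`-core and order divisible by `q`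
some irreducible character has degree prime to `p` and divisible by `q`.
-/

set_option autoImplicit false
set_option linter.style.haveILetI false

namespace CfsgLib.RealChar.Cross

open Cfsg
open scoped ComplexConjugate Pointwise commutatorElement

universe u

/-- The degree of every `p'`-degree irreducible character is prime to `q`. -/
def PrimeDeg (p q : ℕ) (G : Type u) [Group G] : Prop :=
  ∀ χ : IrrCharacter G, ¬ p ∣ charDegree (χ : G → ℂ) → ¬ q ∣ charDegree (χ : G → ℂ)

theorem PrimeDeg.of_surjective {p q : ℕ} {G H : Type u} [Group G] [Group H]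
    (h : PrimeDeg p q G) (f : G →* H) (hf : Function.Surjective f) : PrimeDeg p q H := by
  intro χ hχ
  have := h ⟨_, CharTwist.isIrrCharacter_comp χ.2 f hf⟩ (by simpa [charDegree] using hχ)
  simpa [charDegree] using this

section General

variable {W : Type u} [Group W] [Finite W]

/-- A group is not covered by the conjugates of a proper subgroup. -/
theorem eq_top_of_conj_cover (D : Subgroup W) (h : ∀ x : W, ∃ c : W, c⁻¹ * x * c ∈ D) : D = ⊤ := by
  classical
  have := Fintype.ofFinite W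
  have := Fintype.ofFinite (W ⧸ D)
  have h1 := MulAction.sum_card_fixedBy_eq_card_orbits_mul_card_group W (W ⧸ D)
  have horb : Fintype.card (MulAction.orbitRel.Quotient W (W ⧸ D)) = 1 :=
    Fintype.card_eq_one_iff.mpr ⟨Quotient.mk'' ((1 : W) : W ⧸ D), fun y => by
      induction y using Quotient.inductionOn' with
      | h a => exact Quotient.sound' (MulAction.exists_smul_eq W _ _)⟩
  rw [horb, one_mul] at h1
  have hge : ∀ x : W, 1 ≤ Fintype.card (MulAction.fixedBy (W ⧸ D) x) := by
    intro x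
    obtain ⟨c, hc⟩ := h x
    refine Fintype.card_pos_iff.mpr ⟨⟨(c : W ⧸ D), ?_⟩⟩
    change ((x * c : W) : W ⧸ D) = (c : W ⧸ D)
    refine (QuotientGroup.eq.mpr ?_).symm
    simpa [mul_assoc] using hc
  have h2 : ∀ x : W, Fintype.card (MulAction.fixedBy (W ⧸ D) x) = 1 := by
    by_contra hne
    push Not at hne
    obtain ⟨x, hx⟩ := hne
    have : ∑ _y : W, 1 < ∑ y : W, Fintype.card (MulAction.fixedBy (W ⧸ D) y) :=
      Finset.sum_lt_sum (fun y _ => hge y) ⟨x, Finset.mem_univ _, lt_of_le_of_ne (hge x) (Ne.symm hx)⟩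
    rw [h1, Finset.sum_const, Finset.card_univ, smul_eq_mul, mul_one] at this
    exact lt_irrefl _ this
  refine Subgroup.index_eq_one.mp ?_
  have h3 := h2 1
  rw [← Nat.card_eq_fintype_card] at h3
  rw [Subgroup.index, ← h3]
  exact Nat.card_congr (Equiv.subtypeUnivEquiv fun y => one_smul W y).symm

/-- The relative index in a normal subgroup divides the index. -/
theorem relIndex_dvd_index (T R : Subgroup W) [R.Normal] : T.relIndex R ∣ T.index := by
  have h1 : T.relIndex (T ⊔ R) ∣ T.index :=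
    Dvd.intro _ (Subgroup.relIndex_mul_index le_sup_left)
  have h2 : T.relIndex R = T.relIndex (T ⊔ R) := by
    have e1 := Subgroup.relIndex_mul_relIndex (T ⊓ R) T (T ⊔ R) inf_le_left le_sup_left
    have e2 := Subgroup.relIndex_mul_relIndex (T ⊓ R) R (T ⊔ R) inf_le_right le_sup_right
    rw [Subgroup.inf_relIndex_left] at e1
    rw [Subgroup.inf_relIndex_right, Subgroup.relIndex_sup_right] at e2
    refine Nat.eq_of_mul_eq_mul_left (Nat.pos_of_ne_zero ?_)
      ((mul_comm _ _).trans (e2.trans (e1.symm)))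
    exact Subgroup.index_ne_zero_of_finite (H := R.subgroupOf T)
  rwa [h2]

/-- A character of a subgroup of `p'`-index and of `p'`-degree lies under one of `p'`-degree. -/
theorem exists_pPrime_over [Fintype W] {p : ℕ} (H : Subgroup W) [Fintype H] (hH : ¬ p ∣ H.index)
    (hp : p.Prime) {θ : H → ℂ} (hθ : IsIrrCharacter H θ) (hd : ¬ p ∣ charDegree θ) :
    ∃ χ : IrrCharacter W, ¬ p ∣ charDegree (χ : W → ℂ) ∧
      classInner (fun h : H => (χ : W → ℂ) h) θ ≠ 0 := by
  classical
  by_contra hcon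
  push Not at hcon
  obtain ⟨m, hm⟩ := Char.IsCharacter.exists_nat_combination
    (Char.IsCharacter.indFun H (Char.IsIrrCharacter.isCharacter hθ))
  have hmv : ∀ χ : IrrCharacter W, (m χ : ℂ) = conj (classInner (fun h : H => (χ : W → ℂ) h) θ) := by
    intro χ
    rw [← Char.classInner_sum_smul_irr (fun φ => (m φ : ℂ)) χ, ← hm,
      Char.classInner_indFun H θ χ (Char.IsIrrCharacter.isClassFunction χ.2),
      ← Char.classInner_conj_symm]
  have h1 := congrFun hm 1
  simp only [Char.indFun_apply_one, Finset.sum_apply, Pi.smul_apply, smul_eq_mul] at h1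
  rw [← CharTools.degree_cast (Char.IsIrrCharacter.isCharacter hθ),
    Finset.sum_congr rfl (fun χ _ => by rw [← CharTools.irr_degree_cast χ])] at h1
  have h2 : H.index * charDegree θ = ∑ χ : IrrCharacter W, m χ * charDegree (χ : W → ℂ) := by
    exact_mod_cast h1
  refine (hp.dvd_mul.not.mpr (by tauto)) (h2 ▸ Finset.dvd_sum fun χ _ => ?_)
  by_cases hχ : p ∣ charDegree (χ : W → ℂ)
  · exact dvd_mul_of_dvd_right hχ _
  · have h0 : (m χ : ℂ) = 0 := by rw [hmv, hcon χ hχ, map_zero]
    rw [Nat.cast_eq_zero.mp h0, zero_mul]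
    exact dvd_zero p

/-- Invariant characters of `M` below characters of degree prime to `p` are fixed by `R`. -/
theorem le_inertia_of_fixed [Fintype W] {p q : ℕ} [Fact p.Prime] [Fact q.Prime] (P : Sylow p W)
    (M R : Subgroup W) [M.Normal] [R.Normal] [Fintype M] (hMR : M ≤ R)
    (hMp : ¬ p ∣ Nat.card M) (hRM : ∃ k, M.relIndex R = q ^ k) (hchar : PrimeDeg p q W)
    (θ : IrrCharacter M)
    (hfix : (P : Subgroup W) ≤ CharTwist.inertia M (θ : M → ℂ)) :
    R ≤ CharTwist.inertia M (θ : M → ℂ) := by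
  classical
  set T := CharTwist.inertia M (θ : M → ℂ) with hT
  set J := (P : Subgroup W) ⊔ M with hJ
  haveI : Fintype J := Fintype.ofFinite _
  have hMJ : M ≤ J := le_sup_right
  let M' := M.subgroupOf J
  haveI : Fintype M' := Fintype.ofFinite _
  have hinv : ∀ g : J, CharTwist.conjFun M' (CliffordOver.trans M J hMJ (θ : M → ℂ)) g =
      CliffordOver.trans M J hMJ (θ : M → ℂ) := by
    intro g
    refine CharTwist.mem_inertia.mp ?_
    rw [CliffordOver.inertia_trans, Subgroup.mem_subgroupOf]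
    exact sup_le hfix (CharTwist.le_inertia M (Char.IsIrrCharacter.isClassFunction θ.2)) g.2
  obtain ⟨a, ha⟩ := IsPGroup.iff_card.mp P.isPGroup'
  have hidx : M'.index ∣ p ^ a := by
    show M.relIndex J ∣ _
    rw [hJ, Subgroup.relIndex_sup_right, ← ha]
    exact Subgroup.relIndex_dvd_card _ _
  have hcM : Nat.card M' = Nat.card M := Nat.card_congr (Subgroup.subgroupOfEquivOfLe hMJ).toEquiv
  have hcop : (Nat.card M').Coprime M'.index := by
    rw [hcM]
    exact ((((Fact.out : p.Prime).coprime_iff_not_dvd.mpr hMp).pow_left a).coprime_dvd_left hidx).symm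
  obtain ⟨η, hη⟩ := Glauberman.exists_ext_of_invariant M' hcop
    ⟨_, CliffordOver.isIrrCharacter_trans M J hMJ θ.2⟩ hinv
  have hη1 : charDegree (η : J → ℂ) = charDegree (θ : M → ℂ) := by
    have h1 := hη 1
    rw [OneMemClass.coe_one] at h1
    simp only [charDegree, h1, CliffordOver.trans, Function.comp_apply, map_one]
  have hJi : ¬ p ∣ J.index := fun h => P.not_dvd_index (h.trans (Subgroup.index_dvd_of_le le_sup_left))
  obtain ⟨χ, hχd, hχ⟩ := exists_pPrime_over J hJi (Fact.out : p.Prime) η.2 (by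
    rw [hη1]
    exact fun h => hMp (h.trans (CharTools.degree_dvd_card θ)))
  have hχθ : classInner (fun n : M => (χ : W → ℂ) n) (θ : M → ℂ) ≠ 0 := by
    refine Glauberman.inner_ne_zero_trans (J.subtype) (Subgroup.inclusion hMJ)
      (Char.IsIrrCharacter.isCharacter χ.2) η.2 θ.2 hχ ?_
    have : (η : J → ℂ) ∘ Subgroup.inclusion hMJ = (θ : M → ℂ) := by
      funext n
      refine ((hη ⟨⟨(n : W), hMJ n.2⟩, n.2⟩).trans ?_)
      exact congrArg (θ : M → ℂ) (Subtype.ext rfl)
    rw [this, Char.classInner_irr_self θ.2]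
    exact one_ne_zero
  have hdeg := Clifford.apply_one_eq M χ.2 θ.2 hχθ
  obtain ⟨e, he⟩ := Char.IsCharacter.exists_nat_classInner
    (Clifford.isCharacter_res (Char.IsIrrCharacter.isCharacter χ.2) M) θ.2
  rw [he, ← CharTools.irr_degree_cast χ, ← CharTools.irr_degree_cast θ] at hdeg
  have hdeg' : charDegree (χ : W → ℂ) = e * T.index * charDegree (θ : M → ℂ) := by
    exact_mod_cast hdeg
  have hTq : ¬ q ∣ T.index := fun h => hchar χ hχd (hdeg' ▸ (h.mul_left e).mul_right _)
  rw [← Subgroup.relIndex_eq_one]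
  obtain ⟨k, hk⟩ := hRM
  have h1 : T.relIndex R ∣ q ^ k :=
    hk ▸ Subgroup.relIndex_dvd_of_le_left _ (CharTwist.le_inertia M (Char.IsIrrCharacter.isClassFunction θ.2))
  obtain ⟨j, -, hj⟩ := (Nat.dvd_prime_pow (Fact.out : q.Prime)).mp h1
  rcases Nat.eq_zero_or_pos j with rfl | hj0
  · rw [hj, pow_zero]
  · exact absurd ((hj ▸ dvd_pow_self q hj0.ne' : q ∣ T.relIndex R).trans (relIndex_dvd_index T R)) hTq

/-- The fixed points of `P` on `R` normalise an invariant Sylow `q`-subgroup of `R`. -/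
theorem fixed_normalizes [Fintype W] {p q : ℕ} [Fact p.Prime] [Fact q.Prime] (P : Sylow p W)
    (M R : Subgroup W) [M.Normal] [R.Normal] (hMR : M ≤ R) (hpq : p ≠ q)
    (hRp : ¬ p ∣ Nat.card R) (hMq : ¬ q ∣ Nat.card M) (hRM : ∃ k, M.relIndex R = q ^ k)
    (hchar : PrimeDeg p q W) (Q : Subgroup W) (hQR : Q ≤ R) (hQ : IsPGroup q Q)
    (hQi : ¬ q ∣ Q.relIndex R) (hPQ : (P : Subgroup W) ≤ Subgroup.normalizer (Q : Set W)) :
    R ⊓ Subgroup.centralizer ((P : Subgroup W) : Set W) ≤ Subgroup.normalizer (Q : Set W) := by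
  classical
  haveI : Fintype M := Fintype.ofFinite _
  have hMp : ¬ p ∣ Nat.card M := fun h => hRp (h.trans (Subgroup.card_dvd_of_le hMR))
  have hdisj : Disjoint M Q := by
    obtain ⟨b, hb⟩ := IsPGroup.iff_card.mp hQ
    refine Subgroup.disjoint_of_coprime_natCard ?_
    rw [hb]
    exact (((Fact.out : q.Prime).coprime_iff_not_dvd.mpr hMq).pow_left b).symm
  -- the operators
  set S := Q ⊔ (P : Subgroup W) with hS
  have hSsolv : Group.IsSolvable S := by
    have hn : (Q.subgroupOf S).Normal :=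
      Subgroup.normal_subgroupOf_of_le_normalizer (sup_le Subgroup.le_normalizer hPQ)
    have hQ' : Group.IsSolvable (Q.subgroupOf S) := by
      haveI : Group.IsNilpotent (Q.subgroupOf S) :=
        (hQ.of_equiv (Subgroup.subgroupOfEquivOfLe le_sup_left).symm).isNilpotent
      infer_instance
    have hq' : Group.IsSolvable (S ⧸ Q.subgroupOf S) := by
      haveI : Group.IsNilpotent (S ⧸ Q.subgroupOf S) := by
        refine IsPGroup.isNilpotent (p := p) (IsPGroup.iff_card.mpr ?_)
        obtain ⟨a, ha⟩ := IsPGroup.iff_card.mp P.isPGroup'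
        have h1 : Nat.card (S ⧸ Q.subgroupOf S) ∣ p ^ a := by
          rw [← Subgroup.index_eq_card, ← ha]
          show Q.relIndex S ∣ _
          rw [hS, Solvable.relIndex_sup_of_le_normalizer hPQ]
          exact Subgroup.relIndex_dvd_card _ _
        obtain ⟨j, -, hj⟩ := (Nat.dvd_prime_pow (Fact.out : p.Prime)).mp h1
        exact ⟨j, hj⟩
      infer_instance
    exact Group.isSolvable_of_ker_le_range (Q.subgroupOf S).subtype
      (QuotientGroup.mk' (Q.subgroupOf S)) (by rw [QuotientGroup.ker_mk', Subgroup.range_subtype])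
  obtain ⟨a, ha⟩ := IsPGroup.iff_card.mp P.isPGroup'
  obtain ⟨b, hb⟩ := IsPGroup.iff_card.mp hQ
  have hcP : (Nat.card (P : Subgroup W)).Coprime (Nat.card M) := by
    rw [ha]
    exact ((Fact.out : p.Prime).coprime_iff_not_dvd.mpr hMp).pow_left a
  have hcS : (Nat.card M).Coprime (Nat.card S) := by
    have h1 : Nat.card S ∣ Nat.card Q * Nat.card (P : Subgroup W) := by
      rw [← Subgroup.card_mul_index (Q.subgroupOf S),
        Nat.card_congr (Subgroup.subgroupOfEquivOfLe (le_sup_left : Q ≤ S)).toEquiv]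
      refine Nat.mul_dvd_mul_left _ ?_
      show Q.relIndex S ∣ _
      rw [hS, Solvable.relIndex_sup_of_le_normalizer hPQ]
      exact Subgroup.relIndex_dvd_card _ _
    refine (Nat.Coprime.mul_right ?_ hcP.symm).coprime_dvd_right h1
    rw [hb]
    exact (((Fact.out : q.Prime).coprime_iff_not_dvd.mpr hMq).pow_left b).symm
  have hnorm : ∀ (H : Subgroup W), ∀ s ∈ H, ∀ g ∈ M, s * g * s⁻¹ ∈ M :=
    fun _ s _ g hg => Subgroup.Normal.conj_mem inferInstance g hg s
  set φP := Glauberman.conjHom M (P : Subgroup W) (hnorm _)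
  set φS := Glauberman.conjHom M S (hnorm _)
  have hPs : Group.IsSolvable (P : Subgroup W) := by
    haveI : Group.IsNilpotent (P : Subgroup W) := P.isPGroup'.isNilpotent
    infer_instance
  have hchars : ∀ θ : IrrCharacter M, Glauberman.Inv φP (θ : M → ℂ) →
      Glauberman.Inv φS (θ : M → ℂ) := by
    intro θ hθ
    have h1 : (P : Subgroup W) ≤ CharTwist.inertia M (θ : M → ℂ) := fun x hx =>
      CharTwist.mem_inertia.mpr (funext fun n => hθ ⟨x, hx⟩ n)
    have h2 := le_inertia_of_fixed P M R hMR hMp hRM hchar θ h1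
    intro s n
    exact congrFun (CharTwist.mem_inertia.mp (sup_le (hQR.trans h2) h1 s.2)) n
  -- invariant classes
  have hclass : ∀ K : ConjClasses M, Glauberman.InvClass φP K → Glauberman.InvClass φS K := by
    have e1 := Glauberman.card_inv_eq_card_invClass _ φP rfl hPs hcP.symm
    have e2 := Glauberman.card_inv_eq_card_invClass _ φS rfl hSsolv hcS
    have hsub : ∀ θ : IrrCharacter M, Glauberman.Inv φS (θ : M → ℂ) ↔ Glauberman.Inv φP (θ : M → ℂ) :=
      fun θ => ⟨fun h s => h ⟨s, Subgroup.mem_sup_right s.2⟩, hchars θ⟩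
    rw [Nat.card_congr (Equiv.subtypeEquivRight hsub), e1] at e2
    intro K hK
    have hle : ∀ K, Glauberman.InvClass φS K → Glauberman.InvClass φP K :=
      fun K h s => h ⟨s, Subgroup.mem_sup_right s.2⟩
    let f : {K : ConjClasses M // Glauberman.InvClass φS K} →
        {K : ConjClasses M // Glauberman.InvClass φP K} := fun x => ⟨x.1, hle _ x.2⟩
    have hf : Function.Bijective f := (Nat.bijective_iff_injective_and_card f).mpr
      ⟨fun x y h => Subtype.ext (congrArg Subtype.val h :), e2.symm⟩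
    obtain ⟨x, hx⟩ := hf.2 ⟨K, hK⟩
    have hxK : x.1 = K := congrArg Subtype.val hx
    rw [← hxK]
    exact x.2
  -- fixed points of `P` in `M` centralise `Q`
  set C := M ⊓ Subgroup.centralizer ((P : Subgroup W) : Set W) with hC
  set D := (C ⊓ Subgroup.centralizer (Q : Set W)).subgroupOf C with hD
  have hDtop : D = ⊤ := by
    refine eq_top_of_conj_cover D fun x => ?_
    obtain ⟨hxM, hxP⟩ := Subgroup.mem_inf.mp x.2
    have hK : Glauberman.InvClass φP (ConjClasses.mk (⟨x, hxM⟩ : M)) := by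
      intro s g hg
      rw [ConjClasses.mk_eq_mk_iff_isConj] at hg ⊢
      refine ((φP s).toMonoidHom.map_isConj hg).trans ?_
      have : φP s ⟨x, hxM⟩ = ⟨x, hxM⟩ := Subtype.ext (by
        rw [Glauberman.conjHom_apply]
        rw [mul_inv_eq_iff_eq_mul]
        exact Subgroup.mem_centralizer_iff.mp hxP s s.2)
      rw [MulEquiv.coe_toMonoidHom, this]
    let _ : MulAction W W := MulAction.compHom W (MulAut.conj : W →* MulAut W)
    obtain ⟨y, ⟨hyM, k, hk, hky⟩, hy⟩ := Solvable.exists_fixed_point_of_transitive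
      (A := S) (K := M) (Ω := W) (S := {y | y ∈ M ∧ ∃ k ∈ M, k * (x : W) * k⁻¹ = y})
      (fun s _ => by rw [Subgroup.normalizer_eq_top]; exact Subgroup.mem_top s) hcS.symm
      (Or.inl hSsolv) ⟨x, hxM, 1, one_mem _, by simp⟩
      (by
        rintro s hs _ ⟨hyM, k, hk, rfl⟩
        have h1 := hclass _ hK ⟨s, hs⟩ ⟨_, hyM⟩ (ConjClasses.mk_eq_mk_iff_isConj.mpr
          (isConj_iff.mpr ⟨⟨k, hk⟩⁻¹, Subtype.ext (by simp [mul_assoc])⟩))
        rw [ConjClasses.mk_eq_mk_iff_isConj] at h1
        obtain ⟨l, hl⟩ := isConj_iff.mp h1.symm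
        refine ⟨hnorm S s hs _ hyM, l, l.2, ?_⟩
        exact congrArg Subtype.val hl)
      (by
        rintro l hl _ ⟨hyM, k, hk, rfl⟩
        refine ⟨mul_mem (mul_mem hl hyM) (inv_mem hl), l * k, mul_mem hl hk, ?_⟩
        show _ = l * (k * (x : W) * k⁻¹) * l⁻¹
        group)
      (by
        rintro _ ⟨-, k, hk, rfl⟩ _ ⟨-, l, hl, rfl⟩
        refine ⟨l * k⁻¹, mul_mem hl (inv_mem hk), ?_⟩
        show l * k⁻¹ * (k * (x : W) * k⁻¹) * (l * k⁻¹)⁻¹ = _
        group)
    obtain ⟨c, hc, hcx⟩ := Solvable.exists_centralizer_smul_eq_of_fixed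
      (A := (P : Subgroup W)) (K := M)
      (fun s _ => by rw [Subgroup.normalizer_eq_top]; exact Subgroup.mem_top s) hcP
      (Or.inl hPs) (v := y) (w := (x : W)) (fun s hs => hy s (Subgroup.mem_sup_right hs))
      (fun s hs => by
        show s * (x : W) * s⁻¹ = x
        rw [mul_inv_eq_iff_eq_mul]
        exact Subgroup.mem_centralizer_iff.mp hxP s hs)
      (inv_mem hk) (show k⁻¹ * y * k⁻¹⁻¹ = x by rw [← hky]; group)
    refine ⟨⟨c, hc⟩, Subgroup.mem_subgroupOf.mpr (Subgroup.mem_inf.mpr ⟨Subtype.prop _, ?_⟩)⟩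
    have hcx' : c * y * c⁻¹ = x := hcx
    have : c⁻¹ * (x : W) * c = y := by rw [← hcx']; group
    simp only [Subgroup.coe_mul, Subgroup.coe_inv, this]
    refine Subgroup.mem_centralizer_iff.mpr fun s hs => ?_
    exact mul_inv_eq_iff_eq_mul.mp (hy s (Subgroup.mem_sup_left hs))
  have hMQ : R ≤ M ⊔ Q := by
    rw [← Subgroup.relIndex_eq_one]
    obtain ⟨k, hk⟩ := hRM
    obtain ⟨j, -, hj⟩ := (Nat.dvd_prime_pow (Fact.out : q.Prime)).mp
      (hk ▸ Subgroup.relIndex_dvd_of_le_left R (le_sup_left : M ≤ M ⊔ Q))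
    rcases Nat.eq_zero_or_pos j with rfl | hj0
    · rw [hj, pow_zero]
    · exact absurd ((hj ▸ dvd_pow_self q hj0.ne' : q ∣ (M ⊔ Q).relIndex R).trans
        (Subgroup.relIndex_dvd_of_le_left R (le_sup_right : Q ≤ M ⊔ Q))) hQi
  intro g hg
  obtain ⟨hgR, hgP⟩ := Subgroup.mem_inf.mp hg
  obtain ⟨m, hm, d, hd, rfl⟩ := Subgroup.mem_sup_of_normal_left.mp (hMQ hgR)
  refine mul_mem (Subgroup.centralizer_le_normalizer _ ?_) (Subgroup.le_normalizer hd)
  have hmP : m ∈ Subgroup.centralizer ((P : Subgroup W) : Set W) := by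
    refine Subgroup.mem_centralizer_iff.mpr fun s hs => ?_
    have h1 : m⁻¹ * (s * m * s⁻¹) = d * (s * d * s⁻¹)⁻¹ := by
      have h3 : s * m * s⁻¹ * (s * d * s⁻¹) = m * d := by
        have := Subgroup.mem_centralizer_iff.mp hgP s hs
        calc s * m * s⁻¹ * (s * d * s⁻¹) = s * (m * d) * s⁻¹ := by group
          _ = m * d := by rw [this, mul_inv_cancel_right]
      rw [eq_mul_inv_iff_mul_eq, mul_assoc, h3, inv_mul_cancel_left]
    have h2 : m⁻¹ * (s * m * s⁻¹) = 1 := by
      refine Subgroup.disjoint_def.mp hdisj (mul_mem (inv_mem hm) (hnorm ⊤ s trivial m hm)) ?_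
      rw [h1]
      exact mul_mem hd (inv_mem ((Subgroup.mem_normalizer_iff.mp (hPQ hs) d).mp hd))
    exact mul_inv_eq_iff_eq_mul.mp (inv_mul_eq_one.mp h2).symm
  have hmC : (⟨m, Subgroup.mem_inf.mpr ⟨hm, hmP⟩⟩ : C) ∈ D := hDtop ▸ Subgroup.mem_top _
  exact (Subgroup.mem_inf.mp (Subgroup.mem_subgroupOf.mp hmC)).2

end General

section Solvable

variable {G : Type u} [Group G] [Finite G]

omit [Finite G] in
/-- The index inside a supplement. -/
theorem index_subgroupOf_of_sup {V N T : Subgroup G} [V.Normal] (hsup : V ⊔ N = ⊤) (hVT : V ≤ T) :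
    (T.subgroupOf N).index = T.index := by
  let f : N ⧸ T.subgroupOf N → G ⧸ T :=
    Quotient.map' (fun t : N => (t : G)) fun a b h => by
      rw [QuotientGroup.leftRel_apply] at h ⊢
      simpa [Subgroup.mem_subgroupOf] using h
  refine Nat.card_congr (Equiv.ofBijective f ⟨?_, ?_⟩)
  · rintro ⟨a⟩ ⟨b⟩ h
    refine QuotientGroup.eq.mpr ?_
    rw [Subgroup.mem_subgroupOf]
    simpa using QuotientGroup.eq.mp h
  · rintro ⟨g⟩
    obtain ⟨v, hv, n, hn, rfl⟩ := Subgroup.mem_sup_of_normal_left.mp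
      (show g ∈ V ⊔ N by rw [hsup]; exact Subgroup.mem_top g)
    refine ⟨QuotientGroup.mk (⟨n, hn⟩ : N), QuotientGroup.eq.mpr (hVT ?_)⟩
    have := (inferInstance : V.Normal).conj_mem v hv n⁻¹
    simpa [mul_assoc] using this

/-- A criterion for the quotient to have trivial `p'`-core. -/
theorem pPrimeCore_quotient_of_key {p : ℕ} [Fact p.Prime] (Z : Subgroup G) [Z.Normal]
    (hZ : Z ≤ pCore p G) (hC : Subgroup.centralizer (pCore p G : Set G) ≤ pCore p G)
    (hkey : ∀ Y : Subgroup G, Y.Normal → Z ≤ Y → Y ⊓ pCore p G ≤ Z → ¬ p ∣ Z.relIndex Y →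
      ∀ y ∈ Y, ¬ p ∣ orderOf y → y ∈ Subgroup.centralizer (pCore p G : Set G)) :
    pPrimeCore p (G ⧸ Z) = ⊥ := by
  have hp := (Fact.out : p.Prime)
  set f := QuotientGroup.mk' Z with hf
  set Yb := pPrimeCore p (G ⧸ Z) with hYb
  haveI := CfsgLib.Solvable.pPrimeCore_normal p (G ⧸ Z)
  set Y := Yb.comap f with hY
  have hZY : Z ≤ Y := fun z hz => by
    rw [hY, Subgroup.mem_comap, hf, QuotientGroup.mk'_apply, (QuotientGroup.eq_one_iff z).mpr hz]
    exact one_mem _
  have hYp : (Nat.card Yb).Coprime p := CfsgLib.Solvable.pPrimeCore_card_coprime p _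
  have hrel : Z.relIndex Y = Nat.card Yb := by
    conv_lhs => rw [← QuotientGroup.ker_mk' Z]
    rw [Subgroup.relIndex_ker]
    exact congrArg (fun S : Subgroup (G ⧸ Z) => Nat.card S)
      (Subgroup.map_comap_eq_self_of_surjective (QuotientGroup.mk'_surjective Z) Yb)
  have hYU : Y ⊓ pCore p G ≤ Z := by
    intro y hy
    obtain ⟨hy1, hy2⟩ := Subgroup.mem_inf.mp hy
    rw [← QuotientGroup.eq_one_iff, ← orderOf_eq_one_iff]
    obtain ⟨k, hk⟩ := (CfsgLib.Solvable.pCore_isPGroup p G) ⟨y, hy2⟩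
    refine Nat.eq_one_of_dvd_coprimes (hYp.pow_right k) ?_ ?_
    · exact Subgroup.orderOf_dvd_natCard _ hy1
    · refine orderOf_dvd_of_pow_eq_one ?_
      rw [← QuotientGroup.mk_pow]
      have := congrArg Subtype.val hk
      simp only [SubmonoidClass.coe_pow, OneMemClass.coe_one] at this
      rw [this, QuotientGroup.mk_one]
  have hprel : ¬ p ∣ Z.relIndex Y := by
    rw [hrel]
    exact hp.coprime_iff_not_dvd.mp hYp.symm
  have hone : ∀ y ∈ Y, ¬ p ∣ orderOf y → y = 1 := by
    intro y hy hpy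
    have h1 := hC (hkey Y inferInstance hZY hYU hprel y hy hpy)
    obtain ⟨k, hk⟩ := (CfsgLib.Solvable.pCore_isPGroup p G) ⟨y, h1⟩
    rw [← orderOf_eq_one_iff]
    refine Nat.eq_one_of_dvd_coprimes ((hp.coprime_iff_not_dvd.mpr hpy).symm.pow_right k) dvd_rfl ?_
    exact orderOf_dvd_of_pow_eq_one (congrArg Subtype.val hk)
  by_contra hne
  obtain ⟨r, hr, hrd⟩ := Nat.exists_prime_and_dvd
    (fun h => hne (Subgroup.eq_bot_of_card_eq _ h))
  haveI : Fact r.Prime := ⟨hr⟩
  have hrp : ¬ p ∣ r := by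
    intro h
    rw [← (Nat.prime_dvd_prime_iff_eq hp hr).mp h] at hrd
    exact hp.coprime_iff_not_dvd.mp hYp.symm hrd
  have hrY : r ∣ Nat.card Y := by
    rw [← Subgroup.card_mul_index (Z.subgroupOf Y)]
    exact dvd_mul_of_dvd_right (show r ∣ Z.relIndex Y by rw [hrel]; exact hrd) _
  obtain ⟨⟨y, hy⟩, hy'⟩ := exists_prime_orderOf_dvd_card' r hrY
  rw [← Subgroup.orderOf_coe] at hy'
  simp only at hy'
  have := hone y hy (by rw [hy']; exact hrp)
  rw [this, orderOf_one] at hy'
  exact hr.ne_one hy'.symm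

/-- The core of the argument: the semidirect case. -/
theorem semidirect_false {p q : ℕ} [Fact p.Prime] [Fact q.Prime] (hpq : p ≠ q)
    (V N H0 : Subgroup G) [V.Normal] (hVp : IsPGroup p V) (hVc : ∀ x ∈ V, ∀ y ∈ V, x * y = y * x)
    (hCV : Subgroup.centralizer (V : Set G) ≤ V) (hdisj : Disjoint V N) (hsup : V ⊔ N = ⊤)
    (hH0N : H0 ≤ N) [(H0.subgroupOf N).Normal] (hH0p : ¬ p ∣ Nat.card H0)
    (hH0i : ¬ q ∣ (H0.subgroupOf N).index) (hq : q ∣ Nat.card N) (hNq : IsPSolvable q N)
    (hchar : PrimeDeg p q G) : False := by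
  classical
  haveI := Fintype.ofFinite G
  have hp := (Fact.out : p.Prime)
  have hqp := (Fact.out : q.Prime)
  -- the projection onto `N`
  have hex : ∀ g : G, ∃ n : N, g * (n : G)⁻¹ ∈ V := fun g => by
    obtain ⟨v, hv, n, hn, rfl⟩ := Subgroup.mem_sup_of_normal_left.mp
      (show g ∈ V ⊔ N by rw [hsup]; exact Subgroup.mem_top g)
    exact ⟨⟨n, hn⟩, by simpa using hv⟩
  choose π hπ using hex
  have huniq : ∀ (g : G) (n : N), g * (n : G)⁻¹ ∈ V → π g = n := fun g n h => by
    refine Subtype.ext ?_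
    have h1 : (π g : G) * (n : G)⁻¹ ∈ V := by
      have := V.mul_mem (V.inv_mem (hπ g)) h
      simpa [mul_assoc] using this
    exact mul_inv_eq_one.mp (Subgroup.disjoint_def.mp hdisj h1
      (N.mul_mem (π g).2 (N.inv_mem n.2)))
  have hπmul : ∀ g g' : G, π (g * g') = π g * π g' := fun g g' => huniq _ _ (by
    have h1 := V.mul_mem (hπ g) ((inferInstance : V.Normal).conj_mem _ (hπ g') (π g : G))
    simpa [mul_assoc] using h1)
  let πh : G →* N :=
    { toFun := π
      map_one' := huniq _ _ (by simp)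
      map_mul' := hπmul }
  have hπsurj : Function.Surjective πh := fun n => ⟨n, huniq _ _ (by simp)⟩
  have hcharN : PrimeDeg p q N := hchar.of_surjective πh hπsurj
  haveI := Fintype.ofFinite N
  -- Sylow `p`-subgroups
  obtain ⟨P⟩ := (inferInstance : Nonempty (Sylow p G))
  have hVP : V ≤ (P : Subgroup G) :=
    (CfsgLib.Solvable.le_pCore inferInstance hVp).trans (CfsgLib.Solvable.pCore_le_sylow P)
  let P0 : Sylow p N := IsPGroup.toSylow (P := (P : Subgroup G).subgroupOf N)
    (P.isPGroup'.comap_of_injective N.subtype N.subtype_injective)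
    (by rw [index_subgroupOf_of_sup hsup hVP]; exact P.not_dvd_index)
  -- the layers `M ≤ R`
  set H' := H0.subgroupOf N with hH'
  haveI := CfsgLib.Solvable.pPrimeCore_normal q N
  set Kq := pPrimeCore q N with hKq
  haveI := CfsgLib.Solvable.pCore_normal q (N ⧸ Kq)
  set X := (pCore q (N ⧸ Kq)).comap (QuotientGroup.mk' Kq) with hX
  set M := H' ⊓ Kq with hM
  set R := H' ⊓ X with hR
  have hKX : Kq ≤ X := fun z hz => by
    rw [hX, Subgroup.mem_comap, QuotientGroup.mk'_apply, (QuotientGroup.eq_one_iff z).mpr hz]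
    exact one_mem _
  have hMR : M ≤ R := inf_le_inf_left _ hKX
  have hRp : ¬ p ∣ Nat.card R := fun h => hH0p (by
    rw [← Nat.card_congr (Subgroup.subgroupOfEquivOfLe hH0N).toEquiv]
    exact h.trans (Subgroup.card_dvd_of_le inf_le_left))
  have hMq : ¬ q ∣ Nat.card M := fun h =>
    hqp.coprime_iff_not_dvd.mp (CfsgLib.Solvable.pPrimeCore_card_coprime q N).symm
      (h.trans (Subgroup.card_dvd_of_le inf_le_right))
  obtain ⟨a, ha⟩ := IsPGroup.iff_card.mp (CfsgLib.Solvable.pCore_isPGroup q (N ⧸ Kq))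
  have hRM : ∃ k, M.relIndex R = q ^ k := by
    have h1 : M.relIndex R = Kq.relIndex R := by
      rw [← Subgroup.inf_relIndex_right M R, ← Subgroup.inf_relIndex_right Kq R]
      congr 1
      refine le_antisymm (inf_le_inf_right _ inf_le_right) (le_inf ?_ inf_le_right)
      exact le_inf (inf_le_right.trans inf_le_left) inf_le_left
    have h2 : Kq.relIndex R ∣ q ^ a := by
      rw [← ha]
      conv_lhs => rw [← QuotientGroup.ker_mk' Kq]
      rw [Subgroup.relIndex_ker]
      exact Subgroup.card_dvd_of_le (Subgroup.map_le_iff_le_comap.mpr inf_le_right)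
    obtain ⟨j, -, hj⟩ := (Nat.dvd_prime_pow hqp).mp h2
    exact ⟨j, h1.trans hj⟩
  have hqX : q ∣ Nat.card X := by
    have hne : pCore q (N ⧸ Kq) ≠ ⊥ := by
      intro h0
      have h1 := CfsgLib.Blocks82.centralizer_pCore_le (CfsgLib.Blocks82.isPSolvable_quotient hNq Kq)
        (CfsgLib.Solvable.pPrimeCore_quotient_eq_bot Kq hKq)
      rw [h0] at h1
      have h2 : Nat.card (N ⧸ Kq) = 1 := by
        have : (⊤ : Subgroup (N ⧸ Kq)) ≤ ⊥ := fun x _ => h1 (Subgroup.mem_centralizer_iff.mpr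
          fun y hy => by rw [Subgroup.mem_bot.mp hy, one_mul, mul_one])
        rw [← Subgroup.card_top, eq_bot_iff.mpr this, Subgroup.card_bot]
      have h3 := Kq.card_mul_index
      rw [Subgroup.index_eq_card, h2, mul_one] at h3
      exact hqp.coprime_iff_not_dvd.mp (CfsgLib.Solvable.pPrimeCore_card_coprime q N).symm (h3 ▸ hq)
    have ha0 : a ≠ 0 := fun h => hne (Subgroup.eq_bot_of_card_eq _ (by rw [ha, h, pow_zero]))
    refine (dvd_pow_self q ha0).trans ?_
    rw [← ha, ← Subgroup.map_comap_eq_self_of_surjective (QuotientGroup.mk'_surjective Kq)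
      (pCore q (N ⧸ Kq))]
    exact Subgroup.card_map_dvd _ _
  have hqR : q ∣ Nat.card R := by
    have h1 := Subgroup.card_mul_index (H'.subgroupOf X)
    rw [Subgroup.inf_subgroupOf_right H' X |>.symm,
      Nat.card_congr (Subgroup.subgroupOfEquivOfLe (inf_le_right : H' ⊓ X ≤ X)).toEquiv] at h1
    rcases hqp.dvd_mul.mp (h1 ▸ hqX) with h | h
    · exact h
    · rw [Subgroup.inf_subgroupOf_right] at h
      exact absurd (h.trans (Subgroup.relIndex_dvd_index_of_normal H' X)) hH0i
  -- an invariant Sylow `q`-subgroup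
  obtain ⟨b, hb⟩ := IsPGroup.iff_card.mp P0.isPGroup'
  have hcopR : ∀ K : Subgroup N, K ≤ R → (Nat.card (P0 : Subgroup N)).Coprime (Nat.card K) := by
    intro K hK
    rw [hb]
    exact (hp.coprime_iff_not_dvd.mpr fun h => hRp (h.trans (Subgroup.card_dvd_of_le hK))).pow_left b
  have hPs : Group.IsSolvable (P0 : Subgroup N) := by
    haveI : Group.IsNilpotent (P0 : Subgroup N) := P0.isPGroup'.isNilpotent
    infer_instance
  have hPR : (P0 : Subgroup N) ≤ Subgroup.normalizer (R : Set N) := by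
    rw [Subgroup.normalizer_eq_top]
    exact le_top
  obtain ⟨Qs, hQs⟩ := CfsgLib.Solvable.exists_invariant_sylow hPR (hcopR R le_rfl) (Or.inl hPs) q
  set Q := (Qs : Subgroup R).map R.subtype with hQdef
  have hQR : Q ≤ R := Subgroup.map_subtype_le _
  have hQp : IsPGroup q Q := Qs.isPGroup'.map _
  have hQi : ¬ q ∣ Q.relIndex R := by
    rw [Subgroup.relIndex, hQdef, Subgroup.subgroupOf, Subgroup.comap_map_eq_self_of_injective
      R.subtype_injective]
    exact Qs.not_dvd_index
  have hfixnorm := fixed_normalizes P0 M R hMR hpq hRp hMq hRM hcharN Q hQR hQp hQi hQs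
  have hQS : ∀ S : Subgroup N, (P0 : Subgroup N) ≤ S → ¬ q ∣ S.index → Q ≤ S := by
    intro S hPS hSq
    have hK : (P0 : Subgroup N) ≤ Subgroup.normalizer ((S ⊓ R : Subgroup N) : Set N) := by
      rw [Subgroup.le_normalizer_iff]
      intro x hx y hy
      obtain ⟨hy1, hy2⟩ := Subgroup.mem_inf.mp hy
      exact Subgroup.mem_inf.mpr ⟨S.mul_mem (S.mul_mem (hPS hx) hy1) (S.inv_mem (hPS hx)),
        (inferInstance : R.Normal).conj_mem y hy2 x⟩
    obtain ⟨Q1, hQ1⟩ := CfsgLib.Solvable.exists_invariant_sylow hK (hcopR _ inf_le_right)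
      (Or.inl hPs) q
    set Q1' := (Q1 : Subgroup (S ⊓ R : Subgroup N)).map (S ⊓ R : Subgroup N).subtype with hQ1'
    have hQ1le : Q1' ≤ S ⊓ R := Subgroup.map_subtype_le _
    have hQ1i : ¬ q ∣ (Q1'.subgroupOf R).index := by
      show ¬ q ∣ Q1'.relIndex R
      rw [← Subgroup.relIndex_mul_relIndex _ _ _ hQ1le inf_le_right, hqp.dvd_mul,
        Subgroup.inf_relIndex_right]
      rintro (h | h)
      · rw [Subgroup.relIndex, hQ1', Subgroup.subgroupOf, Subgroup.comap_map_eq_self_of_injective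
          (S ⊓ R : Subgroup N).subtype_injective] at h
        exact Q1.not_dvd_index h
      · exact hSq (h.trans (relIndex_dvd_index S R))
    let Q1R : Sylow q R := IsPGroup.toSylow (P := Q1'.subgroupOf R)
      ((Q1.isPGroup'.map _).comap_of_injective R.subtype R.subtype_injective) hQ1i
    have hQ1R : (Q1R : Subgroup R).map R.subtype = Q1' :=
      Subgroup.map_subgroupOf_eq_of_le (hQ1le.trans inf_le_right)
    obtain ⟨c, hc, hcQ⟩ := CfsgLib.Solvable.exists_invariant_sylow_conj hPR (hcopR R le_rfl)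
      (Or.inl hPs) Qs Q1R hQs (by rw [hQ1R]; exact hQ1)
    have hcn : (c : N) ∈ Subgroup.normalizer (Q : Set N) :=
      hfixnorm (Subgroup.mem_inf.mpr ⟨c.2, hc⟩)
    have h2 : Q1' = Q := by
      rw [← hQ1R, ← hcQ, ← CfsgLib.Solvable.conj_smul_eq_self_iff.mpr hcn]
      change (MulAut.conj c • (Qs : Subgroup R)).map R.subtype = _
      rw [CfsgLib.Solvable.map_conj_smul]
      rfl
    exact h2 ▸ hQ1le.trans inf_le_left
  have hQne : Q ≠ ⊥ := by
    intro h
    rw [h, Subgroup.relIndex_bot_left] at hQi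
    exact hQi hqR
  -- a linear character of `V` fixed by `P` and trivial on the centraliser of `Q`
  let _ : CommGroup V := { (inferInstance : Group V) with
    mul_comm := fun x y => Subtype.ext (hVc x x.2 y y.2) }
  set Qm := Q.map N.subtype with hQm
  set D : Subgroup V := (Subgroup.centralizer (Qm : Set G)).subgroupOf V with hD
  have hDtop : D ≠ ⊤ := by
    intro h
    refine hQne (eq_bot_iff.mpr fun x hx => ?_)
    have h1 : (x : G) ∈ V := hCV (Subgroup.mem_centralizer_iff.mpr fun v hv => by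
      have h2 : (⟨v, hv⟩ : V) ∈ D := h ▸ Subgroup.mem_top _
      exact (Subgroup.mem_centralizer_iff.mp (Subgroup.mem_subgroupOf.mp h2) x
        ⟨x, hx, rfl⟩).symm)
    exact Subgroup.mem_bot.mpr (Subtype.ext (Subgroup.disjoint_def.mp hdisj h1 x.2))
  have hDinv : ∀ x ∈ (P : Subgroup G), ∀ d : V, d ∈ D → MulAut.conjNormal (H := V) x⁻¹ d ∈ D := by
    intro x hx d hd
    rw [hD, Subgroup.mem_subgroupOf, MulAut.conjNormal_apply, inv_inv]
    have hn : x * (π x : G)⁻¹ ∈ V := hπ x
    set w : G := x * (π x : G)⁻¹ with hw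
    have hxw : x = w * π x := by simp [hw]
    have hπP : π x ∈ (P0 : Subgroup N) := by
      show (π x : G) ∈ (P : Subgroup G)
      have := (P : Subgroup G).mul_mem ((P : Subgroup G).inv_mem (hVP hn)) hx
      rwa [hxw, inv_mul_cancel_left] at this
    have hcomm : w⁻¹ * (d : G) * w = d := by
      rw [mul_assoc, hVc d d.2 w hn, inv_mul_cancel_left]
    have e : x⁻¹ * (d : G) * x = (π x : G)⁻¹ * d * π x := by
      calc x⁻¹ * (d : G) * x = (π x : G)⁻¹ * (w⁻¹ * d * w) * π x := by
            conv_lhs => rw [hxw]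
            group
        _ = (π x : G)⁻¹ * d * π x := by rw [hcomm]
    rw [e]
    refine Subgroup.mem_centralizer_iff.mpr ?_
    rintro _ ⟨y, hy, rfl⟩
    have hy' := (Subgroup.mem_normalizer_iff.mp (hQs hπP) y).mp hy
    have h2 := Subgroup.mem_centralizer_iff.mp hd _ ⟨_, hy', rfl⟩
    simp only [Subgroup.coe_subtype, Subgroup.coe_mul, Subgroup.coe_inv] at h2 ⊢
    calc (y : G) * ((π x : G)⁻¹ * d * π x)
        = (π x : G)⁻¹ * (((π x : G) * y * (π x : G)⁻¹) * d) * π x := by group
      _ = (π x : G)⁻¹ * (d * ((π x : G) * y * (π x : G)⁻¹)) * π x := by rw [h2]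
      _ = (π x : G)⁻¹ * d * π x * y := by group
  let Λ := {l : V →* ℂˣ // ∀ d ∈ D, l d = 1}
  let _ : MulAction (P : Subgroup G) Λ :=
    { smul := fun x l => ⟨l.1.comp (MulAut.conjNormal (H := V) (x : G)⁻¹).toMonoidHom,
        fun d hd => l.2 _ (hDinv x x.2 d hd)⟩
      one_smul := fun l => Subtype.ext (MonoidHom.ext fun v =>
        congrArg l.1 (Subtype.ext (by simp [MulAut.conjNormal_apply])))
      mul_smul := fun x y l => Subtype.ext (MonoidHom.ext fun v =>
        congrArg l.1 (Subtype.ext (by simp [MulAut.conjNormal_apply, mul_assoc]))) }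
  haveI : Finite Λ := Subtype.finite
  have hΛ : p ∣ Nat.card Λ := by
    let e : Λ ≃ (V ⧸ D →* ℂˣ) :=
      { toFun := fun l => QuotientGroup.lift D l.1 fun d hd => MonoidHom.mem_ker.mpr (l.2 d hd)
        invFun := fun m => ⟨m.comp (QuotientGroup.mk' D), fun d hd => by
          rw [MonoidHom.comp_apply, QuotientGroup.mk'_apply, (QuotientGroup.eq_one_iff d).mpr hd,
            map_one]⟩
        left_inv := fun l => Subtype.ext (MonoidHom.ext fun v => rfl)
        right_inv := fun m => MonoidHom.ext fun v => by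
          induction v using QuotientGroup.induction_on with
          | H v => rfl }
    rw [Nat.card_congr e, CommGroup.card_monoidHom_of_hasEnoughRootsOfUnity]
    obtain ⟨k, hk⟩ := IsPGroup.iff_card.mp (hVp.to_quotient D)
    rw [hk]
    refine dvd_pow_self p fun h => hDtop (Subgroup.index_eq_one.mp ?_)
    rw [Subgroup.index_eq_card, hk, h, pow_zero]
  obtain ⟨⟨l, hlD⟩, hlfix, hlne⟩ := P.isPGroup'.exists_fixed_point_of_prime_dvd_card_of_fixed_point
    Λ hΛ (a := ⟨1, fun _ _ => rfl⟩) (fun x => Subtype.ext (MonoidHom.ext fun v => rfl))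
  -- it induces from its inertia group
  haveI : Fintype V := Fintype.ofFinite _
  set fV : V → ℂ := fun v => (l v : ℂ) with hfV
  have hfirr : IsIrrCharacter V fV := CfsgLib.Char.isIrrCharacter_linear l
  set T := CharTwist.inertia V fV with hTdef
  have hmemT : ∀ t ∈ T, ∀ v : V, l (MulAut.conjNormal (H := V) t v) = l v := fun t ht v =>
    Units.ext (congrFun (CharTwist.mem_inertia.mp ht) v)
  have hPT : (P : Subgroup G) ≤ T := by
    intro x hx
    refine CharTwist.mem_inertia.mpr (funext fun v => ?_)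
    have h1 := DFunLike.congr_fun (congrArg Subtype.val (hlfix ⟨x⁻¹, inv_mem hx⟩)) v
    refine congrArg Units.val (Eq.trans ?_ h1)
    exact congrArg l (Subtype.ext (by simp [MulAut.conjNormal_apply]))
  have hVT : V ≤ T := hVP.trans hPT
  have hπT : ∀ t ∈ T, (π t : G) ∈ T := fun t ht => by
    have := T.mul_mem (T.inv_mem (hVT (hπ t))) ht
    simpa [mul_assoc] using this
  let ν : T →* ℂˣ :=
    { toFun := fun t => l ⟨(t : G) * (π t : G)⁻¹, hπ t⟩
      map_one' := by
        refine Eq.trans (congrArg l (Subtype.ext ?_)) (map_one l)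
        simp [show π (1 : G) = 1 from map_one πh]
      map_mul' := fun t t' => by
        have h1 : (⟨((t * t' : T) : G) * (π (t * t' : T) : G)⁻¹, hπ _⟩ : V) =
            ⟨(t : G) * (π t : G)⁻¹, hπ t⟩ *
              MulAut.conjNormal (H := V) (π t : G) ⟨(t' : G) * (π t' : G)⁻¹, hπ t'⟩ := by
          refine Subtype.ext ?_
          simp [hπmul, MulAut.conjNormal_apply, mul_assoc]
        rw [h1, map_mul, hmemT _ (hπT t t.2)] }
  have hνV : ∀ v : V, (ν ⟨v, hVT v.2⟩ : ℂ) = fV v := fun v => by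
    refine congrArg (fun w => (l w : ℂ)) (Subtype.ext ?_)
    simp [huniq (v : G) 1 (by simp)]
  haveI : Fintype T := Fintype.ofFinite _
  have hres : (fun v : V => (fun t : T => (ν t : ℂ)) ⟨v, hVT v.2⟩) = fV := funext hνV
  obtain ⟨hirr, -, -⟩ := CfsgLib.CliffordOver.isIrrCharacter_indFun V T hVT hfirr le_rfl
    (CfsgLib.Char.isIrrCharacter_linear ν) (by
      rw [hres, CfsgLib.Char.classInner_irr_self hfirr]
      exact one_ne_zero)
  have hdeg : charDegree (Cfsg.indFun T fun t : T => (ν t : ℂ)) = T.index := by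
    simp [charDegree, CfsgLib.Char.indFun_apply_one]
  have hTq : ¬ q ∣ T.index := hdeg ▸ hchar ⟨_, hirr⟩ (hdeg.symm ▸ fun h =>
    P.not_dvd_index (h.trans (Subgroup.index_dvd_of_le hPT)))
  have hQT : Q ≤ T.subgroupOf N :=
    hQS _ (fun x hx => Subgroup.mem_subgroupOf.mpr (hPT hx))
      (by rwa [index_subgroupOf_of_sup hsup hVT])
  -- so it is trivial
  obtain ⟨e, he⟩ := IsPGroup.iff_card.mp hQp
  refine hlne.symm (Subtype.ext (MonoidHom.ext fun v => ?_))
  show l v = 1
  haveI : Fintype Q := Fintype.ofFinite _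
  have hprod : (∏ x : Q, MulAut.conjNormal (H := V) ((x : N) : G) v) ∈ D := by
    rw [hD, Subgroup.mem_subgroupOf]
    refine Subgroup.mem_centralizer_iff.mpr ?_
    rintro _ ⟨y, hy, rfl⟩
    have h1 : MulAut.conjNormal (H := V) (y : G) (∏ x : Q, MulAut.conjNormal (H := V) ((x : N) : G) v) =
        ∏ x : Q, MulAut.conjNormal (H := V) ((x : N) : G) v := by
      rw [map_prod]
      exact Fintype.prod_equiv (Equiv.mulLeft (⟨y, hy⟩ : Q)) _ _ fun x =>
        Subtype.ext (by simp [MulAut.conjNormal_apply, mul_assoc])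
    have h2 := congrArg Subtype.val h1
    rw [MulAut.conjNormal_apply, mul_inv_eq_iff_eq_mul] at h2
    exact h2
  have h1 := hlD _ hprod
  rw [map_prod, Finset.prod_congr rfl fun (x : Q) _ => hmemT _ (Subgroup.mem_subgroupOf.mp (hQT x.2)) v,
    Finset.prod_const, Finset.card_univ, ← Nat.card_eq_fintype_card, he] at h1
  obtain ⟨k, hk⟩ := hVp v
  have h2 : (l v) ^ p ^ k = 1 := by rw [← map_pow, hk, map_one]
  rw [← orderOf_eq_one_iff]
  exact Nat.eq_one_of_dvd_coprimes ((Nat.coprime_primes hp hqp).mpr hpq |>.pow k e)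
    (orderOf_dvd_of_pow_eq_one h2) (orderOf_dvd_of_pow_eq_one h1)

/-- Main result. -/
theorem not_dvd_card_of_primeDeg {p q : ℕ} [Fact p.Prime] [Fact q.Prime] (hpq : p ≠ q) :
    ∀ (n : ℕ) (G : Type u) [Group G] [Finite G], Nat.card G = n → IsPSolvable p G →
      IsPSolvable q G → pPrimeCore p G = ⊥ → PrimeDeg p q G → ¬ q ∣ Nat.card G := by
  intro n
  induction n using Nat.strong_induction_on with
  | _ n ih =>
  intro G _ _ hn hps hqs hO hchar hqG
  classical
  have hp := (Fact.out : p.Prime)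
  have hqp := (Fact.out : q.Prime)
  haveI hUn := CfsgLib.Solvable.pCore_normal p G
  set U := pCore p G with hU
  have hUp : IsPGroup p U := CfsgLib.Solvable.pCore_isPGroup p G
  have hCU := CfsgLib.Blocks82.centralizer_pCore_le hps hO
  have hUne : U ≠ ⊥ := by
    intro h
    have h1 : (⊤ : Subgroup G) ≤ ⊥ := fun x _ => h ▸ hCU (by
      rw [← hU, h]
      exact Subgroup.mem_centralizer_iff.mpr fun y hy => by
        rw [Subgroup.mem_bot.mp hy, one_mul, mul_one])
    rw [← Subgroup.card_top, eq_bot_iff.mpr h1, Subgroup.card_bot] at hqG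
    exact hqp.ne_one (Nat.dvd_one.mp hqG)
  have hred : ∀ Z : Subgroup G, ∀ (_ : Z.Normal), Z ≠ ⊥ → pPrimeCore p (G ⧸ Z) = ⊥ →
      ¬ q ∣ Z.index := by
    intro Z _ hZne hcore
    rw [Subgroup.index_eq_card]
    refine ih (Nat.card (G ⧸ Z)) ?_ (G ⧸ Z) rfl (CfsgLib.Blocks82.isPSolvable_quotient hps Z)
      (CfsgLib.Blocks82.isPSolvable_quotient hqs Z) hcore
      (hchar.of_surjective (QuotientGroup.mk' Z) (QuotientGroup.mk'_surjective Z))
    rw [← hn, Subgroup.card_eq_card_quotient_mul_card_subgroup Z]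
    exact lt_mul_right Nat.card_pos (Z.one_lt_card_iff_ne_bot.mpr hZne)
  have hredp : ∀ Z : Subgroup G, ∀ (_ : Z.Normal), Z ≤ U → Z ≠ ⊥ →
      pPrimeCore p (G ⧸ Z) = ⊥ → False := by
    intro Z hZ hZU hZne hcore
    obtain ⟨k, hk⟩ := IsPGroup.iff_card.mp (hUp.to_le hZU)
    rw [← Z.card_mul_index, hk] at hqG
    rcases hqp.dvd_mul.mp hqG with h | h
    · exact hpq ((Nat.prime_dvd_prime_iff_eq hqp hp).mp (hqp.dvd_of_dvd_pow h)).symm
    · exact hred Z hZ hZne hcore h
  -- the core is abelian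
  have hfrat : frattini U = ⊥ := by
    by_contra h
    set Z := (frattini U).map U.subtype with hZ
    haveI : Z.Normal := CfsgLib.Solvable.normal_map_subtype_of_characteristic U _
    refine hredp Z inferInstance (Subgroup.map_subtype_le _)
      (fun h0 => h ((Subgroup.map_eq_bot_iff_of_injective _ U.subtype_injective).mp h0))
      (pPrimeCore_quotient_of_key Z (Subgroup.map_subtype_le _) hCU fun Y hY _ hYU _ y hy hpy => ?_)
    have hle : Subgroup.zpowers y ≤ Y := Subgroup.zpowers_le.mpr hy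
    refine CfsgLib.Solvable.le_centralizer_of_trivial_on_frattini_quotient ?_ (fun a ha u hu => hYU
      (Subgroup.mem_inf.mpr ⟨?_, ?_⟩)) (Subgroup.mem_zpowers y)
    · obtain ⟨k, hk⟩ := IsPGroup.iff_card.mp (hUp.to_subgroup (frattini U))
      rw [Nat.card_zpowers, hk]
      exact ((hp.coprime_iff_not_dvd.mpr hpy).symm).pow_right k
    · have := Y.mul_mem (hle ha) (hY.conj_mem _ (Y.inv_mem (hle ha)) u)
      simpa [mul_assoc] using this
    · exact U.mul_mem (hUn.conj_mem u hu a) (U.inv_mem hu)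
  have hVc : ∀ x ∈ U, ∀ y ∈ U, x * y = y * x := by
    intro x hx y hy
    have h1 : ⁅(⟨x, hx⟩ : U), ⟨y, hy⟩⁆ ∈ frattini U := CfsgLib.PGroup.commutator_le_frattini hUp
      (Subgroup.commutator_mem_commutator (Subgroup.mem_top _) (Subgroup.mem_top _))
    rw [hfrat, Subgroup.mem_bot, commutatorElement_eq_one_iff_mul_comm] at h1
    exact congrArg Subtype.val h1
  -- the preimage of the `p'`-core modulo `U`
  set f := QuotientGroup.mk' U with hf
  haveI := CfsgLib.Solvable.pPrimeCore_normal p (G ⧸ U)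
  set H := (pPrimeCore p (G ⧸ U)).comap f with hH
  have hUH : U ≤ H := fun z hz => by
    rw [hH, Subgroup.mem_comap, hf, QuotientGroup.mk'_apply, (QuotientGroup.eq_one_iff z).mpr hz]
    exact one_mem _
  have hHmax : ∀ Y : Subgroup G, Y.Normal → ¬ p ∣ Nat.card (Y.map f) → Y ≤ H := by
    intro Y hY hYc
    rw [hH, ← Subgroup.map_le_iff_le_comap]
    exact CfsgLib.Solvable.le_pPrimeCore (hY.map f (QuotientGroup.mk'_surjective U))
      (hp.coprime_iff_not_dvd.mpr hYc).symm
  have hHrel : ¬ p ∣ (U.subgroupOf H).index := by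
    show ¬ p ∣ U.relIndex H
    conv => arg 1; arg 2; rw [← QuotientGroup.ker_mk' U]
    rw [Subgroup.relIndex_ker,
      show Nat.card (H.map f) = Nat.card (pPrimeCore p (G ⧸ U)) from
        congrArg (fun S : Subgroup (G ⧸ U) => Nat.card S)
          (Subgroup.map_comap_eq_self_of_surjective (QuotientGroup.mk'_surjective U) _)]
    exact hp.coprime_iff_not_dvd.mp (CfsgLib.Solvable.pPrimeCore_card_coprime p _).symm
  have hCbot : U ⊓ Subgroup.centralizer (H : Set G) = ⊥ := by
    by_contra h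
    set Z := U ⊓ Subgroup.centralizer (H : Set G) with hZ
    refine hredp Z inferInstance inf_le_left h
      (pPrimeCore_quotient_of_key Z inf_le_left hCU fun Y hY hZY hYU hYp y hy hpy => ?_)
    have hyH : y ∈ H := by
      refine hHmax Y hY (fun hd => hYp ?_) hy
      have h1 : Nat.card (Y.map f) = U.relIndex Y := by
        conv_rhs => rw [← QuotientGroup.ker_mk' U]
        rw [Subgroup.relIndex_ker]
      exact (h1 ▸ hd).trans (Subgroup.relIndex_dvd_of_le_left Y inf_le_left)
    refine Subgroup.mem_centralizer_iff.mpr fun v hv => ?_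
    set c := y * v * y⁻¹ * v⁻¹ with hc
    have hcZ : c ∈ Z := hYU (Subgroup.mem_inf.mpr ⟨by
      have := Y.mul_mem hy (hY.conj_mem _ (Y.inv_mem hy) v)
      simpa [hc, mul_assoc] using this, U.mul_mem (hUn.conj_mem v hv y) (U.inv_mem hv)⟩)
    have hcy : y * c = c * y := (Subgroup.mem_centralizer_iff.mp (Subgroup.mem_inf.mp hcZ).2 y hyH)
    have hpow : ∀ k : ℕ, y ^ k * v * (y ^ k)⁻¹ = c ^ k * v := by
      intro k
      induction k with
      | zero => simp
      | succ k ihk =>
        have h2 : y * c ^ k = c ^ k * y := (show Commute y c from hcy).pow_right k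
        calc y ^ (k + 1) * v * (y ^ (k + 1))⁻¹ = y * (y ^ k * v * (y ^ k)⁻¹) * y⁻¹ := by
              rw [pow_succ']; group
          _ = c ^ k * (y * v * y⁻¹) := by rw [ihk, ← mul_assoc, h2]; group
          _ = c ^ (k + 1) * v := by rw [pow_succ, hc]; group
    have h3 := hpow (orderOf y)
    rw [pow_orderOf_eq_one, one_mul, inv_one, mul_one] at h3
    have h4 : c ^ orderOf y = 1 := by
      rw [← mul_inv_eq_one] at h3
      have := congrArg (·⁻¹) (h3 : v * (c ^ orderOf y * v)⁻¹ = 1)
      simpa [mul_assoc] using this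
    obtain ⟨k, hk⟩ := hUp ⟨c, (Subgroup.mem_inf.mp hcZ).1⟩
    have hc1 : c = 1 := orderOf_eq_one_iff.mp (Nat.eq_one_of_dvd_coprimes
      ((hp.coprime_iff_not_dvd.mpr hpy).symm.pow_right k) (orderOf_dvd_of_pow_eq_one h4)
      (orderOf_dvd_of_pow_eq_one (congrArg Subtype.val hk)))
    rw [hc, mul_inv_eq_one, mul_inv_eq_iff_eq_mul] at hc1
    exact hc1.symm
  -- the complement and its normaliser
  obtain ⟨a, ha⟩ := IsPGroup.iff_card.mp hUp
  have hcopH : (Nat.card (U.subgroupOf H)).Coprime (U.subgroupOf H).index := by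
    rw [Nat.card_congr (Subgroup.subgroupOfEquivOfLe hUH).toEquiv, ha]
    exact (hp.coprime_iff_not_dvd.mpr hHrel).pow_left a
  obtain ⟨K0, hK0⟩ := Subgroup.exists_right_complement'_of_coprime hcopH
  set H0 := K0.map H.subtype with hH0
  have hH0c : Nat.card H0 = (U.subgroupOf H).index := by
    rw [hH0, Subgroup.card_map_of_injective H.subtype_injective, hK0.symm.index_eq_card]
  have hH0p : ¬ p ∣ Nat.card H0 := hH0c ▸ hHrel
  have hH0H : H0 ≤ H := Subgroup.map_subtype_le _
  have hUH0 : U ⊔ H0 = H := by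
    have h1 := congrArg (Subgroup.map H.subtype) hK0.sup_eq_top
    rwa [Subgroup.map_sup, Subgroup.map_subgroupOf_eq_of_le hUH, ← MonoidHom.range_eq_map,
      Subgroup.range_subtype] at h1
  have hcop0 : (Nat.card U).Coprime (Nat.card H0) := by
    rw [ha]
    exact (hp.coprime_iff_not_dvd.mpr hH0p).pow_left a
  have hnormU : H0 ≤ Subgroup.normalizer (U : Set G) := by
    rw [Subgroup.normalizer_eq_top]
    exact le_top
  have hUsolv : Group.IsSolvable U := by
    haveI : Group.IsNilpotent U := hUp.isNilpotent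
    infer_instance
  set N := Subgroup.normalizer (H0 : Set G) with hN
  have hsup : U ⊔ N = ⊤ := by
    refine eq_top_iff.mpr fun g _ => ?_
    obtain ⟨v, hv, hvg⟩ := CfsgLib.Solvable.exists_conj_eq_of_coprime hnormU
      (B' := MulAut.conj g • H0) (by
        rw [CfsgLib.Solvable.conj_smul_le_iff, hUH0]
        exact fun x hx => (inferInstance : H.Normal).conj_mem x (hH0H hx) g)
      (CfsgLib.Solvable.card_conj_smul _ _) hcop0 (Or.inl hUsolv)
    have hm : v⁻¹ * g ∈ N := by
      rw [hN, ← CfsgLib.Solvable.conj_smul_eq_self_iff, map_mul, mul_smul, ← hvg, map_inv,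
        inv_smul_smul]
    exact Subgroup.mem_sup_of_normal_left.mpr ⟨v, hv, v⁻¹ * g, hm, mul_inv_cancel_left v g⟩
  have hdisj : Disjoint U N := by
    rw [disjoint_iff, eq_bot_iff, ← hCbot]
    rintro v ⟨hv, hvN⟩
    refine Subgroup.mem_inf.mpr ⟨hv, ?_⟩
    have hvH0 := CfsgLib.Solvable.inf_normalizer_le_centralizer hnormU
      (Subgroup.disjoint_of_coprime_natCard hcop0).symm ⟨hv, hvN⟩
    refine Subgroup.mem_centralizer_iff.mpr fun x hx => ?_
    rw [SetLike.mem_coe, ← hUH0, Subgroup.mem_sup_of_normal_left] at hx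
    obtain ⟨u, hu, w, hw, rfl⟩ := hx
    rw [mul_assoc, Subgroup.mem_centralizer_iff.mp hvH0 w hw, ← mul_assoc, hVc u hu v hv,
      mul_assoc]
  have hH0N : H0 ≤ N := Subgroup.le_normalizer
  haveI : (H0.subgroupOf N).Normal := Subgroup.normal_in_normalizer
  have hH0i : ¬ q ∣ (H0.subgroupOf N).index := by
    have h1 : H0.subgroupOf N = H.subgroupOf N := by
      refine le_antisymm (Subgroup.comap_mono hH0H) fun x hx => ?_
      rw [Subgroup.mem_subgroupOf, ← hUH0, Subgroup.mem_sup_of_normal_left] at hx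
      obtain ⟨u, hu, w, hw, he⟩ := hx
      have hu1 : u = 1 := Subgroup.disjoint_def.mp hdisj hu (by
        rw [show u = (x : G) * w⁻¹ by rw [← he, mul_inv_cancel_right]]
        exact N.mul_mem x.2 (N.inv_mem (hH0N hw)))
      rw [Subgroup.mem_subgroupOf, ← he, hu1, one_mul]
      exact hw
    rw [h1, index_subgroupOf_of_sup hsup hUH]
    refine hred H inferInstance (fun h => hUne (eq_bot_iff.mpr (h ▸ hUH))) ?_
    set g := QuotientGroup.mk' H with hg
    haveI := CfsgLib.Solvable.pPrimeCore_normal p (G ⧸ H)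
    have hle : (pPrimeCore p (G ⧸ H)).comap g ≤ H := by
      refine hHmax _ inferInstance ?_
      set Y := (pPrimeCore p (G ⧸ H)).comap g with hY
      have hHY : H ≤ Y := fun z hz => by
        rw [hY, Subgroup.mem_comap, hg, QuotientGroup.mk'_apply,
          (QuotientGroup.eq_one_iff z).mpr hz]
        exact one_mem _
      have e1 : Nat.card (Y.map f) = U.relIndex Y := by
        conv_rhs => rw [← QuotientGroup.ker_mk' U]
        rw [Subgroup.relIndex_ker]
      have e2 : H.relIndex Y = Nat.card (Y.map g) := by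
        conv_lhs => rw [← QuotientGroup.ker_mk' H]
        rw [Subgroup.relIndex_ker]
      rw [e1, ← Subgroup.relIndex_mul_relIndex U H Y hUH hHY, hp.dvd_mul, e2,
        Subgroup.map_comap_eq_self_of_surjective (QuotientGroup.mk'_surjective H)]
      rintro (h | h)
      · exact hHrel h
      · exact hp.coprime_iff_not_dvd.mp (CfsgLib.Solvable.pPrimeCore_card_coprime p _).symm h
    rw [eq_bot_iff]
    intro z hz
    obtain ⟨y, rfl⟩ := QuotientGroup.mk'_surjective H z
    exact Subgroup.mem_bot.mpr ((QuotientGroup.eq_one_iff y).mpr (hle hz))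
  refine semidirect_false hpq U N H0 hUp hVc hCU hdisj hsup hH0N hH0p hH0i ?_
    (CfsgLib.PLocal.isPSolvable_subgroup hqs N) hchar
  have hc : Nat.card G = Nat.card U * Nat.card N :=
    (Subgroup.isComplement'_of_disjoint_and_mul_eq_univ hdisj (by
      rw [← Subgroup.normal_mul, hsup, Subgroup.coe_top])).card_mul_card.symm
  rw [hc, ha] at hqG
  exact (hqp.dvd_mul.mp hqG).resolve_left fun h =>
    hpq ((Nat.prime_dvd_prime_iff_eq hqp hp).mp (hqp.dvd_of_dvd_pow h)).symm

end Solvable

end CfsgLib.RealChar.Cross
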