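import Cfsg.Agent.Lib.Char.Clifford
import Cfsg.Agent.Lib.Char.Linear
import Cfsg.Agent.Lib.Char.CentralOver
import Cfsg.Agent.Lib.CharTools.Basic
import Cfsg.Agent.Lib.CharDeep.Clifford
import Cfsg.Agent.Lib.Solvable.Core
import Cfsg.Agent.Lib.RealChar.CrossDegree
import Mathlib

/-!
# Degrees of faithful characters of groups with a non-normal Sylow subgroup

If a solvable group has a faithful irreducible character of degree `n` and a non-normal Sylow
`p`-subgroup, some prime power divisor of `n` is congruent to `-1`, `0` or `1` modulo `p`.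
-/

set_option autoImplicit false

open scoped ComplexConjugate

universe u

namespace CfsgLib.RealChar.DegSylow

attribute [local instance high] Fintype.ofFinite

open CfsgLib

variable {G : Type u} [Group G] [Finite G]

/-- The multiplicity in an abelian chief section: `1` or fully ramified. -/
theorem eq_one_or_sq_eq_index (N : Subgroup G) [N.Normal]
    (hab : ∀ a b : G, a * b * a⁻¹ * b⁻¹ ∈ N) {θ : G → ℂ} (hθ : Cfsg.IsIrrCharacter G θ)
    {φ : N → ℂ} (hφ : Cfsg.IsIrrCharacter N φ) (e : ℕ)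
    (he : (fun n : N => θ n) = (e : ℂ) • φ)
    (hgen : Subgroup.closure ((N : Set G) ∪ {g | θ g ≠ 0}) = N ∨
      Subgroup.closure ((N : Set G) ∪ {g | θ g ≠ 0}) = ⊤) :
    e = 1 ∨ e ^ 2 = N.index := by
  classical
  have hsplit := CharDeep.Cliff.card_eq_sum_split N hθ e hφ he
  have hNpos : (0 : ℝ) < Nat.card N := by exact_mod_cast Nat.card_pos
  rcases hgen with hJ | hJ
  · right
    have hz : ∀ g ∉ N, θ g = 0 := by
      intro g hg
      by_contra h
      exact hg (hJ.le (Subgroup.subset_closure (Or.inr h)))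
    rw [Finset.sum_eq_zero (fun g hg => by
      rw [hz g (Finset.mem_filter.mp hg).2]; simp), add_zero] at hsplit
    have h1 := N.card_mul_index
    rify at h1
    rw [← h1] at hsplit
    have := mul_left_cancel₀ hNpos.ne' hsplit
    exact_mod_cast this.symm
  · left
    -- sum of the linear characters of the quotient
    set S := {χ : Cfsg.IrrCharacter G // ∀ n ∈ N, (χ : G → ℂ) n = (χ : G → ℂ) 1}
    have habq : ∀ a b : G ⧸ N, a * b = b * a := by
      intro a b
      induction a using QuotientGroup.induction_on with | _ a => ?_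
      induction b using QuotientGroup.induction_on with | _ b => ?_
      rw [← QuotientGroup.mk_mul, ← QuotientGroup.mk_mul, QuotientGroup.eq]
      simpa [mul_assoc] using hab b⁻¹ a⁻¹
    have hlin : ∀ χ : S, (χ.1 : G → ℂ) 1 = 1 := by
      intro χ
      obtain ⟨ψ, hψ⟩ := CharTools.exists_descend N χ.1.2 χ.2
      rw [← hψ 1]
      exact (CharOver.abelian_irr habq ψ.2).1
    have hcol : ∀ g : G, ∑ χ : S, (χ.1 : G → ℂ) g = if g ∈ N then (N.index : ℂ) else 0 := by
      intro g
      have h := CharTools.sum_quotient_mul_conj N g 1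
      rw [Finset.sum_congr rfl (fun χ _ => by rw [hlin χ, map_one, mul_one])] at h
      rw [h]
      by_cases hg : g ∈ N
      · have hg1 : (g : G ⧸ N) = 1 := (QuotientGroup.eq_one_iff g).2 hg
        have hc : Subgroup.centralizer ({(1 : G ⧸ N)} : Set (G ⧸ N)) = ⊤ :=
          top_unique fun x _ => Subgroup.mem_centralizer_singleton_iff.mpr (by simp)
        rw [if_pos (by rw [hg1, QuotientGroup.mk_one]), if_pos hg, hg1, hc,
          Subgroup.card_top, Subgroup.index_eq_card]
      · rw [if_neg ?_, if_neg hg]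
        rw [QuotientGroup.mk_one, isConj_one_left]
        exact fun h1 => hg ((QuotientGroup.eq_one_iff g).1 h1)
    -- the twists of `θ`
    have hinner : ∀ χ : S, χ.1 ≠ Char.principalIrr →
        ∑ g : G, (χ.1 : G → ℂ) g * (θ g * conj (θ g)) = 0 := by
      intro χ hne
      obtain ⟨f, hf⟩ := Char.IsCharacter.exists_linear
        (Char.IsIrrCharacter.isCharacter χ.1.2) (hlin χ)
      have h2 := Char.IsIrrCharacter.linear_mul hθ f
      by_cases heq : (fun g => (f g : ℂ) * θ g) = θ
      · exfalso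
        apply hne
        have hker : ⊤ ≤ f.ker := by
          rw [← hJ, Subgroup.closure_le]
          rintro g (hg | hg)
          · have h1 := χ.2 g hg
            rw [hlin χ, hf g] at h1
            exact Units.ext h1
          · have h1 := congrFun heq g
            exact Units.ext ((mul_left_eq_self₀.mp h1).resolve_right hg)
        refine Subtype.ext (funext fun g => ?_)
        rw [hf g, MonoidHom.mem_ker.mp (hker (Subgroup.mem_top g))]
        simp
      · have h3 := Char.classInner_irr_of_ne h2 hθ heq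
        unfold Cfsg.classInner at h3
        rw [mul_eq_zero, inv_eq_zero, Nat.cast_eq_zero] at h3
        have h4 := h3.resolve_left Nat.card_pos.ne'
        simp_rw [hf]
        simpa [mul_assoc] using h4
    have hp : ∀ n ∈ N, (Char.principalIrr : Cfsg.IrrCharacter G).1 n =
        (Char.principalIrr : Cfsg.IrrCharacter G).1 1 := fun n _ => by simp
    have hlhs : ∑ χ : S, ∑ g : G, (χ.1 : G → ℂ) g * (θ g * conj (θ g)) = (Nat.card G : ℂ) := by
      rw [Fintype.sum_eq_single (⟨Char.principalIrr, hp⟩ : S)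
        (fun χ hχ => hinner χ (fun h => hχ (Subtype.ext h)))]
      have h := Char.classInner_irr_self hθ
      unfold Cfsg.classInner at h
      rw [inv_mul_eq_iff_eq_mul₀ (Nat.cast_ne_zero.mpr Nat.card_pos.ne'), mul_one] at h
      simpa using h
    rw [Finset.sum_comm] at hlhs
    simp_rw [← Finset.sum_mul, hcol, ite_mul, zero_mul] at hlhs
    rw [← Finset.sum_filter, ← Finset.mul_sum] at hlhs
    have hN : ∑ g ∈ Finset.univ.filter (fun g => g ∈ N), θ g * conj (θ g) =
        (Nat.card N : ℂ) * (e : ℂ) ^ 2 := by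
      rw [Finset.sum_subtype (Finset.univ.filter (fun g => g ∈ N)) (p := (· ∈ N)) (fun y => by simp)
        (fun g => θ g * conj (θ g))]
      have h := Char.classInner_irr_self hφ
      unfold Cfsg.classInner at h
      rw [inv_mul_eq_iff_eq_mul₀ (Nat.cast_ne_zero.mpr Nat.card_pos.ne'), mul_one] at h
      rw [← h, Finset.sum_mul]
      refine Finset.sum_congr rfl fun n _ => ?_
      rw [show θ n = (e : ℂ) * φ n from congrFun he n, map_mul, map_natCast]
      ring
    rw [hN] at hlhs
    have h1 := N.card_mul_index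
    have h5 : N.index * (Nat.card N * e ^ 2) = Nat.card N * N.index := by
      rw [h1]; exact_mod_cast hlhs
    have h6 : 0 < N.index * Nat.card N :=
      Nat.mul_pos (Nat.pos_of_ne_zero Subgroup.index_ne_zero_of_finite) Nat.card_pos
    have h7 : e ^ 2 = 1 := by
      refine Nat.eq_of_mul_eq_mul_left h6 ?_
      rw [mul_one, mul_assoc, h5, mul_comm]
    exact (pow_eq_one_iff_left two_ne_zero).mp h7

omit [Finite G] in
theorem relIndex_centralizer_modEq [Finite G] {p : ℕ} [hp : Fact p.Prime] (V : Subgroup G)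
    [V.Normal] {u : G} (hu : ∃ k : ℕ, u ^ p ^ k = 1) :
    Nat.card ↥(V ⊓ Subgroup.centralizer ({u} : Set G)) ≡ Nat.card V [MOD p] := by
  classical
  obtain ⟨k, hk⟩ := hu
  have hpg : IsPGroup p (Subgroup.zpowers u) := by
    obtain ⟨j, -, hj⟩ := (Nat.dvd_prime_pow hp.out).mp (orderOf_dvd_of_pow_eq_one hk)
    exact IsPGroup.of_card (n := j) (by rw [Nat.card_zpowers, hj])
  let φ : Subgroup.zpowers u →* MulAut V := (MulAut.conjNormal).comp (Subgroup.zpowers u).subtype
  let _ : MulDistribMulAction (Subgroup.zpowers u) V := MulDistribMulAction.compHom V φ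
  have hsmul : ∀ (a : Subgroup.zpowers u) (v : V), ((a • v : V) : G) = a * v * (a : G)⁻¹ :=
    fun a v => MulAut.conjNormal_apply _ _
  have h := hpg.card_modEq_card_fixedPoints V
  refine Nat.ModEq.trans ?_ h.symm
  refine congrArg (· % p) (Nat.card_congr ?_)
  refine
    { toFun := fun x => ⟨⟨x.1, x.2.1⟩, fun a => Subtype.ext ?_⟩
      invFun := fun x => ⟨x.1.1, x.1.2, ?_⟩
      left_inv := fun x => rfl
      right_inv := fun x => rfl }
  · rw [hsmul]
    have hc : Commute u x.1 := (Subgroup.mem_centralizer_singleton_iff.mp x.2.2).symm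
    obtain ⟨i, hi⟩ := a.2
    show (a : G) * x.1 * (a : G)⁻¹ = x.1
    rw [← hi]
    show u ^ i * x.1 * (u ^ i)⁻¹ = x.1
    rw [(hc.zpow_left i).eq, mul_inv_cancel_right]
  · have h2 := congrArg Subtype.val (x.2 ⟨u, Subgroup.mem_zpowers u⟩)
    rw [hsmul] at h2
    exact Subgroup.mem_centralizer_singleton_iff.mpr (mul_inv_eq_iff_eq_mul.mp h2).symm

omit [Finite G] in
theorem modEq_one_of_pow_modEq {p q i j : ℕ} (hp : p.Prime) (hq : ¬ p ∣ q) (hji : j ≤ i)
    (h : q ^ j ≡ q ^ i [MOD p]) : q ^ (i - j) ≡ 1 [MOD p] := by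
  have h1 : q ^ j * 1 ≡ q ^ j * q ^ (i - j) [MOD p] := by
    rw [mul_one, ← pow_add, Nat.add_sub_of_le hji]; exact h
  have hc : Nat.Coprime p (q ^ j) := Nat.Coprime.pow_right j ((Nat.Prime.coprime_iff_not_dvd hp).mpr hq)
  exact (Nat.ModEq.cancel_left_of_coprime hc h1).symm

/-- The index of a proper subgroup containing a Sylow subgroup, in a solvable group generated by
the conjugates of that Sylow subgroup. -/
theorem exists_prime_pow_dvd_index [hs : Group.IsSolvable G] {p : ℕ} [hp : Fact p.Prime]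
    (P : Sylow p G) (hgen : ∀ K : Subgroup G, K.Normal → (P : Subgroup G) ≤ K → K = ⊤)
    (I : Subgroup G) (hI : I ≠ ⊤) (hpI : ¬ p ∣ I.index) :
    ∃ q i : ℕ, q.Prime ∧ 0 < i ∧ q ^ i ∣ I.index ∧ q ^ i ≡ 1 [MOD p] := by
  classical
  obtain ⟨H, hH, hIH⟩ := (eq_top_or_exists_le_coatom I).resolve_left hI
  have hdvd : H.index ∣ I.index := Subgroup.index_dvd_of_le hIH
  have hpH : ¬ p ∣ H.index := fun h => hpI (h.trans hdvd)
  set K := H.normalCore with hK
  haveI : K.Normal := Subgroup.normalCore_normal H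
  set π := QuotientGroup.mk' K with hπ
  have hπs : Function.Surjective π := QuotientGroup.mk'_surjective K
  set Hb := H.map π with hHb
  have hcomap : Hb.comap π = H := by
    rw [hHb, Subgroup.comap_map_eq, QuotientGroup.ker_mk', sup_eq_left.mpr (Subgroup.normalCore_le H)]
  have hHbidx : Hb.index = H.index := by
    rw [← hcomap, Subgroup.index_comap_of_surjective _ hπs]
  have hcore : ∀ N : Subgroup (G ⧸ K), N.Normal → N ≤ Hb → N = ⊥ := by
    intro N hN hle
    have h1 : N.comap π ≤ K := by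
      haveI : (N.comap π).Normal := hN.comap π
      refine Subgroup.normal_le_normalCore.mpr ?_
      rw [← hcomap]
      exact Subgroup.comap_mono hle
    rw [← Subgroup.map_comap_eq_self_of_surjective hπs N, Subgroup.map_eq_bot_iff,
      QuotientGroup.ker_mk']
    exact h1
  have hHb_top : Hb ≠ ⊤ := fun h => hH.1 (by rw [← hcomap, h, Subgroup.comap_top])
  haveI : Group.IsSolvable (G ⧸ K) := solvable_of_surjective hπs
  have htopne : (⊤ : Subgroup (G ⧸ K)) ≠ ⊥ := fun h => hHb_top (top_unique (h ▸ bot_le))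
  obtain ⟨V, hVn, hV0, -, hVmin⟩ := Solvable.exists_minimal_normal_le (⊤ : Subgroup (G ⧸ K)) htopne
  haveI := hVn
  obtain ⟨hVc, q, hq, hVq⟩ := Solvable.minimal_normal_elementary_abelian V hV0 hVmin
  haveI : Fact q.Prime := ⟨hq⟩
  have hVH : V ⊔ Hb = ⊤ := by
    by_contra hne
    have hlt : H ≤ (V ⊔ Hb).comap π := by
      rw [← hcomap]; exact Subgroup.comap_mono le_sup_right
    rcases hH.le_iff.mp hlt with h | h
    · exact hne (by rw [← Subgroup.map_comap_eq_self_of_surjective hπs (V ⊔ Hb), h,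
        Subgroup.map_top_of_surjective _ hπs])
    · exact hV0 (hcore V hVn (by
        rw [← Subgroup.map_comap_eq_self_of_surjective hπs V, hHb]
        exact Subgroup.map_mono (h ▸ Subgroup.comap_mono le_sup_left)))
  -- a subgroup normalized by `V` and `Hb` is normal
  have hnorm : ∀ A : Subgroup (G ⧸ K), (∀ v ∈ V, ∀ a ∈ A, v * a * v⁻¹ ∈ A) →
      (∀ v ∈ Hb, ∀ a ∈ A, v * a * v⁻¹ ∈ A) → A.Normal := by
    intro A hA1 hA2
    rw [← Subgroup.normalizer_eq_top_iff, ← top_le_iff, ← hVH]
    refine sup_le (fun v hv => ?_) (fun v hv => ?_)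
    · rw [Subgroup.mem_normalizer_iff]
      exact fun a => ⟨hA1 v hv a, fun h => by
        simpa [mul_assoc] using hA1 v⁻¹ (V.inv_mem hv) _ h⟩
    · rw [Subgroup.mem_normalizer_iff]
      exact fun a => ⟨hA2 v hv a, fun h => by
        simpa [mul_assoc] using hA2 v⁻¹ (Hb.inv_mem hv) _ h⟩
  have hinf : V ⊓ Hb = ⊥ := by
    refine hcore _ (hnorm _ (fun v hv a ha => ?_) fun v hv a ha => ?_) inf_le_right
    · rw [setLike_mul_comm (s := V) hv ha.1, mul_inv_cancel_right]; exact ha
    · exact ⟨hVn.conj_mem a ha.1 v, Hb.mul_mem (Hb.mul_mem hv ha.2) (Hb.inv_mem hv)⟩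
  have hcardV : Nat.card V = Hb.index := by
    have h1 : V.IsComplement' Hb :=
      Subgroup.isComplement'_of_disjoint_and_mul_eq_univ (disjoint_iff.mpr hinf)
        (by rw [← Subgroup.normal_mul, hVH, Subgroup.coe_top])
    exact h1.index_eq_card.symm
  have hVpg : IsPGroup q V := fun v => ⟨1, Subtype.ext (by simpa using hVq v v.2)⟩
  obtain ⟨b, hb⟩ := IsPGroup.iff_card.mp hVpg
  have hqp : ¬ p ∣ q := by
    intro h
    have hb0 : b ≠ 0 := by
      rintro rfl
      exact hV0 (Subgroup.card_eq_one.mp (by rw [hb, pow_zero]))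
    apply hpH
    rw [← hHbidx, ← hcardV, hb]
    exact h.trans (dvd_pow_self q hb0)
  -- a `p`-element of `H` not centralizing `V`
  obtain ⟨u, huH, hup, huK⟩ : ∃ u : G, u ∈ H ∧ (∃ k : ℕ, u ^ p ^ k = 1) ∧ u ∉ K := by
    by_contra hall
    push Not at hall
    obtain ⟨T⟩ : Nonempty (Sylow p H) := inferInstance
    have hTG : IsPGroup p ↥((T : Subgroup H).map H.subtype) := T.2.map _
    obtain ⟨Q, hQ⟩ := hTG.exists_le_sylow
    have hcardQ : Nat.card Q ≤ Nat.card ↥((T : Subgroup H).map H.subtype) := by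
      rw [Subgroup.card_subtype, T.card_eq_multiplicity, Q.card_eq_multiplicity]
      refine Nat.pow_le_pow_right hp.out.pos (le_of_eq ?_)
      rw [← H.card_mul_index, Nat.factorization_mul Nat.card_pos.ne' Subgroup.index_ne_zero_of_finite,
        Finsupp.add_apply, Nat.factorization_eq_zero_of_not_dvd hpH, add_zero]
    have hQeq : (Q : Subgroup G) = (T : Subgroup H).map H.subtype :=
      (Subgroup.eq_of_le_of_card_ge hQ hcardQ).symm
    have hQK : (Q : Subgroup G) ≤ K := by
      intro x hx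
      rw [hQeq] at hx
      obtain ⟨t, ht, rfl⟩ := hx
      obtain ⟨k, hk⟩ := T.2 ⟨t, ht⟩
      exact hall _ t.2 ⟨k, by simpa [Subtype.ext_iff] using hk⟩
    obtain ⟨g, hg⟩ := MulAction.exists_smul_eq G Q P
    have hPK : (P : Subgroup G) ≤ K := by
      rw [← hg, Sylow.smul_def, Sylow.pointwise_smul_def]
      intro x hx
      obtain ⟨y, hy, rfl⟩ := hx
      exact Subgroup.Normal.conj_mem ‹_› y (hQK hy) g
    have := hgen K inferInstance hPK
    exact hH.1 (top_unique (this ▸ Subgroup.normalCore_le H))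
  have hu1 : π u ≠ 1 := fun h => huK ((QuotientGroup.eq_one_iff u).mp h)
  have huc : π u ∉ Subgroup.centralizer (V : Set (G ⧸ K)) := by
    intro hc
    have h1 : Subgroup.centralizer (V : Set (G ⧸ K)) ⊓ Hb = ⊥ := by
      refine hcore _ (hnorm _ (fun v hv a ha => ?_) fun v hv a ha => ?_) inf_le_right
      · rw [Subgroup.mem_centralizer_iff.mp ha.1 v hv, mul_inv_cancel_right]
        exact ha
      · refine ⟨?_, Hb.mul_mem (Hb.mul_mem hv ha.2) (Hb.inv_mem hv)⟩
        exact (Subgroup.Normal.conj_mem (inferInstance : (Subgroup.centralizer (V : Set (G ⧸ K))).Normal)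
          a ha.1 v)
    exact hu1 (Subgroup.mem_bot.mp (h1 ▸ ⟨hc, Subgroup.mem_map_of_mem π huH⟩))
  obtain ⟨k, hk⟩ := hup
  have hmod := relIndex_centralizer_modEq (p := p) V (u := π u) ⟨k, by rw [← map_pow, hk, map_one]⟩
  set F := V ⊓ Subgroup.centralizer ({π u} : Set (G ⧸ K)) with hF
  have hFd : Nat.card F ∣ Nat.card V := Subgroup.card_dvd_of_le inf_le_left
  rw [hb] at hmod hFd
  obtain ⟨f, hfb, hf⟩ := (Nat.dvd_prime_pow hq).mp hFd
  have hlt : f < b := by
    refine lt_of_le_of_ne hfb fun h => huc ?_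
    have : F = V := Subgroup.eq_of_le_of_card_ge inf_le_left (by rw [hf, h, hb])
    rw [Subgroup.mem_centralizer_iff]
    intro v hv
    have hv' : v ∈ F := this ▸ hv
    exact (Subgroup.mem_centralizer_singleton_iff.mp hv'.2)
  rw [hf] at hmod
  refine ⟨q, b - f, hq, Nat.sub_pos_of_lt hlt, ?_, modEq_one_of_pow_modEq hp.out hqp hfb hmod⟩
  refine dvd_trans (dvd_trans (pow_dvd_pow q (Nat.sub_le b f)) ?_) hdvd
  rw [← hb, hcardV, hHbidx]

/-- A non-normal Sylow subgroup survives in the image of some irreducible constituent. -/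
theorem exists_constituent_not_normal {p : ℕ} [hp : Fact p.Prime] (P : Sylow p G)
    (hP : ¬ (P : Subgroup G).Normal) {χ : G → ℂ} (hχ : Cfsg.IsCharacter G χ)
    (hfaith : ∀ g : G, χ g = χ 1 → g = 1) :
    ∃ θ : G → ℂ, Cfsg.IsIrrCharacter G θ ∧ Cfsg.classInner χ θ ≠ 0 ∧
      ∃ (K : Subgroup G) (_ : K.Normal) (ψ : Cfsg.IrrCharacter (G ⧸ K)) (Q : Sylow p (G ⧸ K)),
        (∀ x, (ψ : G ⧸ K → ℂ) x = (ψ : G ⧸ K → ℂ) 1 → x = 1) ∧
        (∀ g : G, (ψ : G ⧸ K → ℂ) g = θ g) ∧ ¬ (Q : Subgroup (G ⧸ K)).Normal := by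
  classical
  by_contra hcon
  apply hP
  refine ⟨fun u hu m => ?_⟩
  set w := m * u * m⁻¹ with hw
  set S := (P : Subgroup G) ⊔ Subgroup.zpowers w with hS
  have hpow : ∀ s ∈ S, s ^ Nat.card P = 1 := by
    intro s hs
    apply hfaith
    rw [Char.IsCharacter.eq_sum_classInner hχ]
    simp only [Finset.sum_apply, Pi.smul_apply, smul_eq_mul]
    refine Finset.sum_congr rfl fun θ _ => ?_
    by_cases h0 : Cfsg.classInner χ (θ : G → ℂ) = 0
    · rw [h0, zero_mul, zero_mul]
    congr 1
    obtain ⟨K, hKn, hKmem, -⟩ := CharTools.exists_kernel (Char.IsIrrCharacter.isCharacter θ.2)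
    obtain ⟨ψ, hψ⟩ := CharTools.exists_descend K θ.2 (fun n hn => (hKmem n).mp hn)
    have hψf : ∀ x, (ψ : G ⧸ K → ℂ) x = (ψ : G ⧸ K → ℂ) 1 → x = 1 := by
      intro x
      induction x using QuotientGroup.induction_on with | _ x => ?_
      intro hx
      rw [hψ x, ← QuotientGroup.mk_one K, hψ 1] at hx
      exact (QuotientGroup.eq_one_iff x).mpr ((hKmem x).mpr hx)
    set Q := P.mapSurjective (QuotientGroup.mk'_surjective K) with hQ
    have hQn : (Q : Subgroup (G ⧸ K)).Normal := by
      by_contra hn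
      exact hcon ⟨θ, θ.2, h0, K, hKn, ψ, Q, hψf, hψ, hn⟩
    have hQP : (Q : Subgroup (G ⧸ K)) = (P : Subgroup G).map (QuotientGroup.mk' K) := rfl
    have himg : S.map (QuotientGroup.mk' K) ≤ (Q : Subgroup (G ⧸ K)) := by
      rw [hS, Subgroup.map_sup, sup_le_iff, hQP]
      refine ⟨le_rfl, ?_⟩
      rw [MonoidHom.map_zpowers, Subgroup.zpowers_le, ← hQP]
      rw [hw, map_mul, map_mul, map_inv]
      exact hQn.conj_mem _ (hQP ▸ Subgroup.mem_map_of_mem _ hu) _
    have hsQ : (QuotientGroup.mk' K s) ^ Nat.card P = 1 := by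
      have h1 : orderOf (QuotientGroup.mk' K s) ∣ Nat.card (Q : Subgroup (G ⧸ K)) := by
        have := orderOf_dvd_natCard (G := (Q : Subgroup (G ⧸ K)))
          ⟨QuotientGroup.mk' K s, himg (Subgroup.mem_map_of_mem _ hs)⟩
        rwa [Subgroup.orderOf_mk] at this
      rw [hQP] at h1
      exact orderOf_dvd_iff_pow_eq_one.mp (h1.trans (Subgroup.card_map_dvd _ _))
    rw [← map_pow] at hsQ
    exact (hKmem _).mp ((QuotientGroup.eq_one_iff _).mp hsQ)
  have hSp : IsPGroup p S := by
    intro s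
    obtain ⟨j, hj⟩ := IsPGroup.iff_card.mp P.2
    exact ⟨j, Subtype.ext (by
      rw [Subgroup.coe_pow, ← hj]
      exact hpow s s.2)⟩
  have := P.3 hSp le_sup_left
  exact this ▸ Subgroup.mem_sup_right (Subgroup.mem_zpowers w)

theorem natDeg_mul {χ : G → ℂ} (hχ : Cfsg.IsIrrCharacter G χ) (N : Subgroup G) [N.Normal]
    {θ : N → ℂ} (hθ : Cfsg.IsIrrCharacter N θ)
    (hθc : Cfsg.classInner (fun n : N => χ n) θ ≠ 0) :
    ∃ c : ℕ, 0 < c ∧
      Char.degree χ = c * (CharTwist.inertia N θ).index * Char.degree θ := by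
  classical
  obtain ⟨c, hc⟩ := Char.IsCharacter.exists_nat_classInner
    (Clifford.isCharacter_res (Char.IsIrrCharacter.isCharacter hχ) N) hθ
  refine ⟨c, Nat.pos_of_ne_zero fun h => hθc (by rw [hc, h, Nat.cast_zero]), ?_⟩
  have h := Clifford.apply_one_eq N hχ hθ hθc
  rw [hc, ← Char.IsCharacter.degree_cast (Char.IsIrrCharacter.isCharacter hχ),
    ← Char.IsCharacter.degree_cast (Char.IsIrrCharacter.isCharacter hθ)] at h
  exact_mod_cast h

/-- A character whose restriction to a subgroup is irreducible is irreducible. -/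
theorem isIrr_of_res {f : G → ℂ} (hf : Cfsg.IsCharacter G f) (H : Subgroup G) {φ : H → ℂ}
    (hφ : Cfsg.IsIrrCharacter H φ) (hres : (fun x : H => f x) = φ) : Cfsg.IsIrrCharacter G f := by
  classical
  have h10 : f 1 ≠ 0 := by
    rw [show f 1 = φ 1 from congrFun hres 1]
    exact Char.IsIrrCharacter.apply_one_ne_zero hφ
  obtain ⟨ξ, hξ, hξ0⟩ := Clifford.exists_constituent hf h10
  have hξc := Char.IsIrrCharacter.isCharacter hξ
  have hξH := Clifford.isCharacter_res hξc H
  obtain ⟨η, hη, hη0⟩ := Clifford.exists_constituent hξH (Char.IsIrrCharacter.apply_one_ne_zero hξ)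
  obtain ⟨h1, h1'⟩ := CharDeep.Cliff.degree_le_of_constituent hξH hη hη0
  obtain ⟨m, hm⟩ := Char.IsCharacter.exists_nat_combination hf
  have hξm : m ⟨ξ, hξ⟩ ≠ 0 := by
    intro h
    apply hξ0
    rw [hm, Char.classInner_sum_smul_irr (fun φ => (m φ : ℂ)) ⟨ξ, hξ⟩, h, Nat.cast_zero]
  have hφη : φ = η := by
    have hsum : Cfsg.classInner (fun x : H => f x) η =
        ∑ ψ : Cfsg.IrrCharacter G, (m ψ : ℂ) *
          Cfsg.classInner (fun x : H => (ψ : G → ℂ) x) η := by
      have he : (fun x : H => f x) = ∑ ψ : Cfsg.IrrCharacter G,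
          (m ψ : ℂ) • (fun x : H => (ψ : G → ℂ) x) := by
        funext x
        conv_lhs => rw [hm]
        simp
      rw [he, Char.classInner_sum_left]
      simp_rw [Char.classInner_smul_left]
    by_contra hne
    rw [hres, Char.classInner_irr_of_ne hφ hη hne] at hsum
    choose c hc using fun ψ : Cfsg.IrrCharacter G =>
      Char.IsCharacter.exists_nat_classInner
        (Clifford.isCharacter_res (Char.IsIrrCharacter.isCharacter ψ.2) H) hη
    simp_rw [hc, ← Nat.cast_mul, ← Nat.cast_sum] at hsum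
    have h2 := (Finset.sum_eq_zero_iff.1 (by exact_mod_cast hsum.symm :
      ∑ ψ : Cfsg.IrrCharacter G, m ψ * c ψ = 0)) ⟨ξ, hξ⟩ (Finset.mem_univ _)
    rcases Nat.mul_eq_zero.mp h2 with h | h
    · exact hξm h
    · exact hη0 (by rw [hc ⟨ξ, hξ⟩, h, Nat.cast_zero])
  have hdeg : Char.degree f ≤ Char.degree ξ := by
    have e1 : Char.degree f = Char.degree η := by
      have h2 := Char.IsCharacter.degree_cast hf
      have h3 := Char.IsCharacter.degree_cast (Char.IsIrrCharacter.isCharacter hη)
      rw [show f 1 = φ 1 from congrFun hres 1, hφη, ← h3] at h2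
      exact_mod_cast h2
    have e2 : Char.degree (fun x : H => ξ x) = Char.degree ξ := by
      have h2 := Char.IsCharacter.degree_cast hξH
      have h3 := Char.IsCharacter.degree_cast hξc
      simp only [OneMemClass.coe_one] at h2
      rw [← h3] at h2
      exact_mod_cast h2
    omega
  rw [(CharDeep.Cliff.degree_le_of_constituent hf hξ hξ0).2 hdeg]
  exact hξ

/-- The conclusion on the degree. -/
def Good (p n : ℕ) : Prop :=
  ∃ q i : ℕ, q.Prime ∧ 0 < i ∧ q ^ i ∣ n ∧ (p ∣ q ^ i ∨ q ^ i ≡ 1 [MOD p] ∨ p ∣ q ^ i + 1)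

omit [Finite G] in
theorem Good.of_dvd {p m n : ℕ} (h : Good p m) (hmn : m ∣ n) : Good p n := by
  obtain ⟨q, i, hq, hi, hd, hc⟩ := h
  exact ⟨q, i, hq, hi, hd.trans hmn, hc⟩

/-- A faithful irreducible character of a solvable group with a non-normal Sylow subgroup. -/
theorem good_degree {p : ℕ} [hp : Fact p.Prime] : ∀ (b : ℕ) (G : Type u) [Group G] [Finite G],
    Nat.card G ≤ b → Group.IsSolvable G → ∀ (χ : G → ℂ), Cfsg.IsIrrCharacter G χ →
    (∀ g : G, χ g = χ 1 → g = 1) → ∀ P : Sylow p G, ¬ (P : Subgroup G).Normal →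
    Good p (Char.degree χ) := by
  intro b
  induction b with
  | zero => intro G _ _ h; exact absurd h (not_le.mpr Nat.card_pos)
  | succ b ih =>
    intro G _ _ hcard hsolv χ hχ hfaith P hP
    classical
    have hχc := Char.IsIrrCharacter.isCharacter hχ
    by_cases hpn : p ∣ Char.degree χ
    · exact ⟨p, 1, hp.out, one_pos, by rwa [pow_one], Or.inl (by rw [pow_one])⟩
    -- Sylow subgroups of proper normal subgroups
    have hdesc : ∀ (M : Subgroup G) [M.Normal], M ≠ ⊤ → ∀ P' : Sylow p M,
        ¬ (P' : Subgroup M).Normal → Good p (Char.degree χ) := by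
      intro M _ hM P' hP'
      obtain ⟨θ, hθ, hθc, K, hKn, ψ, Q, hψf, hψ, hQ⟩ := exists_constituent_not_normal P' hP'
        (Clifford.isCharacter_res hχc M) (fun g hg => Subtype.ext (hfaith g hg))
      have hMlt : Nat.card M < Nat.card G := by
        refine lt_of_le_of_ne (Nat.le_of_dvd Nat.card_pos (Subgroup.card_subgroup_dvd_card M)) ?_
        exact fun h => hM (Subgroup.eq_top_of_card_eq _ h)
      have hKle : Nat.card (M ⧸ K) ≤ Nat.card M :=
        Nat.card_le_card_of_surjective _ (QuotientGroup.mk'_surjective K)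
      have hg := ih (M ⧸ K) (by omega) (solvable_of_surjective (QuotientGroup.mk'_surjective K))
        (ψ : M ⧸ K → ℂ) ψ.2 hψf Q hQ
      obtain ⟨c, -, hc⟩ := natDeg_mul hχ M hθ hθc
      have hdeg : Char.degree (ψ : M ⧸ K → ℂ) = Char.degree θ := by
        have h1 := Char.IsCharacter.degree_cast (Char.IsIrrCharacter.isCharacter ψ.2)
        have h2 := Char.IsCharacter.degree_cast (Char.IsIrrCharacter.isCharacter hθ)
        rw [← hψ 1, QuotientGroup.mk_one, ← h1] at h2
        exact_mod_cast h2.symm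
      exact hg.of_dvd (hdeg ▸ Dvd.intro_left _ hc.symm)
    by_cases hgen : ∀ K : Subgroup G, K.Normal → (P : Subgroup G) ≤ K → K = ⊤
    swap
    · push Not at hgen
      obtain ⟨K, hK, hPK, hKtop⟩ := hgen
      haveI := hK
      refine hdesc K hKtop (P.subtype hPK) fun hn => hP ?_
      haveI : ((P.subtype hPK : Sylow p K) : Subgroup K).Characteristic :=
        Sylow.characteristic_of_normal _ hn
      have h2 : (((P.subtype hPK : Sylow p K) : Subgroup K).map K.subtype).Normal := inferInstance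
      rwa [Sylow.coe_subtype, Subgroup.map_subgroupOf_eq_of_le hPK] at h2
    -- a normal subgroup of index `p`
    have hnt : Nontrivial G := by
      by_contra h
      rw [not_nontrivial_iff_subsingleton] at h
      exact hP (by rw [Subsingleton.elim (P : Subgroup G) ⊥]; infer_instance)
    obtain ⟨M, hMn, hMtop, hMmax⟩ : ∃ M : Subgroup G, M.Normal ∧ M ≠ ⊤ ∧
        ∀ K : Subgroup G, K.Normal → M ≤ K → K = M ∨ K = ⊤ := by
      obtain ⟨M, -, hM⟩ := exists_maximal_ge_of_wellFoundedGT
        (fun K : Subgroup G => K.Normal ∧ K ≠ ⊤) ⊥ ⟨inferInstance, bot_ne_top⟩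
      exact ⟨M, hM.1.1, hM.1.2, fun K hK hle => or_iff_not_imp_right.mpr fun hne =>
        le_antisymm (hM.2 ⟨hK, hne⟩ hle) hle⟩
    haveI := hMn
    set π := QuotientGroup.mk' M with hπ
    have hπs : Function.Surjective π := QuotientGroup.mk'_surjective M
    have hQmin : ∀ K : Subgroup (G ⧸ M), K.Normal → K = ⊥ ∨ K = ⊤ := by
      intro K hK
      rcases hMmax (K.comap π) (hK.comap π) (by
        exact (QuotientGroup.ker_mk' M).symm.le.trans (π.ker_le_comap K)) with h | h
      · left
        rw [← Subgroup.map_comap_eq_self_of_surjective hπs K, h, Subgroup.map_eq_bot_iff,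
          QuotientGroup.ker_mk']
      · right
        rw [← Subgroup.map_comap_eq_self_of_surjective hπs K, h, Subgroup.map_top_of_surjective _ hπs]
    haveI : Group.IsSolvable (G ⧸ M) := solvable_of_surjective hπs
    have hQne : (⊤ : Subgroup (G ⧸ M)) ≠ ⊥ := by
      intro h
      apply hMtop
      rw [← QuotientGroup.ker_mk' M, ← MonoidHom.comap_bot, ← h, Subgroup.comap_top]
    obtain ⟨hQc, r, hr, hQr⟩ := Solvable.minimal_normal_elementary_abelian (⊤ : Subgroup (G ⧸ M))
      hQne (fun K hK _ => hQmin K hK)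
    haveI : Fact r.Prime := ⟨hr⟩
    have hMp : M.index = p := by
      have hQrg : IsPGroup r (G ⧸ M) := fun x => ⟨1, by simpa using hQr x (Subgroup.mem_top x)⟩
      have hrp : r = p := by
        by_contra hne
        have hPM : (P : Subgroup G) ≤ M := by
          intro x hx
          obtain ⟨k, hk⟩ := P.2 ⟨x, hx⟩
          have h1 : (x : G ⧸ M) ^ p ^ k = 1 := by
            rw [← QuotientGroup.mk_pow]
            have : x ^ p ^ k = 1 := by simpa [Subtype.ext_iff] using hk
            rw [this, QuotientGroup.mk_one]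
          have h2 : (x : G ⧸ M) ^ r = 1 := hQr _ (Subgroup.mem_top _)
          have h3 : orderOf (x : G ⧸ M) ∣ Nat.gcd (p ^ k) r :=
            Nat.dvd_gcd (orderOf_dvd_of_pow_eq_one h1) (orderOf_dvd_of_pow_eq_one h2)
          rw [Nat.Coprime.gcd_eq_one (Nat.Coprime.pow_left k
            ((Nat.coprime_primes hp.out hr).mpr (Ne.symm hne))), Nat.dvd_one,
            orderOf_eq_one_iff] at h3
          exact (QuotientGroup.eq_one_iff x).mp h3
        exact hMtop (hgen M hMn hPM)
      obtain ⟨⟨x, hxm⟩, hxne⟩ := Subgroup.ne_bot_iff_exists_ne_one.mp hQne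
      have hx1 : x ≠ 1 := fun h => hxne (Subtype.ext h)
      have htop : Subgroup.zpowers x = ⊤ := by
        refine (hQmin _ ⟨fun a ha g => ?_⟩).resolve_left (fun h => hx1 (by
          have := Subgroup.mem_zpowers x
          rwa [h, Subgroup.mem_bot] at this))
        rw [setLike_mul_comm (s := (⊤ : Subgroup (G ⧸ M))) (Subgroup.mem_top g) (Subgroup.mem_top a),
          mul_inv_cancel_right]
        exact ha
      rw [Subgroup.index_eq_card, ← Subgroup.card_top, ← htop, Nat.card_zpowers, ← hrp]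
      exact orderOf_eq_prime (hQr x (Subgroup.mem_top x)) hx1
    -- its Sylow subgroup
    set R := (P : Subgroup G) ⊓ M with hR
    have hRp : IsPGroup p R := P.2.to_le inf_le_left
    have hRidx : ¬ p ∣ R.relIndex M := by
      rw [hR, Subgroup.inf_relIndex_right]
      exact fun h => P.not_dvd_index (h.trans (Cross.relIndex_dvd_index _ _))
    have hRS : IsPGroup p ↥(R.subgroupOf M) := hRp.comap_subtype
    set RS : Sylow p M := hRS.toSylow hRidx with hRSdef
    by_cases hRSn : (RS : Subgroup M).Normal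
    swap
    · exact hdesc M hMtop RS hRSn
    haveI hRn : R.Normal := by
      haveI : (RS : Subgroup M).Characteristic := Sylow.characteristic_of_normal _ hRSn
      have h2 : ((RS : Subgroup M).map M.subtype).Normal := inferInstance
      have h3 : (RS : Subgroup M) = R.subgroupOf M := rfl
      rwa [h3, Subgroup.map_subgroupOf_eq_of_le inf_le_right] at h2
    have hRM : R ≠ M := by
      intro h
      have hMpg : IsPGroup p M := h ▸ hRp
      obtain ⟨k, hk⟩ := IsPGroup.iff_card.mp hMpg
      have hG : IsPGroup p G := IsPGroup.of_card (n := k + 1) (by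
        rw [← M.card_mul_index, hk, hMp, pow_succ])
      apply hP
      have := P.3 (hG.to_subgroup ⊤) le_top
      rw [← this]
      infer_instance
    -- the restriction to `M`
    obtain ⟨θ, hθ, hθc⟩ := Clifford.exists_constituent_res M hχ
    obtain ⟨c, hc0, hc⟩ := natDeg_mul hχ M hθ hθc
    have hIM : (CharTwist.inertia M θ) = ⊤ := by
      rw [← Subgroup.index_eq_one]
      have hd : (CharTwist.inertia M θ).index ∣ p := hMp ▸ Subgroup.index_dvd_of_le
        (CharTwist.le_inertia M (Char.IsIrrCharacter.isClassFunction hθ))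
      rcases (Nat.dvd_prime hp.out).mp hd with h | h
      · exact h
      · exact absurd ⟨c * Char.degree θ, by rw [hc, h]; ring⟩ hpn
    obtain ⟨e, he0, he⟩ := CharDeep.Cliff.res_eq_smul M hχ hθ (fun g =>
      CharTwist.mem_inertia.mp (hIM ▸ Subgroup.mem_top g)) hθc
    have hMJ : ∀ J : Subgroup G, M ≤ J → J = M ∨ J = ⊤ := by
      intro J hJ
      have h := Subgroup.relIndex_mul_index hJ
      rw [hMp] at h
      rcases (Nat.dvd_prime hp.out).mp (Dvd.intro_left _ h) with h1 | h1
      · exact Or.inr (Subgroup.index_eq_one.mp h1)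
      · left
        rw [h1] at h
        have h2 : M.relIndex J = 1 := Nat.eq_of_mul_eq_mul_right hp.out.pos (by rw [h, one_mul])
        exact le_antisymm (Subgroup.relIndex_eq_one.mp h2) hJ
    have hGab : ∀ a b : G, a * b * a⁻¹ * b⁻¹ ∈ M := by
      intro a b
      rw [← QuotientGroup.eq_one_iff, QuotientGroup.mk_mul, QuotientGroup.mk_mul,
        QuotientGroup.mk_mul, QuotientGroup.mk_inv, QuotientGroup.mk_inv]
      rw [setLike_mul_comm (s := (⊤ : Subgroup (G ⧸ M))) (Subgroup.mem_top (a : G ⧸ M))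
        (Subgroup.mem_top (b : G ⧸ M))]
      group
    have he1 : e = 1 := by
      rcases eq_one_or_sq_eq_index M hGab hχ hθ e he
        (hMJ _ fun x hx => Subgroup.subset_closure (Or.inl hx)) with h | h
      · exact h
      · exfalso
        have h2 : Nat.Prime (e ^ 2) := by rw [h, hMp]; exact hp.out
        exact Nat.Prime.not_prime_pow (le_refl 2) h2
    rw [he1, Nat.cast_one, one_smul] at he
    -- a chief factor
    obtain ⟨N, hNn, hRN, hNM, hNne, hNmax⟩ : ∃ N : Subgroup G, N.Normal ∧ R ≤ N ∧ N ≤ M ∧ N ≠ M ∧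
        ∀ K : Subgroup G, K.Normal → N ≤ K → K ≤ M → K = N ∨ K = M := by
      obtain ⟨N, hN1, hN⟩ := exists_maximal_ge_of_wellFoundedGT
        (fun K : Subgroup G => K.Normal ∧ K ≤ M ∧ K ≠ M) R ⟨inferInstance, inf_le_right, hRM⟩
      exact ⟨N, hN.1.1, hN1, hN.1.2.1, hN.1.2.2, fun K hK h1 h2 => or_iff_not_imp_right.mpr
        fun hne => le_antisymm (hN.2 ⟨hK, h2, hne⟩ h1) h1⟩
    haveI := hNn
    set ρ := QuotientGroup.mk' N with hρ
    have hρs : Function.Surjective ρ := QuotientGroup.mk'_surjective N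
    set V := M.map ρ with hV
    haveI : V.Normal := hMn.map ρ hρs
    haveI : Group.IsSolvable (G ⧸ N) := solvable_of_surjective hρs
    have hcomap : V.comap ρ = M := by
      rw [hV, Subgroup.comap_map_eq, QuotientGroup.ker_mk', sup_eq_left.mpr hNM]
    have hVmin : ∀ K : Subgroup (G ⧸ N), K.Normal → K ≤ V → K = ⊥ ∨ K = V := by
      intro K hK hle
      rcases hNmax (K.comap ρ) (hK.comap ρ) (by
        exact (QuotientGroup.ker_mk' N).symm.le.trans (ρ.ker_le_comap K))
        (hcomap ▸ Subgroup.comap_mono hle) with h | h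
      · left
        rw [← Subgroup.map_comap_eq_self_of_surjective hρs K, h, Subgroup.map_eq_bot_iff,
          QuotientGroup.ker_mk']
      · right
        rw [← Subgroup.map_comap_eq_self_of_surjective hρs K, h]
    have hV0 : V ≠ ⊥ := by
      intro h
      apply hNne
      refine le_antisymm hNM ?_
      rwa [hV, Subgroup.map_eq_bot_iff, QuotientGroup.ker_mk'] at h
    obtain ⟨hVc, q, hq, hVq⟩ := Solvable.minimal_normal_elementary_abelian V hV0 hVmin
    haveI : Fact q.Prime := ⟨hq⟩
    obtain ⟨a, ha⟩ := IsPGroup.iff_card.mp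
      (fun v => ⟨1, Subtype.ext (by simpa using hVq v v.2)⟩ : IsPGroup q V)
    have hVcard : Nat.card V = N.relIndex M := by
      rw [← Subgroup.relIndex_bot_left, ← Subgroup.map_bot ρ, hV, Subgroup.relIndex_map_map, bot_sup_eq,
        hρ, QuotientGroup.ker_mk', sup_eq_left.mpr hNM]
    have hpV : ¬ p ∣ Nat.card V := by
      rw [hVcard]
      exact fun h => hRidx (h.trans ⟨R.relIndex N, by
        rw [mul_comm, Subgroup.relIndex_mul_relIndex R N M hRN hNM]⟩)
    have ha0 : a ≠ 0 := by
      rintro rfl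
      exact hV0 (Subgroup.card_eq_one.mp (by rw [ha, pow_zero]))
    have hqp : ¬ p ∣ q := fun h => hpV (by rw [ha]; exact h.trans (dvd_pow_self q ha0))
    -- `P` acts without fixed points on `V`
    obtain ⟨x, hxP, hxM⟩ := SetLike.not_le_iff_exists.mp
      (fun h : (P : Subgroup G) ≤ M => hMtop (hgen M hMn h))
    have hgenQ : ∀ y : G ⧸ N, ∃ v ∈ V, ∃ i : ℤ, y = v * ρ x ^ i := by
      intro y
      obtain ⟨g, rfl⟩ := hρs y
      have htop : M ⊔ Subgroup.zpowers x = ⊤ := (hMJ _ le_sup_left).resolve_left fun h =>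
        hxM (h ▸ Subgroup.mem_sup_right (Subgroup.mem_zpowers x))
      have hg : g ∈ ((M ⊔ Subgroup.zpowers x : Subgroup G) : Set G) := htop ▸ Subgroup.mem_top g
      rw [Subgroup.normal_mul] at hg
      obtain ⟨m, hm, z, hz, rfl⟩ := hg
      obtain ⟨i, rfl⟩ := hz
      exact ⟨ρ m, Subgroup.mem_map_of_mem ρ hm, i, by simp [map_zpow]⟩
    have hfix : V ⊓ Subgroup.centralizer ({ρ x} : Set (G ⧸ N)) = ⊥ := by
      have hn : (V ⊓ Subgroup.centralizer ({ρ x} : Set (G ⧸ N))).Normal := by
        refine ⟨fun a ha y => ?_⟩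
        obtain ⟨v, hv, i, rfl⟩ := hgenQ y
        have hc : Commute (ρ x) a := (Subgroup.mem_centralizer_singleton_iff.mp ha.2).symm
        have h1 : v * ρ x ^ i * a * (v * ρ x ^ i)⁻¹ = a := by
          rw [mul_inv_rev, mul_assoc v, (hc.zpow_left i).eq, ← mul_assoc v a,
            setLike_mul_comm (s := V) hv ha.1]
          group
        rw [h1]; exact ha
      refine (hVmin _ hn inf_le_left).resolve_right fun h => ?_
      -- otherwise the quotient is abelian
      have hall : ∀ v ∈ V, Commute (ρ x) v := fun v hv =>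
        (Subgroup.mem_centralizer_singleton_iff.mp (h.ge hv).2).symm
      have hcom : ∀ y z : G ⧸ N, y * z = z * y := by
        intro y z
        obtain ⟨v, hv, i, rfl⟩ := hgenQ y
        obtain ⟨w, hw, j, rfl⟩ := hgenQ z
        have e1 : Commute v w := setLike_mul_comm (s := V) hv hw
        have e2 : Commute v (ρ x ^ j) := ((hall v hv).zpow_left j).symm
        have e3 : Commute (ρ x ^ i) w := (hall w hw).zpow_left i
        have e4 : Commute (ρ x ^ i) (ρ x ^ j) := Commute.zpow_zpow_self _ i j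
        exact ((e1.mul_right e2).mul_left (e3.mul_right e4)).eq
      have hPN : ((P : Subgroup G).map ρ).comap ρ = ⊤ := by
        refine hgen _ ⟨fun a ha g => ?_⟩ (Subgroup.le_comap_map ρ _)
        rw [Subgroup.mem_comap, map_mul, map_mul, map_inv, hcom (ρ g), mul_inv_cancel_right]
        exact ha
      have hQp : IsPGroup p (G ⧸ N) := by
        intro y
        have hy : y ∈ (P : Subgroup G).map ρ := by
          obtain ⟨g, rfl⟩ := hρs y
          exact hPN.ge (Subgroup.mem_top g)
        obtain ⟨k, hk⟩ := (P.2.map ρ) ⟨y, hy⟩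
        exact ⟨k, by simpa [Subtype.ext_iff] using hk⟩
      obtain ⟨j, hj⟩ := IsPGroup.iff_card.mp (hQp.to_subgroup V)
      apply hpV
      rw [hj]
      refine dvd_pow_self p fun h0 => ?_
      exact hV0 (Subgroup.card_eq_one.mp (by rw [hj, h0, pow_zero]))
    have hmod : 1 ≡ q ^ a [MOD p] := by
      obtain ⟨k, hk⟩ := P.2 ⟨x, hxP⟩
      have h := relIndex_centralizer_modEq (p := p) V (u := ρ x)
        ⟨k, by rw [← map_pow]; simp [show x ^ p ^ k = 1 by simpa [Subtype.ext_iff] using hk]⟩
      rwa [hfix, Subgroup.card_bot, ha] at h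
    -- a constituent on `N`
    obtain ⟨φ, hφ, hφc⟩ := Clifford.exists_constituent_res N hχ
    obtain ⟨d, hd0, hd⟩ := natDeg_mul hχ N hφ hφc
    by_cases hIN : CharTwist.inertia N φ = ⊤
    swap
    · haveI := hsolv
      obtain ⟨q', i, hq', hi, hdv, hcg⟩ := exists_prime_pow_dvd_index P hgen _ hIN (fun h => hpn
        (h.trans ⟨d * Char.degree φ, by rw [hd]; ring⟩))
      exact ⟨q', i, hq', hi, hdv.trans ⟨d * Char.degree φ, by rw [hd]; ring⟩, Or.inr (Or.inl hcg)⟩
    obtain ⟨f, hf0, hf⟩ := CharDeep.Cliff.res_eq_smul N hχ hφ (fun g =>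
      CharTwist.mem_inertia.mp (hIN ▸ Subgroup.mem_top g)) hφc
    -- multiplicity inside `M`
    set e' : ↥(N.subgroupOf M) ≃* N := Subgroup.subgroupOfEquivOfLe hNM
    have hφ' : Cfsg.IsIrrCharacter ↥(N.subgroupOf M) (φ ∘ e') :=
      CharTwist.isIrrCharacter_comp_equiv hφ e'
    have hf' : (fun n : ↥(N.subgroupOf M) => θ n) = (f : ℂ) • (φ ∘ e') := by
      funext n
      have h1 := congrFun hf (e' n)
      have h2 := congrFun he (n : M)
      simp only [Pi.smul_apply, Function.comp_apply] at h1 ⊢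
      rw [← h1, ← h2]
      rfl
    have hMab : ∀ u v : M, u * v * u⁻¹ * v⁻¹ ∈ N.subgroupOf M := by
      intro u v
      rw [Subgroup.mem_subgroupOf, ← QuotientGroup.eq_one_iff]
      push_cast
      have h1 : ρ u * ρ v = ρ v * ρ u :=
        setLike_mul_comm (s := V) (Subgroup.mem_map_of_mem ρ u.2) (Subgroup.mem_map_of_mem ρ v.2)
      have h2 : ρ (u : G) * ρ v * (ρ u)⁻¹ * (ρ v)⁻¹ = 1 := by rw [h1]; group
      exact h2
    set J := Subgroup.closure (((N.subgroupOf M : Subgroup M) : Set M) ∪ {g | θ g ≠ 0}) with hJ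
    have hJor : J = N.subgroupOf M ∨ J = ⊤ := by
      have hinv : ∀ (g : G) (m : M), θ ⟨g * m * g⁻¹, hMn.conj_mem m m.2 g⟩ = θ m := fun g m =>
        congrFun (CharTwist.mem_inertia.mp (hIM ▸ Subgroup.mem_top g)) m
      have hn : (J.map M.subtype).Normal := by
        refine ⟨fun y hy g => ?_⟩
        obtain ⟨m, hm, rfl⟩ := hy
        refine ⟨MulAut.conjNormal g m, ?_, by simp⟩
        have : J ≤ J.comap (MulAut.conjNormal g : MulAut M).toMonoidHom := by
          rw [hJ, Subgroup.closure_le]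
          rintro z (hz | hz)
          · refine Subgroup.subset_closure (Or.inl ?_)
            show ((MulAut.conjNormal g z : M) : G) ∈ N
            rw [MulAut.conjNormal_apply]
            exact hNn.conj_mem _ hz g
          · refine Subgroup.subset_closure (Or.inr ?_)
            show θ (MulAut.conjNormal g z) ≠ 0
            rw [show (MulAut.conjNormal g z : M) = ⟨g * z * g⁻¹, hMn.conj_mem z z.2 g⟩ from
              Subtype.ext (MulAut.conjNormal_apply g z), hinv]
            exact hz
        exact this hm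
      have hNJ : N ≤ J.map M.subtype := fun y hy =>
        ⟨⟨y, hNM hy⟩, Subgroup.subset_closure (Or.inl hy), rfl⟩
      rcases hNmax _ hn hNJ (Subgroup.map_subtype_le J) with h | h
      · left
        rw [← Subgroup.comap_map_eq_self_of_injective M.subtype_injective J, h]
        rfl
      · right
        rw [← Subgroup.comap_map_eq_self_of_injective M.subtype_injective J, h]
        exact Subgroup.subgroupOf_self M
    have hfd : f ∣ Char.degree χ := by
      have h1 := Char.IsCharacter.degree_cast hχc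
      have h2 : χ 1 = (f : ℂ) * φ 1 := congrFun hf 1
      rw [← Char.IsCharacter.degree_cast (Char.IsIrrCharacter.isCharacter hφ), ← h1] at h2
      exact ⟨Char.degree φ, by exact_mod_cast h2⟩
    rcases eq_one_or_sq_eq_index (N.subgroupOf M) hMab hθ hφ' f hf' hJor with hf1 | hsq
    swap
    · have hsq' : f ^ 2 = q ^ a := by
        rw [hsq, ← ha, hVcard]; rfl
      obtain ⟨i, -, hi⟩ := (Nat.dvd_prime_pow hq).mp (Dvd.intro f (by rw [← hsq']; ring) : f ∣ q ^ a)
      have hi0 : 0 < i := Nat.pos_of_ne_zero fun h => by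
        rw [h, pow_zero] at hi
        rw [hi, one_pow] at hsq'
        exact (Nat.one_lt_pow ha0 hq.one_lt).ne hsq'
      refine ⟨q, i, hq, hi0, hi ▸ hfd, ?_⟩
      rw [← hsq', hi] at hmod
      set z := q ^ i with hz
      have hz1 : 1 ≤ z := Nat.one_le_pow _ _ hq.pos
      have h3 : (p : ℤ) ∣ ((z : ℤ) - 1) * ((z : ℤ) + 1) := by
        have := (Nat.modEq_iff_dvd.mp hmod)
        push_cast at this
        have e : ((z : ℤ) - 1) * ((z : ℤ) + 1) = (z : ℤ) ^ 2 - 1 := by ring
        rw [e]; exact this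
      rcases (Nat.prime_iff_prime_int.mp hp.out).dvd_or_dvd h3 with h4 | h4
      · exact Or.inr (Or.inl (Nat.modEq_iff_dvd.mpr (by
          push_cast
          exact (dvd_neg.mpr h4).trans (dvd_of_eq (by ring)))))
      · exact Or.inr (Or.inr (by exact_mod_cast h4))
    rw [hf1, Nat.cast_one, one_smul] at hf
    -- `χ` stays irreducible on `N P`
    set H := N ⊔ (P : Subgroup G) with hH
    have hHlt : Nat.card H < Nat.card G := by
      refine lt_of_le_of_ne (Nat.le_of_dvd Nat.card_pos (Subgroup.card_subgroup_dvd_card H)) ?_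
      intro h
      have htop : H = ⊤ := Subgroup.eq_top_of_card_eq _ h
      have hQp : IsPGroup p (G ⧸ N) := by
        intro y
        have hy : y ∈ (P : Subgroup G).map ρ := by
          obtain ⟨g, rfl⟩ := hρs y
          have hg : g ∈ ((N ⊔ (P : Subgroup G) : Subgroup G) : Set G) := by
            rw [← hH, htop]; exact Subgroup.mem_top g
          rw [Subgroup.normal_mul] at hg
          obtain ⟨m, hm, z, hz, rfl⟩ := hg
          refine ⟨z, hz, ?_⟩
          rw [map_mul, show ρ m = 1 from (QuotientGroup.eq_one_iff m).mpr hm, one_mul]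
        obtain ⟨k, hk⟩ := (P.2.map ρ) ⟨y, hy⟩
        exact ⟨k, by simpa [Subtype.ext_iff] using hk⟩
      obtain ⟨j, hj⟩ := IsPGroup.iff_card.mp (hQp.to_subgroup V)
      apply hpV
      rw [hj]
      refine dvd_pow_self p fun h0 => ?_
      exact hV0 (Subgroup.card_eq_one.mp (by rw [hj, h0, pow_zero]))
    set e'' : ↥(N.subgroupOf H) ≃* N := Subgroup.subgroupOfEquivOfLe le_sup_left
    have hχH : Cfsg.IsIrrCharacter H (fun h : H => χ h) :=
      isIrr_of_res (Clifford.isCharacter_res hχc H) (N.subgroupOf H)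
        (CharTwist.isIrrCharacter_comp_equiv hφ e'') (funext fun n => congrFun hf (e'' n))
    set PH : Sylow p H := P.subtype le_sup_right with hPH
    by_cases hPHn : (PH : Subgroup H).Normal
    swap
    · have hg := ih H (by omega) (solvable_of_solvable_injective H.subtype_injective) _ hχH
        (fun g hg => Subtype.ext (hfaith g hg)) PH hPHn
      have hdeg : Char.degree (fun h : H => χ h) = Char.degree χ := by
        have h1 := Char.IsCharacter.degree_cast (Char.IsIrrCharacter.isCharacter hχH)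
        simp only [OneMemClass.coe_one] at h1
        rw [← Char.IsCharacter.degree_cast hχc] at h1
        exact_mod_cast h1
      exact hdeg ▸ hg
    have hNP : ∀ n ∈ N, ∀ y ∈ (P : Subgroup G), n * y * n⁻¹ ∈ (P : Subgroup G) := fun n hn y hy =>
      hPHn.conj_mem ⟨y, Subgroup.mem_sup_right hy⟩ hy ⟨n, Subgroup.mem_sup_left hn⟩
    -- every element commutes with `N` modulo `R`
    let K : Subgroup G :=
      { carrier := {g | ∀ n ∈ N, g * n * g⁻¹ * n⁻¹ ∈ R}
        one_mem' := fun n _ => by simp [R.one_mem]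
        mul_mem' := fun {g h} hg hh n hn => by
          have e : g * h * n * (g * h)⁻¹ * n⁻¹ =
              (g * (h * n * h⁻¹ * n⁻¹) * g⁻¹) * (g * n * g⁻¹ * n⁻¹) := by group
          rw [e]
          exact R.mul_mem (hRn.conj_mem _ (hh n hn) g) (hg n hn)
        inv_mem' := fun {g} hg n hn => by
          have e : g⁻¹ * n * g⁻¹⁻¹ * n⁻¹ = g⁻¹ * (g * n * g⁻¹ * n⁻¹)⁻¹ * g⁻¹⁻¹ := by group
          rw [e]
          exact hRn.conj_mem _ (R.inv_mem (hg n hn)) g⁻¹ }
    have hKtop : K = ⊤ := by
      refine hgen K ⟨fun g hg h n hn => ?_⟩ fun y hy n hn => ?_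
      · have h1 := hg (h⁻¹ * n * h) (by simpa using hNn.conj_mem n hn h⁻¹)
        have h2 := hRn.conj_mem _ h1 h
        simpa [mul_assoc] using h2
      · refine ⟨?_, ?_⟩
        · have h1 := hNP n hn y⁻¹ (Subgroup.inv_mem _ hy)
          have e : y * n * y⁻¹ * n⁻¹ = y * (n * y⁻¹ * n⁻¹) := by group
          rw [e]
          exact Subgroup.mul_mem _ hy h1
        · exact hNM (N.mul_mem (hNn.conj_mem n hn y) (N.inv_mem hn))
    -- `R` is central
    obtain ⟨μ, hμ, hμc⟩ := Clifford.exists_constituent_res R hχ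
    obtain ⟨s, hs0, hs⟩ := natDeg_mul hχ R hμ hμc
    by_cases hIR : CharTwist.inertia R μ = ⊤
    swap
    · haveI := hsolv
      obtain ⟨q', i, hq', hi, hdv, hcg⟩ := exists_prime_pow_dvd_index P hgen _ hIR (fun h => hpn
        (h.trans ⟨s * Char.degree μ, by rw [hs]; ring⟩))
      exact ⟨q', i, hq', hi, hdv.trans ⟨s * Char.degree μ, by rw [hs]; ring⟩, Or.inr (Or.inl hcg)⟩
    obtain ⟨l, hl0, hl⟩ := CharDeep.Cliff.res_eq_smul R hχ hμ (fun g =>
      CharTwist.mem_inertia.mp (hIR ▸ Subgroup.mem_top g)) hμc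
    have hμ1 : μ 1 = 1 := by
      obtain ⟨k, hk⟩ := IsPGroup.iff_card.mp hRp
      have h1 : Char.degree μ ∣ p ^ k := hk ▸ CharTools.degree_dvd_card ⟨μ, hμ⟩
      obtain ⟨j, -, hj⟩ := (Nat.dvd_prime_pow hp.out).mp h1
      have hj0 : j = 0 := by
        by_contra h0
        exact hpn (((dvd_pow_self p h0).trans (dvd_of_eq hj.symm)).trans (Dvd.intro_left _ hs.symm))
      rw [← Char.IsCharacter.degree_cast (Char.IsIrrCharacter.isCharacter hμ), hj, hj0]
      simp
    obtain ⟨μf, hμf⟩ := Char.IsCharacter.exists_linear (Char.IsIrrCharacter.isCharacter hμ) hμ1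
    have hcen : ∀ r ∈ R, ∀ g : G, g * r = r * g := by
      intro r hr g
      have h1 : g * r * g⁻¹ * r⁻¹ = 1 := by
        apply hfaith
        set r' : R := ⟨g * r * g⁻¹, hRn.conj_mem r hr g⟩
        have h2 : μ r' = μ ⟨r, hr⟩ :=
          congrFun (CharTwist.mem_inertia.mp (hIR ▸ Subgroup.mem_top g)) ⟨r, hr⟩
        rw [hμf, hμf] at h2
        have h3 := congrFun hl (r' * (⟨r, hr⟩ : R)⁻¹)
        have h4 : χ 1 = (l : ℂ) * μ 1 := congrFun hl 1
        simp only [Pi.smul_apply, smul_eq_mul, Subgroup.coe_mul, Subgroup.coe_inv] at h3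
        rw [h4, hμ1, h3, hμf, map_mul, map_inv, Units.ext h2, mul_inv_cancel, Units.val_one]
      exact mul_inv_eq_iff_eq_mul.mp (mul_inv_eq_one.mp h1)
    -- `N` is abelian, so `χ` is linear
    have hNab : ∀ u v : N, u * v = v * u := by
      intro u v
      set z := (v : G) * u * (v : G)⁻¹ * (u : G)⁻¹ with hz
      have hzR : z ∈ R := (hKtop ▸ Subgroup.mem_top (v : G) : (v : G) ∈ K) u u.2
      have hpow : ∀ k : ℕ, (v : G) * (u : G) ^ k * (v : G)⁻¹ = z ^ k * (u : G) ^ k := by
        intro k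
        rw [← conj_pow, show (v : G) * u * (v : G)⁻¹ = z * u by rw [hz]; group,
          Commute.mul_pow (hcen z hzR u).symm]
      set m := (R.subgroupOf N).index with hm
      have hmem : ((u : G)) ^ m ∈ R := by
        have := (R.subgroupOf N).pow_index_mem u
        simpa [Subgroup.mem_subgroupOf] using this
      have hzm : z ^ m = 1 := by
        have h1 := hpow m
        rw [hcen _ hmem (v : G), mul_inv_cancel_right] at h1
        exact mul_eq_right.mp h1.symm
      have hmp : ¬ p ∣ m := fun h => hRidx (h.trans ⟨N.relIndex M, by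
        rw [← Subgroup.relIndex_mul_relIndex R N M hRN hNM]; rfl⟩)
      obtain ⟨k, hk⟩ := hRp ⟨z, hzR⟩
      have hzk : z ^ p ^ k = 1 := by simpa [Subtype.ext_iff] using hk
      have h3 : orderOf z ∣ Nat.gcd m (p ^ k) :=
        Nat.dvd_gcd (orderOf_dvd_of_pow_eq_one hzm) (orderOf_dvd_of_pow_eq_one hzk)
      rw [Nat.Coprime.gcd_eq_one (Nat.Coprime.pow_right k
        ((Nat.Prime.coprime_iff_not_dvd hp.out).mpr hmp).symm), Nat.dvd_one, orderOf_eq_one_iff,
        hz, mul_inv_eq_one, mul_inv_eq_iff_eq_mul] at h3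
      exact Subtype.ext h3.symm
    exfalso
    have hχ1 : χ 1 = 1 := by
      rw [show χ 1 = φ 1 from congrFun hf 1]
      exact (CharOver.abelian_irr hNab hφ).1
    obtain ⟨g', hg'⟩ := Char.IsCharacter.exists_linear hχc hχ1
    apply hP
    refine ⟨fun a ha g => ?_⟩
    have : g * a * g⁻¹ * a⁻¹ = 1 := hfaith _ (by
      rw [hg', hg', map_mul, map_mul, map_mul, map_inv, map_inv, map_one]
      simp [mul_comm (g' g) (g' a)])
    rw [mul_inv_eq_one] at this
    rwa [this]

/-- The congruence form of `Good`. -/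
theorem Good.int {p n : ℕ} (h : Good p n) :
    ∃ q : ℕ, IsPrimePow q ∧ q ∣ n ∧
      ((q : ℤ) ≡ -1 [ZMOD p] ∨ (q : ℤ) ≡ 0 [ZMOD p] ∨ (q : ℤ) ≡ 1 [ZMOD p]) := by
  obtain ⟨q, i, hq, hi, hd, hc⟩ := h
  refine ⟨q ^ i, hq.isPrimePow.pow hi.ne', hd, ?_⟩
  rcases hc with h | h | h
  · exact Or.inr (Or.inl (Int.modEq_zero_iff_dvd.mpr (by exact_mod_cast h)))
  · exact Or.inr (Or.inr (by exact_mod_cast Int.natCast_modEq_iff.mpr h))
  · left
    rw [Int.modEq_iff_dvd]
    have h2 : (p : ℤ) ∣ ((q ^ i : ℕ) : ℤ) + 1 := by exact_mod_cast h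
    exact (dvd_neg.mpr h2).trans (dvd_of_eq (by ring))

end CfsgLib.RealChar.DegSylow
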