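import Cfsg.Agent.Lib.RealChar.Indicator
import Cfsg.Agent.Lib.Char.Orth

/-!
# The values of the Frobenius-Schur indicator
-/

namespace CfsgLib.RealChar

open Module Matrix
open scoped ComplexConjugate

variable {G : Type*} [Group G] [Fintype G] {n : ℕ}

/-- The indicator is `0`, `1` or `-1`, and is nonzero on real valued characters. -/
theorem fsInd_trichotomy_aux (ρ : Representation ℂ G (Fin n → ℂ)) [ρ.IsIrreducible] :
    (fsInd ρ.character = 0 ∨ fsInd ρ.character = 1 ∨ fsInd ρ.character = -1) ∧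
      ((∀ g, (ρ.character g).im = 0) → fsInd ρ.character ≠ 0) := by
  classical
  let b := Pi.basisFun ℂ (Fin n)
  let A : G → Matrix (Fin n) (Fin n) ℂ := fun x => LinearMap.toMatrix b b (ρ x)
  have hA : ∀ x y, A (x * y) = A x * A y := fun x y => by
    simp only [A, map_mul, LinearMap.toMatrix_mul]
  have hA1 : A 1 = 1 := by simp only [A, map_one, LinearMap.toMatrix_one]
  have htr : ∀ x, ρ.character x = (A x).trace := fun x => LinearMap.trace_eq_matrix_trace ℂ b _
  have hG : (Nat.card G : ℂ) ≠ 0 := Nat.cast_ne_zero.mpr Nat.card_pos.ne'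
  let P : Matrix (Fin n) (Fin n) ℂ → Matrix (Fin n) (Fin n) ℂ := fun E =>
    (Nat.card G : ℂ)⁻¹ • ∑ x, A x * E * (A x)ᵀ
  have hPinv : ∀ E y, A y * P E * (A y)ᵀ = P E := by
    intro E y
    simp only [P, Matrix.mul_smul, Matrix.smul_mul, Finset.mul_sum, Finset.sum_mul]
    congr 1
    refine Fintype.sum_equiv (Equiv.mulLeft y) _ _ fun x => ?_
    simp only [Equiv.coe_mulLeft, hA, Matrix.transpose_mul, Matrix.mul_assoc]
  have hν : fsInd ρ.character = ∑ i, ∑ j, P (Matrix.single j i 1) i j := by
    simp only [P, Matrix.smul_apply, smul_eq_mul, ← Finset.mul_sum, fsInd]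
    congr 1
    simp only [Matrix.sum_apply]
    rw [Finset.sum_congr rfl fun i _ => Finset.sum_comm, Finset.sum_comm]
    refine Finset.sum_congr rfl fun x _ => ?_
    rw [htr, hA, Matrix.trace]
    refine Finset.sum_congr rfl fun i _ => ?_
    rw [Matrix.diag, Matrix.mul_apply]
    refine Finset.sum_congr rfl fun j _ => ?_
    simp [Matrix.mul_apply, Matrix.single_apply, Matrix.transpose_apply, ite_and]
  by_cases hF : ∀ E, P E = 0
  · refine ⟨Or.inl (by rw [hν]; simp [hF]), fun hr => ?_⟩
    exfalso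
    have h1 := CfsgLib.Char.classInner_irr_self (χ := ρ.character) ⟨n, ρ, inferInstance, rfl⟩
    rw [Cfsg.classInner] at h1
    have h2 : ∑ i, ∑ j, P (Matrix.single i j 1) i j =
        (Nat.card G : ℂ)⁻¹ * ∑ x, ρ.character x * conj (ρ.character x) := by
      simp only [P, Matrix.smul_apply, smul_eq_mul, ← Finset.mul_sum]
      congr 1
      simp only [Matrix.sum_apply]
      rw [Finset.sum_congr rfl fun i _ => Finset.sum_comm, Finset.sum_comm]
      refine Finset.sum_congr rfl fun x _ => ?_
      rw [Complex.conj_eq_iff_im.mpr (hr x), htr, Matrix.trace, Finset.sum_mul_sum]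
      refine Finset.sum_congr rfl fun i _ => Finset.sum_congr rfl fun j _ => ?_
      simp [Matrix.mul_apply, Matrix.single_apply, Matrix.transpose_apply, ite_and, Matrix.diag]
    rw [← h2] at h1
    simp [hF] at h1
  · push Not at hF
    obtain ⟨E, hE⟩ := hF
    set F := P E with hFdef
    have hker : ∀ y, A y * F = F * (A y⁻¹)ᵀ := by
      intro y
      conv_rhs => rw [hFdef, ← hPinv E y]
      rw [Matrix.mul_assoc _ (A y)ᵀ, ← Matrix.transpose_mul, ← hA, inv_mul_cancel, hA1,
        Matrix.transpose_one, Matrix.mul_one]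
    let f : (Fin n → ℂ) →ₗ[ℂ] (Fin n → ℂ) := Matrix.toLin b b F
    have hf0 : f ≠ 0 := fun h => hE ((Matrix.toLin b b).map_eq_zero_iff.mp h)
    have hρA : ∀ y, Matrix.toLin b b (A y) = ρ y := fun y => Matrix.toLin_toMatrix _ _ _
    have hrange : ∀ y : G, ∀ v ∈ LinearMap.range f, ρ y v ∈ LinearMap.range f := by
      rintro y _ ⟨w, rfl⟩
      refine ⟨Matrix.toLin b b (A y⁻¹)ᵀ w, ?_⟩
      rw [← hρA y]
      simp only [f, ← LinearMap.comp_apply, ← Matrix.toLin_mul, hker]
    have hu : IsUnit F := by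
      have htop := (CfsgLib.CharKernel.eq_bot_or_eq_top ρ _ hrange).resolve_left
        fun h => hf0 (LinearMap.range_eq_bot.mp h)
      have hunit : IsUnit f := (Module.End.isUnit_iff _).mpr
        ⟨LinearMap.injective_iff_surjective.mpr (LinearMap.range_eq_top.mp htop),
          LinearMap.range_eq_top.mp htop⟩
      rw [← show LinearMap.toMatrixAlgEquiv b f = F from LinearMap.toMatrix_toLin b b F]
      exact hunit.map _
    obtain ⟨u, hu⟩ := hu
    -- every invariant form is a multiple of `F`
    have hmult : ∀ Q, (∀ y, A y * Q * (A y)ᵀ = Q) → ∃ a : ℂ, Q = a • F := by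
      intro Q hQ
      obtain ⟨a, ha⟩ := CfsgLib.Char.exists_scalar_of_commute ρ
        (Matrix.toLin b b (Q * (↑u⁻¹ : Matrix _ _ ℂ))) fun y => by
          have hQk : A y * Q = Q * (A y⁻¹)ᵀ := by
            conv_rhs => rw [← hQ y]
            rw [Matrix.mul_assoc _ (A y)ᵀ, ← Matrix.transpose_mul, ← hA, inv_mul_cancel, hA1,
              Matrix.transpose_one, Matrix.mul_one]
          have hFk : (A y⁻¹)ᵀ * (↑u⁻¹ : Matrix _ _ ℂ) = (↑u⁻¹ : Matrix _ _ ℂ) * A y := by
            calc (A y⁻¹)ᵀ * (↑u⁻¹ : Matrix _ _ ℂ)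
                = (↑u⁻¹ : Matrix _ _ ℂ) * ((u : Matrix _ _ ℂ) * (A y⁻¹)ᵀ) * (↑u⁻¹ : Matrix _ _ ℂ) := by
                  rw [Units.inv_mul_cancel_left]
              _ = (↑u⁻¹ : Matrix _ _ ℂ) * A y := by
                  rw [hu, ← hker y, ← hu, ← mul_assoc, Units.mul_inv_cancel_right]
          rw [← hρA y, Module.End.mul_eq_comp, Module.End.mul_eq_comp, ← Matrix.toLin_mul,
            ← Matrix.toLin_mul]
          congr 1
          calc Q * (↑u⁻¹ : Matrix _ _ ℂ) * A y = Q * ((↑u⁻¹ : Matrix _ _ ℂ) * A y) := by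
                rw [Matrix.mul_assoc]
            _ = A y * (Q * (↑u⁻¹ : Matrix _ _ ℂ)) := by
                rw [← hFk, ← Matrix.mul_assoc, ← hQk, Matrix.mul_assoc]
      refine ⟨a, ?_⟩
      have h1 := congrArg (LinearMap.toMatrix b b) ha
      rw [LinearMap.toMatrix_toLin, map_smul, LinearMap.toMatrix_one] at h1
      calc Q = Q * (↑u⁻¹ : Matrix _ _ ℂ) * (u : Matrix _ _ ℂ) := by
            rw [Matrix.mul_assoc, Units.inv_mul, Matrix.mul_one]
        _ = a • F := by rw [h1, hu, Matrix.smul_mul, Matrix.one_mul]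
    obtain ⟨c, hc⟩ := hmult Fᵀ fun y => by
      conv_rhs => rw [hFdef, ← hPinv E y]
      simp only [Matrix.transpose_mul, Matrix.transpose_transpose, Matrix.mul_assoc, hFdef]
    have hFne : F ≠ 0 := hE
    have hcc : c * c = 1 := by
      have h2 := congrArg Matrix.transpose hc
      rw [Matrix.transpose_transpose, Matrix.transpose_smul, hc, smul_smul] at h2
      have h3 : ((c * c) - 1) • F = 0 := by rw [sub_smul, one_smul, ← h2, sub_self]
      exact sub_eq_zero.mp ((smul_eq_zero.mp h3).resolve_right hFne)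
    choose lam hlam using fun E' => hmult (P E') (hPinv E')
    have hPT : ∀ E', P E'ᵀ = (P E')ᵀ := by
      intro E'
      simp only [P, Matrix.transpose_smul, Matrix.transpose_sum, Matrix.transpose_mul,
        Matrix.transpose_transpose, Matrix.mul_assoc]
    have hlamT : ∀ E', lam E'ᵀ = c * lam E' := by
      intro E'
      have h1 : lam E'ᵀ • F = (lam E' * c) • F := by
        rw [← hlam, hPT, hlam, Matrix.transpose_smul, hc, smul_smul]
      rw [mul_comm]
      exact smul_left_injective ℂ hFne h1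
    have hPF : P F = F := by
      simp only [P]
      rw [Finset.sum_congr rfl fun y _ => show A y * F * (A y)ᵀ = F from hPinv E y,
        Finset.sum_const, Finset.card_univ, ← Nat.card_eq_fintype_card,
        ← Nat.cast_smul_eq_nsmul ℂ, smul_smul, inv_mul_cancel₀ hG, one_smul]
    have hlamF : ∑ i, ∑ j, F i j * lam (Matrix.single i j 1) = 1 := by
      have hlin : ∀ (M : Matrix (Fin n) (Fin n) ℂ),
          P M = ∑ i, ∑ j, M i j • P (Matrix.single i j 1) := by
        intro M
        have hPadd : ∀ (s : Finset (Fin n)) (g : Fin n → Matrix (Fin n) (Fin n) ℂ),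
            P (∑ i ∈ s, g i) = ∑ i ∈ s, P (g i) := by
          intro s g
          simp only [P, Finset.mul_sum, Finset.sum_mul, ← Finset.smul_sum]
          rw [Finset.sum_comm]
        have hPsmul : ∀ (a : ℂ) (E' : Matrix (Fin n) (Fin n) ℂ), P (a • E') = a • P E' := by
          intro a E'
          simp only [P, Matrix.mul_smul, Matrix.smul_mul, ← Finset.smul_sum]
          rw [smul_comm]
        conv_lhs => rw [Matrix.matrix_eq_sum_single M]
        simp only [hPadd]
        refine Finset.sum_congr rfl fun i _ => Finset.sum_congr rfl fun j _ => ?_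
        rw [← hPsmul, Matrix.smul_single, smul_eq_mul, mul_one]
      have h1 := hlin F
      simp only [hPF, hlam, smul_smul, ← Finset.sum_smul] at h1
      exact smul_left_injective ℂ hFne (h1.symm.trans (one_smul ℂ F).symm)
    have hval : fsInd ρ.character = c := by
      rw [hν]
      calc ∑ i, ∑ j, P (Matrix.single j i 1) i j
          = ∑ i, ∑ j, c * (F i j * lam (Matrix.single i j 1)) := by
            refine Finset.sum_congr rfl fun i _ => Finset.sum_congr rfl fun j _ => ?_
            rw [hlam, Matrix.smul_apply, smul_eq_mul,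
              show Matrix.single j i (1 : ℂ) = (Matrix.single i j 1)ᵀ from
                (Matrix.transpose_single i j 1).symm, hlamT]
            ring
        _ = c := by simp only [← Finset.mul_sum, hlamF, mul_one]
    rw [hval]
    refine ⟨Or.inr (mul_self_eq_one_iff.mp hcc), fun _ h0 => ?_⟩
    rw [h0, mul_zero] at hcc
    exact zero_ne_one hcc

variable {χ : G → ℂ}

/-- The indicator of an irreducible character is `0`, `1` or `-1`. -/
theorem fsInd_eq (hχ : Cfsg.IsIrrCharacter G χ) :
    fsInd χ = 0 ∨ fsInd χ = 1 ∨ fsInd χ = -1 := by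
  obtain ⟨n, ρ, hρ, rfl⟩ := hχ
  haveI := hρ
  exact (fsInd_trichotomy_aux ρ).1

/-- The indicator is nonzero exactly on real valued irreducible characters. -/
theorem fsInd_ne_zero_iff (hχ : Cfsg.IsIrrCharacter G χ) :
    fsInd χ ≠ 0 ↔ ∀ g, (χ g).im = 0 := by
  refine ⟨fun h g => im_eq_zero_of_fsInd_ne_zero hχ h g, fun h => ?_⟩
  obtain ⟨n, ρ, hρ, rfl⟩ := hχ
  haveI := hρ
  exact (fsInd_trichotomy_aux ρ).2 h

end CfsgLib.RealChar
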