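import Cfsg.Agent.Lib.RealChar.CrossDegree
import Cfsg.Agent.Lib.Blk83.OneBlock
import Cfsg.Agent.Lib.Blk83.PrincipalKernel
import Mathlib.GroupTheory.FiniteAbelian.Duality

/-!
# Degrees prime to `p` in the principal `p`-block of a `p`-solvable group
-/

set_option autoImplicit false
set_option linter.style.haveILetI false

namespace CfsgLib.RealChar.Cross

open Cfsg
open scoped ComplexConjugate

universe u

variable {G : Type u} [Group G] [Finite G] {p q : ℕ} [Fact p.Prime] [Fact q.Prime]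
  {M : Ideal AlgInt}

/-- All characters of `G/O_{p'}(G)` lie in the principal block. -/
theorem inflIrr_mem (hM : IsPModular p M) (hps : IsPSolvable p G) (K : Subgroup G) [K.Normal]
    (hK : K = pPrimeCore p G) (η : IrrCharacter (G ⧸ K)) :
    CfsgLib.Blk83.inflIrr K η ∈ principalBlock M G := by
  have hcop : ¬ p ∣ Nat.card K := (Fact.out : p.Prime).coprime_iff_not_dvd.mp
    (by rw [hK]; exact (CfsgLib.Solvable.pPrimeCore_card_coprime p G).symm)
  refine (CfsgLib.Blk83.inflIrr_bijOn hM K hcop).mapsTo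
    (CfsgLib.Blk83.mem_principalBlock_of_centralizer_pCore_le hM ?_ η)
  exact CfsgLib.Blocks82.centralizer_pCore_le (CfsgLib.Blocks82.isPSolvable_quotient hps K)
    (CfsgLib.Solvable.pPrimeCore_quotient_eq_bot K hK)

/-- The principal `p`-block has all `p'`-degrees prime to `q` iff `q` does not divide
`|G : O_{p'}(G)|`. -/
theorem principal_primeDeg_iff (hpq : p ≠ q) (hM : IsPModular p M) (hps : IsPSolvable p G)
    (hqs : IsPSolvable q G) :
    (∀ χ : IrrCharacter G, χ ∈ principalBlock M G → ¬ p ∣ charDegree (χ : G → ℂ) →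
      ¬ q ∣ charDegree (χ : G → ℂ)) ↔ ¬ q ∣ (pPrimeCore p G).index := by
  haveI := CfsgLib.Solvable.pPrimeCore_normal p G
  set K := pPrimeCore p G with hK
  constructor
  · intro h
    rw [Subgroup.index_eq_card]
    refine not_dvd_card_of_primeDeg hpq _ (G ⧸ K) rfl (CfsgLib.Blocks82.isPSolvable_quotient hps K)
      (CfsgLib.Blocks82.isPSolvable_quotient hqs K)
      (CfsgLib.Solvable.pPrimeCore_quotient_eq_bot K hK) fun η hη => ?_
    have := h _ (inflIrr_mem hM hps K hK η) (by simpa [charDegree] using hη)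
    simpa [charDegree] using this
  · intro h χ hχ _ hd
    have hcop : ¬ p ∣ Nat.card K := (Fact.out : p.Prime).coprime_iff_not_dvd.mp
      (CfsgLib.Solvable.pPrimeCore_card_coprime p G).symm
    obtain ⟨η, -, rfl⟩ := (CfsgLib.Blk83.inflIrr_bijOn hM K hcop).surjOn hχ
    refine h ?_
    rw [Subgroup.index_eq_card]
    exact (show q ∣ charDegree (η : G ⧸ K → ℂ) by simpa [charDegree] using hd).trans
      (CfsgLib.CharTools.degree_dvd_card η)

omit [Fact q.Prime] in
/-- A Sylow `p`-subgroup lies in every normal subgroup of index prime to `p`. -/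
theorem sylow_le_of_not_dvd_index (L : Subgroup G) [L.Normal] (hL : ¬ p ∣ L.index) (P : Sylow p G) :
    (P : Subgroup G) ≤ L := by
  intro x hx
  rw [← QuotientGroup.eq_one_iff, ← orderOf_eq_one_iff]
  obtain ⟨k, hk⟩ := P.isPGroup' ⟨x, hx⟩
  refine Nat.eq_one_of_dvd_coprimes
    (((Fact.out : p.Prime).coprime_iff_not_dvd.mpr hL).pow_left k) ?_ ?_
  · refine orderOf_dvd_of_pow_eq_one ?_
    have := congrArg Subtype.val hk
    simp only [SubmonoidClass.coe_pow, OneMemClass.coe_one] at this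
    rw [← QuotientGroup.mk_pow, this, QuotientGroup.mk_one]
  · rw [Subgroup.index_eq_card]
    exact orderOf_dvd_natCard _

/-- Both conditions give commuting Sylow subgroups. -/
theorem exists_commuting_sylow (hpq : p ≠ q) (hp' : ¬ q ∣ (pPrimeCore p G).index)
    (hq' : ¬ p ∣ (pPrimeCore q G).index) :
    ∃ (P : Sylow p G) (Q : Sylow q G),
      ∀ x ∈ (P : Subgroup G), ∀ y ∈ (Q : Subgroup G), x * y = y * x := by
  haveI := CfsgLib.Solvable.pPrimeCore_normal q G
  obtain ⟨P, Q, hPQ⟩ := CfsgLib.Blocks82.exists_sylow_le_normalizer (p := p) (q := q)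
    (pPrimeCore p G) (CfsgLib.Solvable.pPrimeCore_card_coprime p G)
    (hKq := hp')
  refine ⟨P, Q, fun x hx y hy => ?_⟩
  have hxL := sylow_le_of_not_dvd_index _ hq' P hx
  have h1 : x * y * x⁻¹ * y⁻¹ ∈ pPrimeCore q G := by
    have h := (inferInstance : (pPrimeCore q G).Normal).conj_mem _ (inv_mem hxL) y
    simpa [mul_assoc] using mul_mem hxL h
  have h2 : x * y * x⁻¹ * y⁻¹ ∈ (Q : Subgroup G) :=
    mul_mem (((Subgroup.mem_normalizer_iff.mp (hPQ hx)) y).mp hy) (inv_mem hy)
  obtain ⟨k, hk⟩ := IsPGroup.iff_card.mp Q.isPGroup'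
  have h3 : x * y * x⁻¹ * y⁻¹ = 1 := Subgroup.disjoint_def.mp (Subgroup.disjoint_of_coprime_natCard
    (by rw [hk]; exact (CfsgLib.Solvable.pPrimeCore_card_coprime q G).pow_right k)) h1 h2
  exact mul_inv_eq_iff_eq_mul.mp (mul_inv_eq_one.mp h3)

omit [Finite G] in
/-- A nontrivial `p`-group has a nontrivial linear character. -/
theorem exists_linear_ne_one {P : Type u} [Group P] [Finite P] (hP : IsPGroup p P) [Nontrivial P] :
    ∃ l : P →* ℂˣ, l ≠ 1 := by
  haveI : Group.IsNilpotent P := hP.isNilpotent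
  haveI : Nontrivial (Abelianization P) := by
    refine (QuotientGroup.nontrivial_iff).mpr ?_
    exact (Group.IsSolvable.commutator_lt_top_of_nontrivial P).ne
  obtain ⟨a, ha⟩ := exists_ne (1 : Abelianization P)
  obtain ⟨φ, hφ⟩ := CommGroup.exists_apply_ne_one_of_hasEnoughRootsOfUnity (Abelianization P) ℂ ha
  obtain ⟨x, rfl⟩ := QuotientGroup.mk_surjective a
  exact ⟨φ.comp Abelianization.of, fun h => hφ (DFunLike.congr_fun h x)⟩

/-- Equal sets of `p'`- and `q'`-degree characters of the principal blocks force `p = q`. -/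
theorem eq_of_same_principal (hp : p ∣ Nat.card G) (hps : IsPSolvable p G) (hqs : IsPSolvable q G)
    {Mp Mq : Ideal AlgInt} (hMp : IsPModular p Mp) (hMq : IsPModular q Mq)
    (h : ∀ χ : IrrCharacter G, (χ ∈ principalBlock Mp G ∧ ¬ p ∣ charDegree (χ : G → ℂ)) ↔
      (χ ∈ principalBlock Mq G ∧ ¬ q ∣ charDegree (χ : G → ℂ))) : p = q := by
  by_contra hpq
  classical
  haveI := Fintype.ofFinite G
  have hq' := (principal_primeDeg_iff (G := G) (Ne.symm hpq) hMq hqs hps).mp fun χ hχ hd =>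
    ((h χ).mpr ⟨hχ, hd⟩).2
  haveI := CfsgLib.Solvable.pPrimeCore_normal p G
  haveI := CfsgLib.Solvable.pPrimeCore_normal q G
  set K := pPrimeCore p G with hK
  set L := pPrimeCore q G with hL
  obtain ⟨P⟩ := (inferInstance : Nonempty (Sylow p G))
  have hPL := sylow_le_of_not_dvd_index L hq' P
  let Pb : Sylow p (G ⧸ K) := P.mapSurjective (QuotientGroup.mk'_surjective K)
  haveI : Fintype (G ⧸ K) := Fintype.ofFinite _
  haveI : Fintype (Pb : Subgroup (G ⧸ K)) := Fintype.ofFinite _
  have hPb : Nontrivial (Pb : Subgroup (G ⧸ K)) := by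
    rw [Subgroup.nontrivial_iff_ne_bot]
    refine Pb.ne_bot_of_dvd_card ?_
    have hcop : ¬ p ∣ Nat.card K := (Fact.out : p.Prime).coprime_iff_not_dvd.mp
      (CfsgLib.Solvable.pPrimeCore_card_coprime p G).symm
    rw [Subgroup.card_eq_card_quotient_mul_card_subgroup K] at hp
    exact ((Fact.out : p.Prime).dvd_mul.mp hp).resolve_right hcop
  haveI := hPb
  obtain ⟨l, hl⟩ := exists_linear_ne_one (P := (Pb : Subgroup (G ⧸ K))) Pb.isPGroup'
  obtain ⟨η, hη, hc⟩ := exists_pPrime_over (Pb : Subgroup (G ⧸ K)) Pb.not_dvd_index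
    (Fact.out : p.Prime) (CfsgLib.Char.isIrrCharacter_linear l)
    (by simp [charDegree, (Fact.out : p.Prime).ne_one])
  obtain ⟨hB, -⟩ := (h _).mp ⟨inflIrr_mem hMp hps K hK η, by simpa [charDegree] using hη⟩
  have hker := CfsgLib.Blk83.principal_trivial_on hMq L ((Fact.out : q.Prime).coprime_iff_not_dvd.mp
    (CfsgLib.Solvable.pPrimeCore_card_coprime q G).symm) hB
  refine hc ?_
  have hconst : (fun x : (Pb : Subgroup (G ⧸ K)) => (η : G ⧸ K → ℂ) x) =
      (η : G ⧸ K → ℂ) 1 • (fun _ : (Pb : Subgroup (G ⧸ K)) => (1 : ℂ)) := by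
    funext x
    obtain ⟨z, hz, hzx⟩ : (x : G ⧸ K) ∈ (P : Subgroup G).map (QuotientGroup.mk' K) := by
      rw [← Sylow.coe_mapSurjective (hf := QuotientGroup.mk'_surjective K) P]
      exact x.2
    rw [QuotientGroup.mk'_apply] at hzx
    have := hker z (hPL hz)
    simp only [CfsgLib.Blk83.inflIrr_apply, hzx, QuotientGroup.mk_one] at this
    simp [this]
  have hone : IsIrrCharacter (Pb : Subgroup (G ⧸ K)) (fun _ => (1 : ℂ)) := by
    simpa using CfsgLib.Char.isIrrCharacter_linear (1 : (Pb : Subgroup (G ⧸ K)) →* ℂˣ)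
  rw [hconst, CfsgLib.Char.classInner_smul_left,
    CfsgLib.Char.classInner_irr_of_ne hone (CfsgLib.Char.isIrrCharacter_linear l) ?_, mul_zero]
  intro he
  exact hl (MonoidHom.ext fun x => Units.ext (congrFun he x).symm)

end CfsgLib.RealChar.Cross
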