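import Cfsg.Agent.Lib.RealChar.Corr
import Cfsg.Agent.Lib.Char.Conj

/-!
# Real characters and real classes invariant under a coprime `p`-group
-/

set_option linter.style.haveILetI false

namespace CfsgLib.RealChar

open scoped ComplexConjugate

attribute [local instance high] Fintype.ofFinite

variable {G : Type*} [Group G] [Finite G] {p : ℕ} [hp : Fact p.Prime]

/-- The complex conjugate of an irreducible character. -/
noncomputable def conjIrr {H : Type*} [Group H] [Finite H] (χ : Cfsg.IrrCharacter H) :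
    Cfsg.IrrCharacter H :=
  ⟨fun h => conj ((χ : H → ℂ) h), CfsgLib.Char.IsIrrCharacter.conj_apply' χ.2⟩

theorem conjIrr_eq_self_iff {H : Type*} [Group H] [Finite H] (χ : Cfsg.IrrCharacter H) :
    conjIrr χ = χ ↔ ∀ h : H, ((χ : H → ℂ) h).im = 0 :=
  ⟨fun h x => Complex.conj_eq_iff_im.mp (congrArg (fun t : Cfsg.IrrCharacter H => (t : H → ℂ) x) h),
    fun h => Subtype.ext (funext fun x => Complex.conj_eq_iff_im.mpr (h x))⟩

theorem conjIrr_conjIrr {H : Type*} [Group H] [Finite H] (χ : Cfsg.IrrCharacter H) :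
    conjIrr (conjIrr χ) = χ :=
  Subtype.ext (funext fun x => Complex.conj_conj ((χ : H → ℂ) x))

theorem InvUnder.conjIrr {S : Set G} {K : Subgroup G} {χ : Cfsg.IrrCharacter K}
    (h : InvUnder S (χ : K → ℂ)) : InvUnder S (RealChar.conjIrr χ : K → ℂ) :=
  fun x hx k k' hk => congrArg conj (h x hx k k' hk)

theorem rmult_conjIrr {K C : Subgroup G} (hCK : C ≤ K) (χ : Cfsg.IrrCharacter K)
    (ξ : Cfsg.IrrCharacter C) : rmult hCK (conjIrr χ) (conjIrr ξ) = rmult hCK χ ξ := by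
  have h1 := rmult_spec hCK (conjIrr χ) (conjIrr ξ)
  have h2 := congrArg (starRingEnd ℂ) (rmult_spec hCK χ ξ)
  rw [Complex.conj_natCast] at h2
  have e : Cfsg.classInner ((conjIrr χ : K → ℂ) ∘ Subgroup.inclusion hCK) (conjIrr ξ : C → ℂ) =
      conj (Cfsg.classInner ((χ : K → ℂ) ∘ Subgroup.inclusion hCK) (ξ : C → ℂ)) := by
    simp only [Cfsg.classInner, map_mul, map_inv₀, map_sum, Complex.conj_natCast,
      Function.comp_apply, conjIrr]
  rw [e, h2] at h1
  exact_mod_cast h1.symm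

/-- The correspondence respects complex conjugation. -/
theorem Corr.real_iff {S : Set G} {K C : Subgroup G} {hCK : C ≤ K} (h : Corr p S K C hCK)
    {χ : Cfsg.IrrCharacter K} {ξ : Cfsg.IrrCharacter C} (hχ : InvUnder S (χ : K → ℂ))
    (hξ : InvUnder S (ξ : C → ℂ)) (hnd : ¬ p ∣ rmult hCK χ ξ) :
    (∀ k : K, ((χ : K → ℂ) k).im = 0) ↔ ∀ c : C, ((ξ : C → ℂ) c).im = 0 := by
  rw [← conjIrr_eq_self_iff, ← conjIrr_eq_self_iff]
  constructor
  · intro he
    obtain ⟨η, -, -, hu⟩ := h.1 χ hχ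
    rw [hu ξ hξ hnd]
    refine hu _ ?_ ?_
    · rw [← hu ξ hξ hnd]
      exact hξ.conjIrr
    · rw [← hu ξ hξ hnd]
      have := rmult_conjIrr hCK χ ξ
      rw [he] at this
      rwa [this]
  · intro he
    obtain ⟨η, -, -, hu⟩ := h.2 ξ hξ
    rw [hu χ hχ hnd]
    refine hu _ ?_ ?_
    · rw [← hu χ hχ hnd]
      exact hχ.conjIrr
    · rw [← hu χ hχ hnd]
      have := rmult_conjIrr hCK χ ξ
      rw [he] at this
      rwa [this]

variable {P K : Subgroup G}

/-- A `P`-invariant class of a `p'`-group `K` meets the centralizer of `P`. -/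
theorem exists_conj_commute (hP : IsPGroup p P) (hK : ¬ p ∣ Nat.card K)
    (hPK : P ≤ Subgroup.normalizer (K : Set G)) (k : K)
    (hinv : ∀ x ∈ P, ∀ k' : K, (k' : G) = x * (k : G) * x⁻¹ → IsConj k k') :
    ∃ k' : K, IsConj k k' ∧ ∀ x ∈ P, x * (k' : G) * x⁻¹ = (k' : G) := by
  classical
  have hmem : ∀ (x : P) (a : {a : K // IsConj k a}),
      ∃ h : (x : G) * (a.1 : G) * (x : G)⁻¹ ∈ K, IsConj k ⟨_, h⟩ := by
    intro x a
    refine ⟨(Subgroup.mem_normalizer_iff.mp (hPK x.2) _).mp a.1.2, ?_⟩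
    obtain ⟨c, hc⟩ := isConj_iff.mp a.2
    have hk : (x : G) * (k : G) * (x : G)⁻¹ ∈ K := (Subgroup.mem_normalizer_iff.mp (hPK x.2) _).mp k.2
    have hcm : (x : G) * (c : G) * (x : G)⁻¹ ∈ K :=
      (Subgroup.mem_normalizer_iff.mp (hPK x.2) _).mp c.2
    refine (hinv x x.2 ⟨_, hk⟩ rfl).trans (isConj_iff.mpr ⟨⟨_, hcm⟩, Subtype.ext ?_⟩)
    simp only [Subgroup.coe_mul, InvMemClass.coe_inv]
    rw [← hc]
    simp [mul_assoc]
  letI : MulAction P {a : K // IsConj k a} :=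
    { smul := fun x a => ⟨⟨_, (hmem x a).1⟩, (hmem x a).2⟩
      one_smul := fun a => Subtype.ext (Subtype.ext (by
        change ((1 : P) : G) * (a.1 : G) * ((1 : P) : G)⁻¹ = _
        simp))
      mul_smul := fun x y a => Subtype.ext (Subtype.ext (by
        change ((x * y : P) : G) * (a.1 : G) * ((x * y : P) : G)⁻¹ =
          (x : G) * ((y : G) * (a.1 : G) * (y : G)⁻¹) * (x : G)⁻¹
        simp [mul_assoc])) }
  have hdvd : Nat.card {a : K // IsConj k a} ∣ Nat.card K := by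
    rw [← CfsgLib.Char.index_centralizer_eq_card_isConj k]
    exact Subgroup.index_dvd_card _
  obtain ⟨a, ha⟩ := hP.nonempty_fixed_point_of_prime_not_dvd_card {a : K // IsConj k a}
    fun h => hK (h.trans hdvd)
  exact ⟨a.1, a.2, fun x hx =>
    congrArg (fun t : {a : K // IsConj k a} => ((t.1 : K) : G))
      (MulAction.mem_fixedPoints.mp ha ⟨x, hx⟩)⟩

/-- Elements centralized by `P` that are conjugate in `K` are conjugate in the centralizer. -/
theorem exists_conj_centralized (hP : IsPGroup p P) (hK : ¬ p ∣ Nat.card K)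
    (hPK : P ≤ Subgroup.normalizer (K : Set G)) {c c' : K} (h : IsConj c c')
    (hc : ∀ x ∈ P, x * (c : G) * x⁻¹ = (c : G)) (hc' : ∀ x ∈ P, x * (c' : G) * x⁻¹ = (c' : G)) :
    ∃ t : K, t * c * t⁻¹ = c' ∧ ∀ x ∈ P, x * (t : G) * x⁻¹ = (t : G) := by
  classical
  obtain ⟨t₀, ht₀⟩ := isConj_iff.mp h
  have hmem : ∀ (x : P) (a : {a : K // a * c * a⁻¹ = c'}),
      ∃ h : (x : G) * (a.1 : G) * (x : G)⁻¹ ∈ K, (⟨_, h⟩ : K) * c * (⟨_, h⟩ : K)⁻¹ = c' := by
    intro x a
    refine ⟨(Subgroup.mem_normalizer_iff.mp (hPK x.2) _).mp a.1.2, Subtype.ext ?_⟩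
    simp only [Subgroup.coe_mul, InvMemClass.coe_inv]
    conv_rhs => rw [← hc' x x.2, ← a.2]
    conv_lhs => rw [← hc x x.2]
    simp [mul_assoc]
  letI : MulAction P {a : K // a * c * a⁻¹ = c'} :=
    { smul := fun x a => ⟨⟨_, (hmem x a).1⟩, (hmem x a).2⟩
      one_smul := fun a => Subtype.ext (Subtype.ext (by
        change ((1 : P) : G) * (a.1 : G) * ((1 : P) : G)⁻¹ = _
        simp))
      mul_smul := fun x y a => Subtype.ext (Subtype.ext (by
        change ((x * y : P) : G) * (a.1 : G) * ((x * y : P) : G)⁻¹ =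
          (x : G) * ((y : G) * (a.1 : G) * (y : G)⁻¹) * (x : G)⁻¹
        simp [mul_assoc])) }
  have hcard : Nat.card {a : K // a * c * a⁻¹ = c'} =
      Nat.card (Subgroup.centralizer ({c} : Set K)) :=
    Nat.card_congr
      { toFun := fun a => ⟨t₀⁻¹ * a.1, Subgroup.mem_centralizer_singleton_iff.mpr (by
          have e1 : a.1 * c = c' * a.1 := mul_inv_eq_iff_eq_mul.mp a.2
          have e2 : t₀⁻¹ * c' = c * t₀⁻¹ := by
            rw [inv_mul_eq_iff_eq_mul, ← mul_assoc]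
            exact ht₀.symm
          rw [mul_assoc, e1, ← mul_assoc, e2, mul_assoc])⟩
        invFun := fun z => ⟨t₀ * z.1, by
          have hz := Subgroup.mem_centralizer_singleton_iff.mp z.2
          rw [← ht₀]
          calc t₀ * z.1 * c * (t₀ * z.1)⁻¹ = t₀ * (z.1 * c) * z.1⁻¹ * t₀⁻¹ := by group
            _ = t₀ * c * t₀⁻¹ := by rw [hz]; group⟩
        left_inv := fun a => Subtype.ext (mul_inv_cancel_left t₀ a.1)
        right_inv := fun z => Subtype.ext (inv_mul_cancel_left t₀ z.1) }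
  obtain ⟨a, ha⟩ := hP.nonempty_fixed_point_of_prime_not_dvd_card {a : K // a * c * a⁻¹ = c'}
    fun h => hK (h.trans (hcard ▸ Subgroup.card_subgroup_dvd_card _))
  exact ⟨a.1, a.2, fun x hx =>
    congrArg (fun t : {a : K // a * c * a⁻¹ = c'} => ((t.1 : K) : G))
      (MulAction.mem_fixedPoints.mp ha ⟨x, hx⟩)⟩

/-- Equally many invariant real characters and invariant real classes. -/
theorem card_invariant_real (hP : IsPGroup p P) (hK : ¬ p ∣ Nat.card K)
    (hPK : P ≤ Subgroup.normalizer (K : Set G)) :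
    Nat.card {θ : Cfsg.IrrCharacter K // (∀ k : K, ((θ : K → ℂ) k).im = 0) ∧
        InvUnder (P : Set G) (θ : K → ℂ)} =
      Nat.card {c : ConjClasses K // (∀ k : K, ConjClasses.mk k = c → IsConj k k⁻¹) ∧
        ∀ k : K, ConjClasses.mk k = c → ∀ x ∈ P, ∀ k' : K,
          (k' : G) = x * (k : G) * x⁻¹ → ConjClasses.mk k' = c} := by
  classical
  let C : Subgroup G := K ⊓ Subgroup.centralizer (P : Set G)
  have hCK : C ≤ K := inf_le_left
  have hcent : ∀ k : G, k ∈ Subgroup.centralizer (P : Set G) ↔ ∀ x ∈ P, x * k * x⁻¹ = k := by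
    intro k
    rw [Subgroup.mem_centralizer_iff]
    refine forall₂_congr fun x _ => ⟨fun h => ?_, fun h => ?_⟩
    · rw [h, mul_inv_cancel_right]
    · exact mul_inv_eq_iff_eq_mul.mp h
  have hC : ∀ k : G, k ∈ C ↔ (k ∈ K ∧ ∀ x ∈ P, x * k * x⁻¹ * k⁻¹ ∈ (⊥ : Subgroup G)) := by
    intro k
    rw [Subgroup.mem_inf, hcent]
    simp only [Subgroup.mem_bot, mul_inv_eq_one]
  obtain ⟨hcorr, -⟩ := corr_exists (p := p) (Q := (⊥ : Subgroup G)) hP hPK bot_le
    (fun k _ q hq => by rw [Subgroup.mem_bot] at hq ⊢; simp [hq]) IsPGroup.of_bot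
    (by rwa [Subgroup.relIndex_bot_left]) hCK hC
  have hCinv : ∀ ξ : Cfsg.IrrCharacter C, InvUnder (P : Set G) (ξ : C → ℂ) := fun ξ x hx k k' hk =>
    congrArg _ (Subtype.ext (hk.trans ((hcent k).mp k.2.2 x hx)))
  have hchar : Nat.card {θ : Cfsg.IrrCharacter K // (∀ k : K, ((θ : K → ℂ) k).im = 0) ∧
        InvUnder (P : Set G) (θ : K → ℂ)} =
      Nat.card {ξ : Cfsg.IrrCharacter C // ∀ c : C, ((ξ : C → ℂ) c).im = 0} := by
    choose F hFinv hFsq hFuniq using hcorr.1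
    refine Nat.card_congr (Equiv.ofBijective (fun θ => ⟨F θ.1 θ.2.2, (hcorr.real_iff θ.2.2
      (hFinv _ _) ((hFsq θ.1 θ.2.2).not_dvd hp.out)).mp θ.2.1⟩) ⟨fun a b hab => ?_, fun ξ => ?_⟩)
    · have hab' : F a.1 a.2.2 = F b.1 b.2.2 := congrArg Subtype.val hab
      obtain ⟨χ, -, -, hu⟩ := hcorr.2 _ (hFinv a.1 a.2.2)
      refine Subtype.ext ((hu _ a.2.2 ((hFsq _ _).not_dvd hp.out)).trans (hu _ b.2.2 ?_).symm)
      rw [hab']
      exact (hFsq _ _).not_dvd hp.out
    · obtain ⟨χ, hχ, hsq, -⟩ := hcorr.2 ξ.1 (hCinv _)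
      exact ⟨⟨χ, (hcorr.real_iff hχ (hCinv _) (hsq.not_dvd hp.out)).mpr ξ.2, hχ⟩,
        Subtype.ext (hFuniq _ hχ _ (hCinv _) (hsq.not_dvd hp.out)).symm⟩
  haveI : Finite (ConjClasses C) := Finite.of_surjective ConjClasses.mk Quotient.mk_surjective
  have hfix : ∀ c : C, ∀ x ∈ P, x * (c : G) * x⁻¹ = (c : G) := fun c => (hcent c).mp c.2.2
  have hclass : Nat.card {d : ConjClasses C // ∀ c : C, ConjClasses.mk c = d → IsConj c c⁻¹} =
      Nat.card {c : ConjClasses K // (∀ k : K, ConjClasses.mk k = c → IsConj k k⁻¹) ∧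
        ∀ k : K, ConjClasses.mk k = c → ∀ x ∈ P, ∀ k' : K,
          (k' : G) = x * (k : G) * x⁻¹ → ConjClasses.mk k' = c} := by
    refine Nat.card_congr (Equiv.ofBijective (fun d =>
      ⟨ConjClasses.map (Subgroup.inclusion hCK) d.1, ?_, ?_⟩) ⟨?_, ?_⟩)
    · intro k hk
      obtain ⟨c, hcd⟩ := ConjClasses.mk_surjective d.1
      rw [← hcd] at hk
      have h1 : IsConj k (Subgroup.inclusion hCK c) := ConjClasses.mk_eq_mk_iff_isConj.mp hk
      obtain ⟨t, ht⟩ := isConj_iff.mp h1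
      refine h1.trans ((((Subgroup.inclusion hCK).map_isConj (d.2 c hcd)).trans ?_))
      rw [map_inv]
      exact isConj_iff.mpr ⟨t⁻¹, by rw [← ht]; group⟩
    · intro k hk x hx k' hk'
      obtain ⟨c, hcd⟩ := ConjClasses.mk_surjective d.1
      rw [← hcd] at hk ⊢
      obtain ⟨t, ht⟩ := isConj_iff.mp (ConjClasses.mk_eq_mk_iff_isConj.mp hk)
      have hxt : x * (t : G) * x⁻¹ ∈ K := (Subgroup.mem_normalizer_iff.mp (hPK hx) _).mp t.2
      refine ConjClasses.mk_eq_mk_iff_isConj.mpr (isConj_iff.mpr ⟨⟨_, hxt⟩, Subtype.ext ?_⟩)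
      have e := congrArg Subtype.val ht
      simp only [Subgroup.coe_mul, InvMemClass.coe_inv, Subgroup.coe_inclusion] at e ⊢
      rw [hk', ← hfix c x hx, ← e]
      simp [mul_assoc]
    · intro d d' hdd
      have hdd' : ConjClasses.map (Subgroup.inclusion hCK) d.1 =
          ConjClasses.map (Subgroup.inclusion hCK) d'.1 := congrArg Subtype.val hdd
      obtain ⟨c, hcd⟩ := ConjClasses.mk_surjective d.1
      obtain ⟨c', hcd'⟩ := ConjClasses.mk_surjective d'.1
      rw [← hcd, ← hcd'] at hdd'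
      obtain ⟨t, ht, htfix⟩ := exists_conj_centralized hP hK hPK
        (ConjClasses.mk_eq_mk_iff_isConj.mp hdd') (hfix c) (hfix c')
      refine Subtype.ext ?_
      rw [← hcd, ← hcd', ConjClasses.mk_eq_mk_iff_isConj]
      exact isConj_iff.mpr ⟨⟨t, t.2, (hcent _).mpr htfix⟩,
        Subtype.ext (congrArg (Subtype.val : K → G) ht)⟩
    · intro e
      obtain ⟨k, hk⟩ := ConjClasses.mk_surjective e.1
      obtain ⟨k', hkk', hk'fix⟩ := exists_conj_commute hP hK hPK k fun x hx k' hk' =>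
        ConjClasses.mk_eq_mk_iff_isConj.mp (hk.trans (e.2.2 k hk x hx k' hk').symm)
      let c : C := ⟨k', k'.2, (hcent _).mpr hk'fix⟩
      have hreal : IsConj k' k'⁻¹ := e.2.1 k'
        ((ConjClasses.mk_eq_mk_iff_isConj.mpr hkk').symm.trans hk)
      obtain ⟨t, ht, htfix⟩ := exists_conj_centralized hP hK hPK hreal hk'fix fun x hx => by
        rw [InvMemClass.coe_inv, ← conj_inv, hk'fix x hx]
      refine ⟨⟨ConjClasses.mk c, fun c₁ hc₁ => ?_⟩, Subtype.ext ?_⟩
      · obtain ⟨u, hu⟩ := isConj_iff.mp (ConjClasses.mk_eq_mk_iff_isConj.mp hc₁)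
        let w : C := ⟨(t : G), t.2, (hcent _).mpr htfix⟩
        have h1 : IsConj c₁ c := isConj_iff.mpr ⟨u, hu⟩
        have h2 : IsConj c c⁻¹ :=
          isConj_iff.mpr ⟨w, Subtype.ext (congrArg (Subtype.val : K → G) ht)⟩
        have h3 : IsConj c⁻¹ c₁⁻¹ := isConj_iff.mpr ⟨u⁻¹, by rw [← hu]; group⟩
        exact h1.trans (h2.trans h3)
      · exact ((ConjClasses.mk_eq_mk_iff_isConj.mpr hkk').symm.trans hk)
  rw [hchar, CfsgLib.Char.card_real_irr_eq_card_real_classes, hclass]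

/-- If every real character is invariant, every real element is conjugate to a centralized one. -/
theorem exists_centralized_of_real (hP : IsPGroup p P) (hK : ¬ p ∣ Nat.card K)
    (hPK : P ≤ Subgroup.normalizer (K : Set G))
    (hall : ∀ θ : Cfsg.IrrCharacter K, (∀ k : K, ((θ : K → ℂ) k).im = 0) →
      InvUnder (P : Set G) (θ : K → ℂ)) (k : K) (hk : IsConj k k⁻¹) :
    ∃ k' : K, IsConj k k' ∧ ∀ x ∈ P, x * (k' : G) * x⁻¹ = (k' : G) := by
  classical
  haveI : Finite (ConjClasses K) := Finite.of_surjective ConjClasses.mk Quotient.mk_surjective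
  have h := card_invariant_real hP hK hPK
  rw [Nat.card_congr (Equiv.subtypeEquivRight fun θ : Cfsg.IrrCharacter K =>
    ⟨fun h => h.1, fun h => ⟨h, hall θ h⟩⟩), CfsgLib.Char.card_real_irr_eq_card_real_classes] at h
  let incl : {c : ConjClasses K // (∀ k : K, ConjClasses.mk k = c → IsConj k k⁻¹) ∧
      ∀ k : K, ConjClasses.mk k = c → ∀ x ∈ P, ∀ k' : K,
        (k' : G) = x * (k : G) * x⁻¹ → ConjClasses.mk k' = c} →
      {c : ConjClasses K // ∀ k : K, ConjClasses.mk k = c → IsConj k k⁻¹} :=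
    fun c => ⟨c.1, c.2.1⟩
  have hsurj : Function.Surjective incl :=
    ((Nat.bijective_iff_injective_and_card incl).mpr
      ⟨fun a b hab => Subtype.ext (congrArg (fun t => t.1) hab), h.symm⟩).2
  obtain ⟨d, hd⟩ := hsurj ⟨ConjClasses.mk k, fun j hj => by
    obtain ⟨t, ht⟩ := isConj_iff.mp (ConjClasses.mk_eq_mk_iff_isConj.mp hj)
    exact (isConj_iff.mpr ⟨t, ht⟩).trans (hk.trans (isConj_iff.mpr ⟨t⁻¹, by rw [← ht]; group⟩))⟩
  have hd' : d.1 = ConjClasses.mk k := congrArg Subtype.val hd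
  exact exists_conj_commute hP hK hPK k fun x hx k' hk' =>
    ConjClasses.mk_eq_mk_iff_isConj.mp (hd'.symm.trans (d.2.2 k hd'.symm x hx k' hk').symm)

end CfsgLib.RealChar
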