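import Cfsg.Agent.Lib.RealChar.CyclicCorr
import Cfsg.Agent.Lib.RealChar.OrbitSum
import Cfsg.Agent.Lib.Char.Conj
import Cfsg.Agent.Lib.Char.Clifford
import Mathlib.GroupTheory.IndexNormal
import Mathlib.GroupTheory.Sylow

/-!
# The character correspondence for a `p`-group normalizing a subgroup with normal Sylow subgroup

`P` normalizes `K`, `Q` is the normal Sylow `p`-subgroup of `K` and `C` consists of the `k ∈ K`
with all `[x, k]` in `Q`.  The `P`-invariant irreducible characters of `K` and `C` correspond by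
restriction modulo `p`.
-/

set_option linter.style.haveILetI false

namespace CfsgLib.RealChar

open scoped ComplexConjugate
open CfsgLib.CharTwist

attribute [local instance high] Fintype.ofFinite

variable {G : Type*} [Group G]

/-- Invariance of a function on `K` under conjugation by the elements of `S`. -/
def InvUnder (S : Set G) {K : Subgroup G} (χ : K → ℂ) : Prop :=
  ∀ x ∈ S, ∀ k k' : K, (k' : G) = x * (k : G) * x⁻¹ → χ k' = χ k

theorem InvUnder.mono {S T : Set G} (hST : S ⊆ T) {K : Subgroup G} {χ : K → ℂ}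
    (h : InvUnder T χ) : InvUnder S χ :=
  fun x hx => h x (hST hx)

/-- Conjugation by an element of the normalizer, as an automorphism of `K`. -/
def conjEquiv (K : Subgroup G) (x : G) (hx : x ∈ Subgroup.normalizer (K : Set G)) : K ≃* K where
  toFun k := ⟨x⁻¹ * k * x, (Subgroup.mem_normalizer_iff''.mp hx k).mp k.2⟩
  invFun k := ⟨x * k * x⁻¹, (Subgroup.mem_normalizer_iff.mp hx k).mp k.2⟩
  left_inv k := Subtype.ext (by simp [mul_assoc])
  right_inv k := Subtype.ext (by simp [mul_assoc])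
  map_mul' a b := Subtype.ext (by simp [mul_assoc])

@[simp]
theorem coe_conjEquiv (K : Subgroup G) (x : G) (hx : x ∈ Subgroup.normalizer (K : Set G)) (k : K) :
    (conjEquiv K x hx k : G) = x⁻¹ * k * x := rfl

/-- A subgroup normalizing `K` acts on the irreducible characters of `K`. -/
@[reducible]
noncomputable def conjIrrAction [Finite G] (P K : Subgroup G)
    (hPK : P ≤ Subgroup.normalizer (K : Set G)) : MulAction P (Cfsg.IrrCharacter K) where
  smul x χ := ⟨(χ : K → ℂ) ∘ conjEquiv K x (hPK x.2),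
    CfsgLib.Char.IsIrrCharacter.comp_mulEquiv χ.2 _⟩
  one_smul χ := Subtype.ext (funext fun k => by
    change (χ : K → ℂ) _ = (χ : K → ℂ) k
    exact congrArg _ (Subtype.ext (by simp)))
  mul_smul x y χ := Subtype.ext (funext fun k => by
    change (χ : K → ℂ) _ = (χ : K → ℂ) _
    exact congrArg _ (Subtype.ext (by simp [mul_assoc])))

theorem mem_fixedPoints_conjIrr [Finite G] (P K : Subgroup G)
    (hPK : P ≤ Subgroup.normalizer (K : Set G)) (χ : Cfsg.IrrCharacter K) :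
    letI := conjIrrAction P K hPK
    χ ∈ MulAction.fixedPoints P (Cfsg.IrrCharacter K) ↔ InvUnder (P : Set G) (χ : K → ℂ) := by
  letI := conjIrrAction P K hPK
  constructor
  · intro h x hx k k' hk
    have e := congrArg (fun t : Cfsg.IrrCharacter K => (t : K → ℂ) k')
      (MulAction.mem_fixedPoints.mp h ⟨x, hx⟩)
    change (χ : K → ℂ) _ = (χ : K → ℂ) k' at e
    rw [← e]
    exact congrArg _ (Subtype.ext (by simp [hk, mul_assoc]))
  · intro h
    refine MulAction.mem_fixedPoints.mpr fun x => Subtype.ext (funext fun k => ?_)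
    change (χ : K → ℂ) _ = (χ : K → ℂ) k
    exact (h x x.2 _ k (by simp [mul_assoc])).symm

variable [Finite G]

/-- The multiplicity of `ξ` in the restriction of `χ`. -/
noncomputable def rmult {K C : Subgroup G} (hCK : C ≤ K) (χ : Cfsg.IrrCharacter K)
    (ξ : Cfsg.IrrCharacter C) : ℕ :=
  (CfsgLib.Char.IsCharacter.exists_nat_classInner
    (CfsgLib.Char.IsCharacter.comp (CfsgLib.Char.IsIrrCharacter.isCharacter χ.2)
      (Subgroup.inclusion hCK)) ξ.2).choose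

theorem rmult_spec {K C : Subgroup G} (hCK : C ≤ K) (χ : Cfsg.IrrCharacter K)
    (ξ : Cfsg.IrrCharacter C) :
    Cfsg.classInner ((χ : K → ℂ) ∘ Subgroup.inclusion hCK) (ξ : C → ℂ) = (rmult hCK χ ξ : ℂ) :=
  (CfsgLib.Char.IsCharacter.exists_nat_classInner
    (CfsgLib.Char.IsCharacter.comp (CfsgLib.Char.IsIrrCharacter.isCharacter χ.2)
      (Subgroup.inclusion hCK)) ξ.2).choose_spec

theorem rmult_self {K : Subgroup G} (χ ξ : Cfsg.IrrCharacter K) [Decidable (χ = ξ)] :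
    rmult le_rfl χ ξ = if χ = ξ then 1 else 0 := by
  letI : DecidableEq (Cfsg.IrrCharacter K) := Classical.decEq _
  have h := rmult_spec (le_refl K) χ ξ
  rw [show ((χ : K → ℂ) ∘ Subgroup.inclusion (le_refl K)) = (χ : K → ℂ) from
    funext fun k => rfl, CfsgLib.Char.classInner_irrCharacter] at h
  split_ifs with he
  · rw [if_pos he] at h
    exact_mod_cast h.symm
  · rw [if_neg he] at h
    exact_mod_cast h.symm

theorem rmult_smul (P : Subgroup G) {K C : Subgroup G} (hCK : C ≤ K)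
    (hPK : P ≤ Subgroup.normalizer (K : Set G)) (hPC : P ≤ Subgroup.normalizer (C : Set G))
    (x : P) (χ : Cfsg.IrrCharacter K) (ξ : Cfsg.IrrCharacter C) :
    letI := conjIrrAction P K hPK
    letI := conjIrrAction P C hPC
    rmult hCK (x • χ) (x • ξ) = rmult hCK χ ξ := by
  letI := conjIrrAction P K hPK
  letI := conjIrrAction P C hPC
  have h1 := rmult_spec hCK (x • χ) (x • ξ)
  have h2 := rmult_spec hCK χ ξ
  have e := CfsgLib.Clifford.classInner_comp_equiv (conjEquiv C x (hPC x.2))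
    ((χ : K → ℂ) ∘ Subgroup.inclusion hCK) (ξ : C → ℂ)
  have e' : (((x • χ : Cfsg.IrrCharacter K) : K → ℂ) ∘ Subgroup.inclusion hCK) =
      (((χ : K → ℂ) ∘ Subgroup.inclusion hCK) ∘ conjEquiv C x (hPC x.2)) := funext fun c => by
    change (χ : K → ℂ) _ = (χ : K → ℂ) _
    exact congrArg _ (Subtype.ext rfl)
  have : ((rmult hCK (x • χ) (x • ξ) : ℕ) : ℂ) = (rmult hCK χ ξ : ℂ) := by
    rw [← h1, ← h2, e']
    exact e
  exact_mod_cast this

/-- Two natural numbers as coefficient data: a unit sign modulo `p`. -/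
def SqOneMod (p m : ℕ) : Prop := (p : ℤ) ∣ (m : ℤ) ^ 2 - 1

theorem SqOneMod.not_dvd {p m : ℕ} (hp : p.Prime) (h : SqOneMod p m) : ¬ p ∣ m := fun hd =>
  IsUnitSignMod.notDvdInt (c := ((m : ℤ) : ℂ)) hp ⟨m, rfl, h⟩ m rfl (Int.natCast_dvd_natCast.mpr hd)

/-- The correspondence between `S`-invariant characters of `K` and of `C`. -/
def Corr (p : ℕ) (S : Set G) (K C : Subgroup G) (hCK : C ≤ K) : Prop :=
  (∀ χ : Cfsg.IrrCharacter K, InvUnder S (χ : K → ℂ) → ∃ ξ : Cfsg.IrrCharacter C,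
    InvUnder S (ξ : C → ℂ) ∧ SqOneMod p (rmult hCK χ ξ) ∧
      ∀ ξ' : Cfsg.IrrCharacter C, InvUnder S (ξ' : C → ℂ) → ¬ p ∣ rmult hCK χ ξ' → ξ' = ξ) ∧
  (∀ ξ : Cfsg.IrrCharacter C, InvUnder S (ξ : C → ℂ) → ∃ χ : Cfsg.IrrCharacter K,
    InvUnder S (χ : K → ℂ) ∧ SqOneMod p (rmult hCK χ ξ) ∧
      ∀ χ' : Cfsg.IrrCharacter K, InvUnder S (χ' : K → ℂ) → ¬ p ∣ rmult hCK χ' ξ → χ' = χ)

variable {p : ℕ} [hp : Fact p.Prime]

theorem Corr.refl (S : Set G) (K : Subgroup G) : Corr p S K K le_rfl := by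
  classical
  constructor <;> intro χ hχ <;> refine ⟨χ, hχ, ?_, fun ξ' _ h => ?_⟩
  · rw [SqOneMod, rmult_self, if_pos rfl]; simp
  · by_contra hne
    rw [rmult_self, if_neg (Ne.symm hne)] at h
    exact h (dvd_zero _)
  · rw [SqOneMod, rmult_self, if_pos rfl]; simp
  · by_contra hne
    rw [rmult_self, if_neg hne] at h
    exact h (dvd_zero _)

/-- For a sum of squares invariant under a `p`-group, a unique nonzero fixed term mod `p` stays
fixed under a bigger `p`-group. -/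
theorem exists_fixed_of_unique {P X : Type*} [Group P] [MulAction P X] [Finite X]
    (hP : IsPGroup p P) (S : Subgroup P) (f : X → ℕ) (hf : ∀ (x : P) a, f (x • a) = f a)
    (a₀ : X) (ha₀ : a₀ ∈ MulAction.fixedPoints S X) (h1 : ¬ p ∣ f a₀)
    (huniq : ∀ a ∈ MulAction.fixedPoints S X, ¬ p ∣ f a → a = a₀) :
    a₀ ∈ MulAction.fixedPoints P X := by
  classical
  by_contra hcon
  have hS : (p : ℤ) ∣ (∑ a, (f a : ℤ) ^ 2) - ∑ a : MulAction.fixedPoints S X, (f a : ℤ) ^ 2 :=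
    dvd_sum_sub_sum_fixed (hP.to_subgroup S) (fun a => (f a : ℤ) ^ 2) fun x a => by
      rw [Subgroup.smul_def, hf]
  have hP' : (p : ℤ) ∣ (∑ a, (f a : ℤ) ^ 2) - ∑ a : MulAction.fixedPoints P X, (f a : ℤ) ^ 2 :=
    dvd_sum_sub_sum_fixed hP (fun a => (f a : ℤ) ^ 2) fun x a => by rw [hf]
  have hPzero : (p : ℤ) ∣ ∑ a : MulAction.fixedPoints P X, (f a : ℤ) ^ 2 := by
    refine Finset.dvd_sum fun a _ => dvd_pow ?_ two_ne_zero
    by_contra h
    refine hcon ((huniq a (fun x => a.2 (x : P)) ?_) ▸ a.2)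
    exact fun h' => h (Int.natCast_dvd_natCast.mpr h')
  have hSone : (p : ℤ) ∣ (∑ a : MulAction.fixedPoints S X, (f a : ℤ) ^ 2) - (f a₀ : ℤ) ^ 2 := by
    rw [← Finset.add_sum_erase _ _ (Finset.mem_univ (⟨a₀, ha₀⟩ : MulAction.fixedPoints S X)),
      add_sub_cancel_left]
    refine Finset.dvd_sum fun a ha => dvd_pow ?_ two_ne_zero
    by_contra h
    exact Finset.ne_of_mem_erase ha (Subtype.ext
      (huniq a a.2 fun h' => h (Int.natCast_dvd_natCast.mpr h')))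
  have : (p : ℤ) ∣ (f a₀ : ℤ) ^ 2 := by
    have := dvd_add (dvd_sub (dvd_sub hP' hS) hSone) (dvd_refl (p : ℤ))
    obtain ⟨u, hu⟩ := hS
    obtain ⟨v, hv⟩ := hP'
    obtain ⟨w, hw⟩ := hSone
    obtain ⟨z, hz⟩ := hPzero
    exact ⟨z - u + v - w, by linear_combination hz + hv - hu - hw⟩
  exact h1 (Int.natCast_dvd_natCast.mp ((Nat.prime_iff_prime_int.mp hp.out).dvd_of_dvd_pow this))

/-- The correspondence passes from a subgroup of a `p`-group to the whole group. -/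
theorem Corr.mono {S P K C : Subgroup G} {hCK : C ≤ K} (hP : IsPGroup p P) (hSP : S ≤ P)
    (hPK : P ≤ Subgroup.normalizer (K : Set G)) (hPC : P ≤ Subgroup.normalizer (C : Set G))
    (h : Corr p (S : Set G) K C hCK) : Corr p (P : Set G) K C hCK := by
  classical
  letI := conjIrrAction P K hPK
  letI := conjIrrAction P C hPC
  have hfix : ∀ (L : Subgroup G) (hPL : P ≤ Subgroup.normalizer (L : Set G))
      (θ : Cfsg.IrrCharacter L),
      letI := conjIrrAction P L hPL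
      (θ ∈ MulAction.fixedPoints (S.subgroupOf P) (Cfsg.IrrCharacter L) ↔
        InvUnder (S : Set G) (θ : L → ℂ)) := by
    intro L hPL θ
    letI := conjIrrAction P L hPL
    constructor
    · intro hθ x hx k k' hk
      have e := congrArg (fun t : Cfsg.IrrCharacter L => (t : L → ℂ) k')
        (MulAction.mem_fixedPoints.mp hθ ⟨⟨x, hSP hx⟩, Subgroup.mem_subgroupOf.mpr hx⟩)
      change (θ : L → ℂ) _ = (θ : L → ℂ) k' at e
      rw [← e]
      exact congrArg _ (Subtype.ext (by simp [hk, mul_assoc]))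
    · intro hθ
      refine MulAction.mem_fixedPoints.mpr fun x => Subtype.ext (funext fun k => ?_)
      change (θ : L → ℂ) _ = (θ : L → ℂ) k
      exact (hθ _ (Subgroup.mem_subgroupOf.mp x.2) _ k (by simp [mul_assoc])).symm
  constructor
  · intro χ hχ
    obtain ⟨ξ, hξ, hm, huniq⟩ := h.1 χ (hχ.mono hSP)
    refine ⟨ξ, (mem_fixedPoints_conjIrr P C hPC ξ).mp ?_, hm,
      fun ξ' h' hnd => huniq ξ' (h'.mono hSP) hnd⟩
    refine exists_fixed_of_unique hP (S.subgroupOf P) (fun ξ' => rmult hCK χ ξ') (fun x a => ?_) ξ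
      ((hfix C hPC ξ).mpr hξ) (hm.not_dvd hp.out) fun a ha => huniq a ((hfix C hPC a).mp ha)
    rw [← rmult_smul P hCK hPK hPC x χ a]
    congr 1
    exact (MulAction.mem_fixedPoints.mp ((mem_fixedPoints_conjIrr P K hPK χ).mpr hχ) x).symm
  · intro ξ hξ
    obtain ⟨χ, hχ, hm, huniq⟩ := h.2 ξ (hξ.mono hSP)
    refine ⟨χ, (mem_fixedPoints_conjIrr P K hPK χ).mp ?_, hm,
      fun χ' h' hnd => huniq χ' (h'.mono hSP) hnd⟩
    refine exists_fixed_of_unique hP (S.subgroupOf P) (fun χ' => rmult hCK χ' ξ) (fun x a => ?_) χ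
      ((hfix K hPK χ).mpr hχ) (hm.not_dvd hp.out) fun a ha => huniq a ((hfix K hPK a).mp ha)
    rw [← rmult_smul P hCK hPK hPC x a ξ]
    congr 1
    exact (MulAction.mem_fixedPoints.mp ((mem_fixedPoints_conjIrr P C hPC ξ).mpr hξ) x).symm

/-- Multiplicities compose. -/
theorem rmult_trans {K D C : Subgroup G} (hDK : D ≤ K) (hCD : C ≤ D) (χ : Cfsg.IrrCharacter K)
    (ξ : Cfsg.IrrCharacter C) :
    rmult (hCD.trans hDK) χ ξ = ∑ η : Cfsg.IrrCharacter D, rmult hDK χ η * rmult hCD η ξ := by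
  have h := rmult_spec (hCD.trans hDK) χ ξ
  have e := CfsgLib.Char.IsCharacter.eq_sum_classInner
    (CfsgLib.Char.IsCharacter.comp (CfsgLib.Char.IsIrrCharacter.isCharacter χ.2)
      (Subgroup.inclusion hDK))
  have e2 : ((χ : K → ℂ) ∘ Subgroup.inclusion (hCD.trans hDK)) =
      ∑ η : Cfsg.IrrCharacter D, (rmult hDK χ η : ℂ) •
        ((η : D → ℂ) ∘ Subgroup.inclusion hCD) := funext fun c => by
    have := congrFun e (Subgroup.inclusion hCD c)
    simp only [Finset.sum_apply, Pi.smul_apply, smul_eq_mul, Function.comp_apply] at this ⊢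
    rw [show Subgroup.inclusion (hCD.trans hDK) c =
      Subgroup.inclusion hDK (Subgroup.inclusion hCD c) from rfl, this]
    exact Finset.sum_congr rfl fun η _ => by rw [← rmult_spec]; rfl
  rw [e2, CfsgLib.Char.classInner_sum_left] at h
  simp only [CfsgLib.Char.classInner_smul_left, rmult_spec] at h
  exact_mod_cast h.symm

/-- The correspondence is transitive for characters invariant under a fixed `p`-group. -/
theorem Corr.trans {P K D C : Subgroup G} {hDK : D ≤ K} {hCD : C ≤ D} (hP : IsPGroup p P)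
    (hPK : P ≤ Subgroup.normalizer (K : Set G)) (hPD : P ≤ Subgroup.normalizer (D : Set G))
    (hPC : P ≤ Subgroup.normalizer (C : Set G))
    (h1 : Corr p (P : Set G) K D hDK) (h2 : Corr p (P : Set G) D C hCD) :
    Corr p (P : Set G) K C (hCD.trans hDK) := by
  classical
  letI := conjIrrAction P K hPK
  letI := conjIrrAction P D hPD
  letI := conjIrrAction P C hPC
  have hcong : ∀ (χ : Cfsg.IrrCharacter K) (ξ : Cfsg.IrrCharacter C), InvUnder (P : Set G) (χ : K → ℂ) →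
      InvUnder (P : Set G) (ξ : C → ℂ) → (p : ℤ) ∣ (rmult (hCD.trans hDK) χ ξ : ℤ) -
        ∑ η : MulAction.fixedPoints P (Cfsg.IrrCharacter D),
          ((rmult hDK χ η : ℤ) * rmult hCD η ξ) := by
    intro χ ξ hχ hξ
    rw [rmult_trans hDK hCD, Nat.cast_sum]
    simp only [Nat.cast_mul]
    refine dvd_sum_sub_sum_fixed hP (fun η => (rmult hDK χ η : ℤ) * rmult hCD η ξ) fun x η => ?_
    have e1 := rmult_smul P hDK hPK hPD x χ η
    have e2 := rmult_smul P hCD hPD hPC x η ξ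
    rw [MulAction.mem_fixedPoints.mp ((mem_fixedPoints_conjIrr P K hPK χ).mpr hχ) x] at e1
    rw [MulAction.mem_fixedPoints.mp ((mem_fixedPoints_conjIrr P C hPC ξ).mpr hξ) x] at e2
    simp only [e1, e2]
  have hone : ∀ (χ : Cfsg.IrrCharacter K) (ξ : Cfsg.IrrCharacter C) (η₀ : Cfsg.IrrCharacter D),
      InvUnder (P : Set G) (χ : K → ℂ) → InvUnder (P : Set G) (ξ : C → ℂ) →
      InvUnder (P : Set G) (η₀ : D → ℂ) →
      (∀ η : Cfsg.IrrCharacter D, InvUnder (P : Set G) (η : D → ℂ) →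
        ¬ p ∣ rmult hDK χ η * rmult hCD η ξ → η = η₀) →
      (p : ℤ) ∣ (rmult (hCD.trans hDK) χ ξ : ℤ) - (rmult hDK χ η₀ : ℤ) * rmult hCD η₀ ξ := by
    intro χ ξ η₀ hχ hξ hη₀ huniq
    obtain ⟨u, hu⟩ := hcong χ ξ hχ hξ
    rw [← Finset.add_sum_erase _ _ (Finset.mem_univ
      (⟨η₀, (mem_fixedPoints_conjIrr P D hPD η₀).mpr hη₀⟩ :
        MulAction.fixedPoints P (Cfsg.IrrCharacter D)))] at hu
    have hrest : (p : ℤ) ∣ ∑ η ∈ (Finset.univ : Finset
        (MulAction.fixedPoints P (Cfsg.IrrCharacter D))).erase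
          ⟨η₀, (mem_fixedPoints_conjIrr P D hPD η₀).mpr hη₀⟩,
          ((rmult hDK χ η : ℤ) * rmult hCD η ξ) := by
      refine Finset.dvd_sum fun η hη => ?_
      by_contra h
      refine Finset.ne_of_mem_erase hη (Subtype.ext
        (huniq η ((mem_fixedPoints_conjIrr P D hPD η.1).mp η.2) fun h' => h ?_))
      exact_mod_cast h'
    obtain ⟨v, hv⟩ := hrest
    exact ⟨u + v, by linear_combination hu + hv⟩
  have hsq : ∀ (a b c : ℕ), SqOneMod p a → SqOneMod p b → (p : ℤ) ∣ (c : ℤ) - (a : ℤ) * b →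
      SqOneMod p c := by
    rintro a b c ⟨u, hu⟩ ⟨v, hv⟩ ⟨w, hw⟩
    exact ⟨u * (b : ℤ) ^ 2 + v + w * ((c : ℤ) + a * b),
      by linear_combination (b : ℤ) ^ 2 * hu + hv + ((c : ℤ) + a * b) * hw⟩
  constructor
  · intro χ hχ
    obtain ⟨η₀, hη₀, ha, hu1⟩ := h1.1 χ hχ
    obtain ⟨ξ₀, hξ₀, hb, hu2⟩ := h2.1 η₀ hη₀
    have hall : ∀ ξ, InvUnder (P : Set G) ((ξ : Cfsg.IrrCharacter C) : C → ℂ) →
        (p : ℤ) ∣ (rmult (hCD.trans hDK) χ ξ : ℤ) - (rmult hDK χ η₀ : ℤ) * rmult hCD η₀ ξ :=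
      fun ξ hξ => hone χ ξ η₀ hχ hξ hη₀ fun η hη h => hu1 η hη fun h' => h (h'.mul_right _)
    refine ⟨ξ₀, hξ₀, hsq _ _ _ ha hb (hall ξ₀ hξ₀), fun ξ hξ hnd => hu2 ξ hξ fun hd => hnd ?_⟩
    obtain ⟨w, hw⟩ := hall ξ hξ
    obtain ⟨t, ht⟩ := hd
    rw [ht, Nat.cast_mul] at hw
    exact Int.natCast_dvd_natCast.mp ⟨w + rmult hDK χ η₀ * t, by linear_combination hw⟩
  · intro ξ hξ
    obtain ⟨η₀, hη₀, hb, hu2⟩ := h2.2 ξ hξ
    obtain ⟨χ₀, hχ₀, ha, hu1⟩ := h1.2 η₀ hη₀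
    have hall : ∀ χ, InvUnder (P : Set G) ((χ : Cfsg.IrrCharacter K) : K → ℂ) →
        (p : ℤ) ∣ (rmult (hCD.trans hDK) χ ξ : ℤ) - (rmult hDK χ η₀ : ℤ) * rmult hCD η₀ ξ :=
      fun χ hχ => hone χ ξ η₀ hχ hξ hη₀ fun η hη h => hu2 η hη fun h' => h (h'.mul_left _)
    refine ⟨χ₀, hχ₀, hsq _ _ _ ha hb (hall χ₀ hχ₀), fun χ hχ hnd => hu1 χ hχ fun hd => hnd ?_⟩
    obtain ⟨w, hw⟩ := hall χ hχ
    obtain ⟨t, ht⟩ := hd
    rw [ht, Nat.cast_mul] at hw
    exact Int.natCast_dvd_natCast.mp ⟨w + t * rmult hCD η₀ ξ, by linear_combination hw⟩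

/-- Degrees of corresponding characters agree up to sign mod `p`. -/
theorem rmult_degree_congr {P K C : Subgroup G} {hCK : C ≤ K} (hP : IsPGroup p P)
    (hPK : P ≤ Subgroup.normalizer (K : Set G)) (hPC : P ≤ Subgroup.normalizer (C : Set G))
    {χ : Cfsg.IrrCharacter K} {ξ₀ : Cfsg.IrrCharacter C} (hχ : InvUnder (P : Set G) (χ : K → ℂ))
    (hξ₀ : InvUnder (P : Set G) (ξ₀ : C → ℂ))
    (huniq : ∀ ξ : Cfsg.IrrCharacter C, InvUnder (P : Set G) (ξ : C → ℂ) →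
      ¬ p ∣ rmult hCK χ ξ → ξ = ξ₀) :
    (p : ℤ) ∣ (CfsgLib.Char.degree (χ : K → ℂ) : ℤ) -
      (rmult hCK χ ξ₀ : ℤ) * CfsgLib.Char.degree (ξ₀ : C → ℂ) := by
  classical
  letI := conjIrrAction P K hPK
  letI := conjIrrAction P C hPC
  have hdeg : (CfsgLib.Char.degree (χ : K → ℂ) : ℤ) =
      ∑ ξ : Cfsg.IrrCharacter C, (rmult hCK χ ξ : ℤ) * CfsgLib.Char.degree (ξ : C → ℂ) := by
    have e := congrFun (CfsgLib.Char.IsCharacter.eq_sum_classInner
      (CfsgLib.Char.IsCharacter.comp (CfsgLib.Char.IsIrrCharacter.isCharacter χ.2)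
        (Subgroup.inclusion hCK))) 1
    simp only [Finset.sum_apply, Pi.smul_apply, smul_eq_mul, Function.comp_apply, map_one] at e
    have : (((CfsgLib.Char.degree (χ : K → ℂ) : ℤ)) : ℂ) =
        ((∑ ξ : Cfsg.IrrCharacter C, (rmult hCK χ ξ : ℤ) *
          CfsgLib.Char.degree (ξ : C → ℂ) : ℤ) : ℂ) := by
      push_cast
      rw [CfsgLib.Char.IsCharacter.degree_cast (CfsgLib.Char.IsIrrCharacter.isCharacter χ.2), e]
      exact Finset.sum_congr rfl fun ξ _ => by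
        rw [CfsgLib.Char.IsCharacter.degree_cast (CfsgLib.Char.IsIrrCharacter.isCharacter ξ.2),
          ← rmult_spec]
        rfl
    exact_mod_cast this
  have hsum := dvd_sum_sub_sum_fixed hP
    (fun ξ : Cfsg.IrrCharacter C => (rmult hCK χ ξ : ℤ) * CfsgLib.Char.degree (ξ : C → ℂ))
    fun x ξ => by
      have e1 := rmult_smul P hCK hPK hPC x χ ξ
      rw [MulAction.mem_fixedPoints.mp ((mem_fixedPoints_conjIrr P K hPK χ).mpr hχ) x] at e1
      have e2 : CfsgLib.Char.degree ((x • ξ : Cfsg.IrrCharacter C) : C → ℂ) =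
          CfsgLib.Char.degree (ξ : C → ℂ) :=
        congrArg (fun z : ℂ => ⌊z.re⌋₊) (congrArg (ξ : C → ℂ) (map_one _))
      simp only [e1, e2]
  rw [← hdeg] at hsum
  obtain ⟨u, hu⟩ := hsum
  rw [← Finset.add_sum_erase _ _ (Finset.mem_univ
    (⟨ξ₀, (mem_fixedPoints_conjIrr P C hPC ξ₀).mpr hξ₀⟩ :
      MulAction.fixedPoints P (Cfsg.IrrCharacter C)))] at hu
  have hrest : (p : ℤ) ∣ ∑ ξ ∈ (Finset.univ : Finset
      (MulAction.fixedPoints P (Cfsg.IrrCharacter C))).erase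
        ⟨ξ₀, (mem_fixedPoints_conjIrr P C hPC ξ₀).mpr hξ₀⟩,
        ((rmult hCK χ ξ : ℤ) * CfsgLib.Char.degree ((ξ : Cfsg.IrrCharacter C) : C → ℂ)) := by
    refine Finset.dvd_sum fun ξ hξ => dvd_mul_of_dvd_left ?_ _
    by_contra h
    exact Finset.ne_of_mem_erase hξ (Subtype.ext (huniq ξ
      ((mem_fixedPoints_conjIrr P C hPC ξ.1).mp ξ.2) fun h' => h (Int.natCast_dvd_natCast.mpr h')))
  obtain ⟨v, hv⟩ := hrest
  exact ⟨u + v, by linear_combination hu + hv⟩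

/-- The subgroup of `k ∈ K` with `[x, k] ∈ Q` for all `x ∈ S`. -/
def commMod (S : Set G) (K Q : Subgroup G)
    (hQK : ∀ k ∈ K, ∀ q ∈ Q, k * q * k⁻¹ ∈ Q) : Subgroup G where
  carrier := {k | k ∈ K ∧ ∀ x ∈ S, x * k * x⁻¹ * k⁻¹ ∈ Q}
  one_mem' := ⟨K.one_mem, fun x _ => by simp [Q.one_mem]⟩
  mul_mem' {a b} ha hb := ⟨K.mul_mem ha.1 hb.1, fun x hx => by
    have := Q.mul_mem (ha.2 x hx) (hQK a ha.1 _ (hb.2 x hx))
    convert this using 1
    group⟩
  inv_mem' {a} ha := ⟨K.inv_mem ha.1, fun x hx => by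
    have := hQK a⁻¹ (K.inv_mem ha.1) _ (Q.inv_mem (ha.2 x hx))
    convert this using 1
    group⟩

theorem mem_commMod {S : Set G} {K Q : Subgroup G} {hQK : ∀ k ∈ K, ∀ q ∈ Q, k * q * k⁻¹ ∈ Q}
    {k : G} : k ∈ commMod S K Q hQK ↔ k ∈ K ∧ ∀ x ∈ S, x * k * x⁻¹ * k⁻¹ ∈ Q := Iff.rfl

section Step

variable {K Q C : Subgroup G} {x : G}

/-- The correspondence for one element. -/
theorem corr_zpowers (hQK : Q ≤ K) (hQn : ∀ k ∈ K, ∀ q ∈ Q, k * q * k⁻¹ ∈ Q)
    (hQp : IsPGroup p Q) (hQi : ¬ p ∣ Q.relIndex K)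
    (hxK : x ∈ Subgroup.normalizer (K : Set G)) (hxQ : x ∈ Subgroup.normalizer (Q : Set G))
    (hx : ∃ a, orderOf x = p ^ a) (hCK : C ≤ K)
    (hC : ∀ k, k ∈ C ↔ k ∈ K ∧ x * k * x⁻¹ * k⁻¹ ∈ Q) :
    Corr p (Subgroup.zpowers x : Set G) K C hCK := by
  classical
  obtain ⟨a, ha⟩ := hx
  have hxp : IsPGroup p (Subgroup.zpowers x) := IsPGroup.of_card (by rw [Nat.card_zpowers, ha])
  let Γ : Subgroup G := K ⊔ Subgroup.zpowers x
  have hKΓ : K ≤ Γ := le_sup_left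
  have hxΓ : x ∈ Γ := (le_sup_right : Subgroup.zpowers x ≤ Γ) (Subgroup.mem_zpowers x)
  have hΓN : Γ ≤ Subgroup.normalizer (K : Set G) :=
    sup_le Subgroup.le_normalizer (Subgroup.zpowers_le.mpr hxK)
  have hΓQ : Γ ≤ Subgroup.normalizer (Q : Set G) :=
    sup_le (fun k hk => Subgroup.mem_normalizer_fintype fun q hq => hQn k hk q hq)
      (Subgroup.zpowers_le.mpr hxQ)
  have hdec : ∀ g ∈ Γ, ∃ k ∈ K, ∃ n : ℤ, k * x ^ n = g := by
    intro g hg
    have h' : g ∈ ((K ⊔ Subgroup.zpowers x : Subgroup G) : Set G) := hg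
    rw [Subgroup.coe_mul_of_right_le_normalizer_left K (Subgroup.zpowers x)
      (Subgroup.zpowers_le.mpr hxK)] at h'
    obtain ⟨k, hk, z, hz, rfl⟩ := h'
    obtain ⟨n, rfl⟩ := hz
    exact ⟨k, hk, n, rfl⟩
  by_cases hKtop : K = Γ
  · have hxin : x ∈ K := hKtop ▸ hxΓ
    have hxQ' : x ∈ Q := by
      by_contra hnot
      have hcard : IsPGroup p (Subgroup.zpowers x ⊔ Q : Subgroup G) :=
        IsPGroup.to_sup_of_normal_right' hxp hQp (Subgroup.zpowers_le.mpr hxQ)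
      obtain ⟨b, hb⟩ := IsPGroup.iff_card.mp hcard
      obtain ⟨c, -, hc⟩ := (Nat.dvd_prime_pow hp.out).mp
        (hb ▸ Subgroup.relIndex_dvd_card Q (Subgroup.zpowers x ⊔ Q))
      rcases c with _ | c
      · rw [pow_zero, Subgroup.relIndex_eq_one] at hc
        exact hnot (hc ((le_sup_left : Subgroup.zpowers x ≤ _) (Subgroup.mem_zpowers x)))
      · exact hQi ((hc ▸ dvd_pow_self p c.succ_ne_zero).trans (Dvd.intro _
          (Subgroup.relIndex_mul_relIndex Q _ K le_sup_right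
            (sup_le (Subgroup.zpowers_le.mpr hxin) hQK))))
    obtain rfl : C = K := le_antisymm hCK fun k hk => (hC k).mpr ⟨hk, by
      rw [mul_assoc, mul_assoc]
      refine Q.mul_mem hxQ' ?_
      rw [← mul_assoc]
      exact hQn k hk _ (Q.inv_mem hxQ')⟩
    exact Corr.refl _ _
  -- the group `Γ`
  haveI hKn : (K.subgroupOf Γ).Normal := Subgroup.normal_subgroupOf_iff_le_normalizer hKΓ |>.mpr hΓN
  haveI hQnΓ : (Q.subgroupOf Γ).Normal :=
    Subgroup.normal_subgroupOf_iff_le_normalizer (hQK.trans hKΓ) |>.mpr hΓQ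
  have hKne : K.subgroupOf Γ ≠ ⊤ := fun h => hKtop (le_antisymm hKΓ (Subgroup.subgroupOf_eq_top.mp h))
  have hgen : ∀ q : Γ ⧸ K.subgroupOf Γ,
      q ∈ Subgroup.zpowers (QuotientGroup.mk (⟨x, hxΓ⟩ : Γ) : Γ ⧸ K.subgroupOf Γ) := by
    intro q
    obtain ⟨⟨g, hg⟩, rfl⟩ := QuotientGroup.mk_surjective q
    obtain ⟨k, hk, n, rfl⟩ := hdec g hg
    refine Subgroup.mem_zpowers_iff.mpr ⟨n, ?_⟩
    rw [← QuotientGroup.mk_zpow, QuotientGroup.eq, Subgroup.mem_subgroupOf]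
    push_cast
    rw [← mul_assoc]
    exact (Subgroup.mem_normalizer_iff''.mp
      ((Subgroup.normalizer (K : Set G)).zpow_mem hxK n) k).mp hk
  have hcyc : IsCyclic (Γ ⧸ K.subgroupOf Γ) := ⟨⟨_, hgen⟩⟩
  have hΓK : IsPGroup p (Γ ⧸ K.subgroupOf Γ) := by
    refine IsPGroup.iff_orderOf.mpr fun q => ?_
    obtain ⟨n, rfl⟩ := Subgroup.mem_zpowers_iff.mp (hgen q)
    obtain ⟨c, -, hc⟩ := (Nat.dvd_prime_pow hp.out).mp
      ((orderOf_dvd_of_mem_zpowers (Subgroup.zpow_mem_zpowers _ n)).trans ((orderOf_map_dvd (QuotientGroup.mk' (K.subgroupOf Γ))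
        (⟨x, hxΓ⟩ : Γ)).trans (by rw [Subgroup.orderOf_mk, ha])))
    exact ⟨c, hc⟩
  have hQp' : IsPGroup p (Q.subgroupOf Γ) := hQp.comap_subtype
  have hQi' : ¬ p ∣ (Q.subgroupOf Γ).relIndex (K.subgroupOf Γ) := by
    rwa [Subgroup.relIndex_subgroupOf hKΓ]
  -- a Sylow subgroup containing `x`
  let xΓ : Γ := ⟨x, hxΓ⟩
  obtain ⟨R, hR⟩ := (IsPGroup.to_sup_of_normal_right
    (IsPGroup.of_card (G := Subgroup.zpowers xΓ) (n := a)
      (by rw [Nat.card_zpowers, Subgroup.orderOf_mk, ha])) hQp').exists_le_sylow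
  have hxR : xΓ ∈ (R : Subgroup Γ) :=
    hR ((le_sup_left : Subgroup.zpowers xΓ ≤ _) (Subgroup.mem_zpowers _))
  have hQR : Q.subgroupOf Γ ≤ (R : Subgroup Γ) := le_trans le_sup_right hR
  have hRK : (R : Subgroup Γ) ⊓ K.subgroupOf Γ ≤ Q.subgroupOf Γ := by
    rw [← Subgroup.relIndex_eq_one]
    obtain ⟨b, hb⟩ := IsPGroup.iff_card.mp
      (R.isPGroup'.to_le (inf_le_left (b := K.subgroupOf Γ)))
    obtain ⟨c, -, hc⟩ := (Nat.dvd_prime_pow hp.out).mp
      (hb ▸ Subgroup.relIndex_dvd_card (Q.subgroupOf Γ) ((R : Subgroup Γ) ⊓ K.subgroupOf Γ))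
    rcases c with _ | c
    · rw [hc, pow_zero]
    · exfalso
      exact hQi' ((hc ▸ dvd_pow_self p c.succ_ne_zero).trans (Dvd.intro _
        (Subgroup.relIndex_mul_relIndex (Q.subgroupOf Γ)
          ((R : Subgroup Γ) ⊓ K.subgroupOf Γ) (K.subgroupOf Γ)
          (le_inf hQR (fun z hz => hQK hz)) inf_le_right)))
  have hRdec : ∀ r ∈ (R : Subgroup Γ), ∃ q ∈ Q.subgroupOf Γ, ∃ n : ℤ, q * xΓ ^ n = r := by
    intro r hr
    obtain ⟨k, hk, n, hn⟩ := hdec r r.2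
    refine ⟨r * (xΓ ^ n)⁻¹, hRK ⟨(R : Subgroup Γ).mul_mem hr ((R : Subgroup Γ).inv_mem
      ((R : Subgroup Γ).zpow_mem hxR n)), ?_⟩, n, by group⟩
    change ((r * (xΓ ^ n)⁻¹ : Γ) : G) ∈ K
    push_cast
    rw [← hn, mul_inv_cancel_right]
    exact hk
  let N : Subgroup Γ := Subgroup.normalizer ((R : Subgroup Γ) : Set Γ)
  have hKN : ∀ k : Γ, (k : G) ∈ K → (k ∈ N ↔ (k : G) ∈ C) := by
    intro k hk
    rw [hC]
    constructor
    · intro hkN
      refine ⟨hk, ?_⟩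
      have h1 : xΓ * k * xΓ⁻¹ * k⁻¹ ∈ (R : Subgroup Γ) := by
        rw [show xΓ * k * xΓ⁻¹ * k⁻¹ = xΓ * (k * xΓ⁻¹ * k⁻¹) by group]
        exact (R : Subgroup Γ).mul_mem hxR ((Subgroup.mem_normalizer_iff.mp hkN _).mp
          ((R : Subgroup Γ).inv_mem hxR))
      have h2 : xΓ * k * xΓ⁻¹ * k⁻¹ ∈ K.subgroupOf Γ :=
        (K.subgroupOf Γ).mul_mem (hKn.conj_mem k hk xΓ) ((K.subgroupOf Γ).inv_mem hk)
      exact hRK ⟨h1, h2⟩
    · rintro ⟨-, hq⟩
      refine Subgroup.mem_normalizer_fintype fun r hr => ?_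
      obtain ⟨q, hq', n, rfl⟩ := hRdec r hr
      rw [show k * (q * xΓ ^ n) * k⁻¹ = (k * q * k⁻¹) * (k * xΓ * k⁻¹) ^ n by
        rw [conj_zpow]; group]
      refine (R : Subgroup Γ).mul_mem (hQR (hQnΓ.conj_mem q hq' k))
        ((R : Subgroup Γ).zpow_mem ?_ n)
      have h1 : xΓ * k * xΓ⁻¹ * k⁻¹ ∈ (R : Subgroup Γ) := hQR hq
      rw [show k * xΓ * k⁻¹ = (xΓ * k * xΓ⁻¹ * k⁻¹)⁻¹ * xΓ by group]
      exact (R : Subgroup Γ).mul_mem ((R : Subgroup Γ).inv_mem h1) hxR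
  have hxN : xΓ ∈ N := Subgroup.le_normalizer hxR
  have key := cyclic_corr (K.subgroupOf Γ) (Q.subgroupOf Γ) (fun z hz => hQK hz) hQp' hQi' hcyc hΓK
    hKne R N rfl
  -- transporting
  let e₁ : K.subgroupOf Γ ≃* K := Subgroup.subgroupOfEquivOfLe hKΓ
  let e₂ : (K.subgroupOf Γ).subgroupOf N ≃* C :=
    { toFun := fun c => ⟨((c : N) : Γ).1, (hKN _ c.2).mp c.1.2⟩
      invFun := fun c => ⟨⟨⟨c, hKΓ (hCK c.2)⟩, (hKN _ (hCK c.2)).mpr c.2⟩, hCK c.2⟩
      left_inv := fun c => rfl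
      right_inv := fun c => rfl
      map_mul' := fun a b => rfl }
  let f₁ : Cfsg.IrrCharacter K ≃ Cfsg.IrrCharacter (K.subgroupOf Γ) :=
    { toFun := fun χ => ⟨(χ : K → ℂ) ∘ e₁, isIrrCharacter_comp_equiv χ.2 e₁⟩
      invFun := fun χ => ⟨(χ : _ → ℂ) ∘ e₁.symm, isIrrCharacter_comp_equiv χ.2 e₁.symm⟩
      left_inv := fun χ => Subtype.ext (funext fun k => congrArg _ (e₁.apply_symm_apply k))
      right_inv := fun χ => Subtype.ext (funext fun k => congrArg _ (e₁.symm_apply_apply k)) }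
  let f₂ : Cfsg.IrrCharacter C ≃ Cfsg.IrrCharacter ((K.subgroupOf Γ).subgroupOf N) :=
    { toFun := fun ξ => ⟨(ξ : C → ℂ) ∘ e₂, isIrrCharacter_comp_equiv ξ.2 e₂⟩
      invFun := fun ξ => ⟨(ξ : _ → ℂ) ∘ e₂.symm, isIrrCharacter_comp_equiv ξ.2 e₂.symm⟩
      left_inv := fun ξ => Subtype.ext (funext fun k => congrArg _ (e₂.apply_symm_apply k))
      right_inv := fun ξ => Subtype.ext (funext fun k => congrArg _ (e₂.symm_apply_apply k)) }
  have hmult : ∀ (χ : Cfsg.IrrCharacter K) (ξ : Cfsg.IrrCharacter C), Cfsg.classInner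
      (fun c : (K.subgroupOf Γ).subgroupOf N => (f₁ χ : K.subgroupOf Γ → ℂ) ⟨c.1.1, Subgroup.mem_subgroupOf.mp c.2⟩) (f₂ ξ : _ → ℂ) =
      (rmult hCK χ ξ : ℂ) := fun χ ξ => by
    rw [← rmult_spec hCK χ ξ]
    exact CfsgLib.Clifford.classInner_comp_equiv e₂ ((χ : K → ℂ) ∘ Subgroup.inclusion hCK)
      (ξ : C → ℂ)
  have hinv₁ : ∀ χ : Cfsg.IrrCharacter K, InvUnder (Subgroup.zpowers x : Set G) (χ : K → ℂ) ↔
      ∀ g, conjFun (K.subgroupOf Γ) (f₁ χ : _ → ℂ) g = (f₁ χ : _ → ℂ) := by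
    intro χ
    constructor
    · intro h g
      funext k
      obtain ⟨c, hc, n, hg⟩ := hdec g g.2
      change (χ : K → ℂ) _ = (χ : K → ℂ) (e₁ k)
      have hmem : x ^ n * (e₁ k : G) * (x ^ n)⁻¹ ∈ K :=
        (Subgroup.mem_normalizer_iff.mp ((Subgroup.normalizer (K : Set G)).zpow_mem hxK n) _).mp
          (e₁ k).2
      rw [← h _ (Subgroup.zpow_mem _ (Subgroup.mem_zpowers x) n) (e₁ k) ⟨_, hmem⟩ rfl,
        ← CfsgLib.Char.IsIrrCharacter.isClassFunction χ.2 ⟨_, hmem⟩ ⟨c, hc⟩]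
      refine congrArg _ (Subtype.ext ?_)
      change (g : G) * ((k : Γ) : G) * (g : G)⁻¹ = c * (x ^ n * ((k : Γ) : G) * (x ^ n)⁻¹) * c⁻¹
      rw [← hg]
      group
    · intro h y hy k k' hk
      have e := congrFun (h ⟨y, (le_sup_right : Subgroup.zpowers x ≤ Γ) hy⟩) (e₁.symm k)
      change (χ : K → ℂ) _ = (χ : K → ℂ) (e₁ (e₁.symm k)) at e
      rw [e₁.apply_symm_apply] at e
      rw [← e]
      exact congrArg _ (Subtype.ext hk)
  have hinv₂ : ∀ ξ : Cfsg.IrrCharacter C, InvUnder (Subgroup.zpowers x : Set G) (ξ : C → ℂ) ↔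
      ∀ n, conjFun ((K.subgroupOf Γ).subgroupOf N) (f₂ ξ : _ → ℂ) n = (f₂ ξ : _ → ℂ) := by
    intro ξ
    constructor
    · intro h g
      funext k
      obtain ⟨c, hc, n, hg⟩ := hdec g.1.1 g.1.2
      have hcN : (⟨c, hKΓ hc⟩ : Γ) ∈ N := by
        rw [show (⟨c, hKΓ hc⟩ : Γ) = g.1 * (xΓ ^ n)⁻¹ from Subtype.ext (by
          push_cast; rw [← hg, mul_inv_cancel_right])]
        exact N.mul_mem g.2 (N.inv_mem (N.zpow_mem hxN n))
      have hcC : c ∈ C := (hKN ⟨c, hKΓ hc⟩ hc).mp hcN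
      change (ξ : C → ℂ) _ = (ξ : C → ℂ) (e₂ k)
      have hmem : x ^ n * (e₂ k : G) * (x ^ n)⁻¹ ∈ C := by
        let u : Γ := xΓ ^ n * k.1.1 * (xΓ ^ n)⁻¹
        have hu : u ∈ K.subgroupOf Γ := hKn.conj_mem _ k.2 _
        exact (hKN u hu).mp (N.mul_mem (N.mul_mem (N.zpow_mem hxN n) k.1.2)
          (N.inv_mem (N.zpow_mem hxN n)))
      rw [← h _ (Subgroup.zpow_mem _ (Subgroup.mem_zpowers x) n) (e₂ k) ⟨_, hmem⟩ rfl,
        ← CfsgLib.Char.IsIrrCharacter.isClassFunction ξ.2 ⟨_, hmem⟩ ⟨c, hcC⟩]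
      refine congrArg _ (Subtype.ext ?_)
      change g.1.1 * k.1.1.1 * g.1.1⁻¹ = c * (x ^ n * k.1.1.1 * (x ^ n)⁻¹) * c⁻¹
      rw [← hg]
      group
    · intro h y hy k k' hk
      obtain ⟨n, rfl⟩ := hy
      have e := congrFun (h ⟨xΓ ^ n, N.zpow_mem hxN n⟩) (e₂.symm k)
      change (ξ : C → ℂ) _ = (ξ : C → ℂ) (e₂ (e₂.symm k)) at e
      rw [e₂.apply_symm_apply] at e
      rw [← e]
      exact congrArg _ (Subtype.ext hk)
  have hnd : ∀ m : ℕ, NotDvdInt p (m : ℂ) ↔ ¬ p ∣ m := fun m =>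
    ⟨fun h hd => h m (by push_cast; rfl) (Int.natCast_dvd_natCast.mpr hd),
      fun h z hz hd => h (Int.natCast_dvd_natCast.mp (by
        rwa [show (m : ℤ) = z by exact_mod_cast hz]))⟩
  have hus : ∀ m : ℕ, IsUnitSignMod p (m : ℂ) → SqOneMod p m := by
    rintro m ⟨z, hz, hd⟩
    rwa [SqOneMod, show (m : ℤ) = z by exact_mod_cast hz]
  constructor
  · intro χ hχ
    obtain ⟨ξ, ⟨hξ, hm⟩, huniq⟩ := key.1 (f₁ χ) ((hinv₁ χ).mp hχ)
    obtain ⟨ξ, rfl⟩ := f₂.surjective ξ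
    rw [hmult] at hm
    refine ⟨ξ, (hinv₂ ξ).mpr hξ, hus _ hm, fun ξ' hξ' hd => f₂.injective
      (huniq _ ((hinv₂ ξ').mp hξ') ?_)⟩
    rw [hmult]
    exact (hnd _).mpr hd
  · intro ξ hξ
    obtain ⟨χ, ⟨hχ, hm⟩, huniq⟩ := key.2 (f₂ ξ) ((hinv₂ ξ).mp hξ)
    obtain ⟨χ, rfl⟩ := f₁.surjective χ
    rw [hmult] at hm
    refine ⟨χ, (hinv₁ χ).mpr hχ, hus _ hm, fun χ' hχ' hd => f₁.injective
      (huniq _ ((hinv₁ χ').mp hχ') ?_)⟩
    rw [hmult]
    exact (hnd _).mpr hd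

end Step

/-- The general correspondence. -/
theorem corr_exists {P K Q C : Subgroup G} (hP : IsPGroup p P)
    (hPK : P ≤ Subgroup.normalizer (K : Set G)) (hQK : Q ≤ K)
    (hQn : ∀ k ∈ K, ∀ q ∈ Q, k * q * k⁻¹ ∈ Q) (hQp : IsPGroup p Q)
    (hQi : ¬ p ∣ Q.relIndex K) (hCK : C ≤ K)
    (hC : ∀ k : G, k ∈ C ↔ (k ∈ K ∧ ∀ x ∈ P, x * k * x⁻¹ * k⁻¹ ∈ Q)) :
    Corr p (P : Set G) K C hCK ∧ P ≤ Subgroup.normalizer (C : Set G) := by
  classical
  have hPQ : P ≤ Subgroup.normalizer (Q : Set G) := by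
    intro y hy
    refine Subgroup.mem_normalizer_fintype fun q hq => ?_
    have hq' : y * q * y⁻¹ ∈ K := (Subgroup.mem_normalizer_iff.mp (hPK hy) q).mp (hQK hq)
    by_contra hnot
    have hQy : IsPGroup p (Q.map (MulAut.conj y).toMonoidHom) := hQp.map _
    have hmap : Q.map (MulAut.conj y).toMonoidHom ≤ Subgroup.normalizer (Q : Set G) := by
      rintro _ ⟨z, hz, rfl⟩
      exact Subgroup.mem_normalizer_fintype fun w hw =>
        hQn _ ((Subgroup.mem_normalizer_iff.mp (hPK hy) z).mp (hQK hz)) w hw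
    obtain ⟨b, hb⟩ := IsPGroup.iff_card.mp (IsPGroup.to_sup_of_normal_right' hQy hQp hmap)
    obtain ⟨c, -, hc⟩ := (Nat.dvd_prime_pow hp.out).mp
      (hb ▸ Subgroup.relIndex_dvd_card Q (Q.map (MulAut.conj y).toMonoidHom ⊔ Q))
    rcases c with _ | c
    · rw [pow_zero, Subgroup.relIndex_eq_one] at hc
      exact hnot (hc ((le_sup_left : Q.map (MulAut.conj y).toMonoidHom ≤ _) ⟨q, hq, rfl⟩))
    · refine hQi ((hc ▸ dvd_pow_self p c.succ_ne_zero).trans (Dvd.intro _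
        (Subgroup.relIndex_mul_relIndex Q _ K le_sup_right (sup_le ?_ hQK))))
      rintro _ ⟨z, hz, rfl⟩
      exact (Subgroup.mem_normalizer_iff.mp (hPK hy) z).mp (hQK hz)
  suffices h : ∀ n, ∀ P C : Subgroup G, Nat.card P = n → IsPGroup p P →
      P ≤ Subgroup.normalizer (K : Set G) → P ≤ Subgroup.normalizer (Q : Set G) → (hCK : C ≤ K) →
      (∀ k : G, k ∈ C ↔ (k ∈ K ∧ ∀ x ∈ P, x * k * x⁻¹ * k⁻¹ ∈ Q)) →
      Corr p (P : Set G) K C hCK ∧ P ≤ Subgroup.normalizer (C : Set G) from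
    h _ P C rfl hP hPK hPQ hCK hC
  intro n
  induction n using Nat.strong_induction_on with
  | _ n ih =>
    intro P C hn hP hPK hPQ hCK hC
    have hnormC : ∀ P' C' : Subgroup G, P' ≤ P →
        (∀ k : G, k ∈ C' ↔ (k ∈ K ∧ ∀ x ∈ P', x * k * x⁻¹ * k⁻¹ ∈ Q)) →
        ∀ y ∈ P, (∀ z ∈ P', y⁻¹ * z * y ∈ P') → y ∈ Subgroup.normalizer (C' : Set G) := by
      intro P' C' hP' hC' y hy hconj
      refine Subgroup.mem_normalizer_fintype fun k hk => ?_
      obtain ⟨hkK, hkQ⟩ := (hC' k).mp hk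
      refine (hC' _).mpr ⟨(Subgroup.mem_normalizer_iff.mp (hPK hy) k).mp hkK, fun z hz => ?_⟩
      have h := (Subgroup.mem_normalizer_iff.mp (hPQ hy) _).mp (hkQ _ (hconj z hz))
      convert h using 1
      group
    have hnorm : P ≤ Subgroup.normalizer (C : Set G) := fun y hy => hnormC P C le_rfl hC y hy
      fun z hz => P.mul_mem (P.mul_mem (P.inv_mem hy) hz) hy
    refine ⟨?_, hnorm⟩
    obtain ⟨a, ha⟩ := IsPGroup.iff_card.mp hP
    rcases a with _ | a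
    · rw [pow_zero, Subgroup.card_eq_one] at ha
      obtain rfl : C = K := le_antisymm hCK fun k hk => (hC k).mpr ⟨hk, fun x hx => by
        rw [ha, Subgroup.mem_bot] at hx
        simp [hx, Q.one_mem]⟩
      exact Corr.refl _ _
    obtain ⟨P₁', hP₁'⟩ := Sylow.exists_subgroup_card_pow_prime p (G := P) (n := a)
      (by rw [ha]; exact pow_dvd_pow p a.le_succ)
    have hidx : P₁'.index = p := by
      have := P₁'.index_mul_card
      rw [hP₁', ha, pow_succ, mul_comm] at this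
      exact Nat.eq_of_mul_eq_mul_left (pow_pos hp.out.pos a) this
    haveI hN1 : P₁'.Normal := Subgroup.normal_of_index_eq_minFac_card (by
      rw [hidx, ha, Nat.pow_minFac (Nat.succ_ne_zero a), hp.out.minFac_eq])
    obtain ⟨x', hx'⟩ : ∃ x' : P, x' ∉ P₁' := by
      by_contra h
      push Not at h
      rw [(Subgroup.eq_top_iff' P₁').mpr h, Subgroup.index_top] at hidx
      exact hp.out.ne_one hidx.symm
    let P₁ : Subgroup G := P₁'.map P.subtype
    have hP₁P : P₁ ≤ P := Subgroup.map_subtype_le P₁'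
    have hcard1 : Nat.card P₁ < n := by
      rw [← hn, ha, Subgroup.card_map_of_injective P.subtype_injective, hP₁']
      exact Nat.pow_lt_pow_right hp.out.one_lt a.lt_succ_self
    let C₁ : Subgroup G := commMod (P₁ : Set G) K Q hQn
    have hC₁K : C₁ ≤ K := fun k hk => hk.1
    obtain ⟨hcorr₁, -⟩ := ih _ hcard1 P₁ C₁ rfl (hP.to_le hP₁P) (hP₁P.trans hPK) (hP₁P.trans hPQ)
      hC₁K fun k => Iff.rfl
    have hPC₁ : P ≤ Subgroup.normalizer (C₁ : Set G) := fun y hy =>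
      hnormC P₁ C₁ hP₁P (fun k => Iff.rfl) y hy fun z hz => by
        obtain ⟨z', hz', rfl⟩ := hz
        refine ⟨⟨y, hy⟩⁻¹ * z' * ⟨y, hy⟩, ?_, rfl⟩
        simpa using hN1.conj_mem z' hz' (⟨y, hy⟩ : P)⁻¹
    set x : G := (x' : G) with hxdef
    have hsup : P₁' ⊔ Subgroup.zpowers x' = ⊤ := by
      by_contra hne
      have hdvd : (P₁' ⊔ Subgroup.zpowers x').index ∣ p :=
        hidx ▸ Subgroup.index_dvd_of_le le_sup_left
      rcases (Nat.dvd_prime hp.out).mp hdvd with h | h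
      · exact hne (Subgroup.index_eq_one.mp h)
      · have hmul := Subgroup.relIndex_mul_index (le_sup_left : P₁' ≤ P₁' ⊔ Subgroup.zpowers x')
        rw [h, hidx] at hmul
        have heq : P₁' = P₁' ⊔ Subgroup.zpowers x' := le_antisymm le_sup_left
          (Subgroup.relIndex_eq_one.mp
            (Nat.eq_of_mul_eq_mul_right hp.out.pos (hmul.trans (one_mul p).symm)))
        exact hx' (heq ▸ (le_sup_right : Subgroup.zpowers x' ≤ _) (Subgroup.mem_zpowers x'))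
    have hCC₁ : C ≤ C₁ := fun k hk =>
      ⟨hCK hk, fun y hy => ((hC k).mp hk).2 y (hP₁P hy)⟩
    have hQC₁ : Q ≤ C₁ := fun q hq => ⟨hQK hq, fun y hy => Q.mul_mem
      ((Subgroup.mem_normalizer_iff.mp (hPQ (hP₁P hy)) q).mp hq) (Q.inv_mem hq)⟩
    have hQi₁ : ¬ p ∣ Q.relIndex C₁ := fun h => hQi (h.trans (Dvd.intro _
      (Subgroup.relIndex_mul_relIndex Q C₁ K hQC₁ hC₁K)))
    obtain ⟨i, hi⟩ := IsPGroup.iff_orderOf.mp hP x'
    have hC' : ∀ k, k ∈ C ↔ k ∈ C₁ ∧ x * k * x⁻¹ * k⁻¹ ∈ Q := by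
      intro k
      refine ⟨fun hk => ⟨hCC₁ hk, ((hC k).mp hk).2 x x'.2⟩, fun ⟨hk, hkx⟩ => ?_⟩
      refine (hC k).mpr ⟨hk.1, fun y hy => ?_⟩
      let S : Subgroup P :=
        { carrier := {y : P | (y : G) * k * (y : G)⁻¹ * k⁻¹ ∈ Q}
          one_mem' := by simp [Q.one_mem]
          mul_mem' := fun {u v} hu hv => by
            change ((u * v : P) : G) * k * ((u * v : P) : G)⁻¹ * k⁻¹ ∈ Q
            have := Q.mul_mem ((Subgroup.mem_normalizer_iff.mp (hPQ u.2) _).mp hv) hu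
            convert this using 1
            push_cast
            group
          inv_mem' := fun {u} hu => by
            change ((u⁻¹ : P) : G) * k * ((u⁻¹ : P) : G)⁻¹ * k⁻¹ ∈ Q
            have := (Subgroup.mem_normalizer_iff''.mp (hPQ u.2) _).mp (Q.inv_mem hu)
            convert this using 1
            push_cast
            group }
      have hS : P₁' ⊔ Subgroup.zpowers x' ≤ S :=
        sup_le (fun z hz => hk.2 (z : G) ⟨z, hz, rfl⟩) (Subgroup.zpowers_le.mpr hkx)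
      exact hS (hsup ▸ Subgroup.mem_top (⟨y, hy⟩ : P))
    have hstep : Corr p (Subgroup.zpowers x : Set G) C₁ C hCC₁ :=
      corr_zpowers hQC₁ (fun k hk => hQn k hk.1) hQp hQi₁ (hPC₁ x'.2) (hPQ x'.2)
        ⟨i, by rw [Subgroup.orderOf_coe, hi]⟩ hCC₁ hC'
    exact Corr.trans hP hPK hPC₁ hnorm (Corr.mono hP hP₁P hPK hPC₁ hcorr₁)
      (Corr.mono hP (Subgroup.zpowers_le.mpr x'.2) hPC₁ hnorm hstep)

end CfsgLib.RealChar
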