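import Cfsg.Agent.Lib.Char.Orth
import Cfsg.Agent.Lib.Char.Linear
import Cfsg.Agent.Lib.Char.Virtual
import Cfsg.Agent.Lib.CharDeep.Extend
import Cfsg.Agent.Lib.CharDeep.Gallagher
import Mathlib.GroupTheory.FiniteAbelian.Duality
import Mathlib.GroupTheory.SpecificGroups.Cyclic

/-!
# Twisting by the dual of a cyclic quotient
-/

set_option linter.style.haveILetI false

namespace CfsgLib.RealChar

open scoped ComplexConjugate

variable {A D : Type*} [Group A] [Group D]

/-- Multiplication of a character by a linear character of a quotient. -/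
noncomputable def dualTwist [Finite A] (π : A →* D) (μ : D →* ℂˣ) (ψ : Cfsg.IrrCharacter A) :
    Cfsg.IrrCharacter A :=
  ⟨fun a => (μ (π a) : ℂ) * (ψ : A → ℂ) a,
    CfsgLib.Char.IsIrrCharacter.linear_mul ψ.2 (μ.comp π)⟩

theorem dualTwist_apply [Finite A] (π : A →* D) (μ : D →* ℂˣ) (ψ : Cfsg.IrrCharacter A) (a : A) :
    (dualTwist π μ ψ : A → ℂ) a = (μ (π a) : ℂ) * (ψ : A → ℂ) a := rfl

/-- The action of the dual group on irreducible characters. -/
@[reducible]
noncomputable def dualTwistAction [Finite A] (π : A →* D) :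
    MulAction (D →* ℂˣ) (Cfsg.IrrCharacter A) where
  smul μ ψ := dualTwist π μ ψ
  one_smul ψ := Subtype.ext (funext fun a => by
    change ((1 : D →* ℂˣ) (π a) : ℂ) * (ψ : A → ℂ) a = _
    simp)
  mul_smul μ ν ψ := Subtype.ext (funext fun a => by
    change ((μ * ν) (π a) : ℂ) * (ψ : A → ℂ) a = (μ (π a) : ℂ) * ((ν (π a) : ℂ) * (ψ : A → ℂ) a)
    simp [mul_assoc])

/-- The values of a linear character of a finite group are unitary. -/
theorem conj_mul_unit_apply [Finite D] (μ : D →* ℂˣ) (d : D) :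
    conj ((μ d : ℂ)) * (μ d : ℂ) = 1 := by
  have h : ((μ d : ℂ)) ^ orderOf d = 1 := by
    rw [← Units.val_pow_eq_pow_val, ← map_pow, pow_orderOf_eq_one, map_one, Units.val_one]
  rw [mul_comm, Complex.mul_conj', Complex.norm_eq_one_of_pow_eq_one h (orderOf_pos d).ne']
  simp

theorem sum_dual_eq_ite [Finite D] [Fintype (D →* ℂˣ)] (hcyc : IsCyclic D) (d : D)
    [Decidable (d = 1)] :
    ∑ μ : D →* ℂˣ, (μ d : ℂ) = if d = 1 then (Nat.card D : ℂ) else 0 := by
  letI : CommGroup D := IsCyclic.commGroup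
  split_ifs with hd
  · subst hd
    simp only [map_one, Units.val_one, Finset.sum_const, Finset.card_univ, nsmul_eq_mul, mul_one]
    rw [← Nat.card_eq_fintype_card, CommGroup.card_monoidHom_of_hasEnoughRootsOfUnity D ℂ]
  · obtain ⟨φ, hφ⟩ := CommGroup.exists_apply_ne_one_of_hasEnoughRootsOfUnity D ℂ hd
    have h : (φ d : ℂ) * ∑ μ : D →* ℂˣ, (μ d : ℂ) = ∑ μ : D →* ℂˣ, (μ d : ℂ) := by
      rw [Finset.mul_sum]
      exact Fintype.sum_equiv (Equiv.mulLeft φ) _ _ fun μ => by simp
    by_contra hne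
    exact hφ (Units.ext (mul_right_cancel₀ hne (h.trans (one_mul _).symm)))

theorem card_dual [Finite D] (hcyc : IsCyclic D) : Nat.card (D →* ℂˣ) = Nat.card D := by
  letI : CommGroup D := IsCyclic.commGroup
  exact CommGroup.card_monoidHom_of_hasEnoughRootsOfUnity D ℂ

theorem isCyclic_dual [Finite D] (hcyc : IsCyclic D) : IsCyclic (D →* ℂˣ) := by
  letI : CommGroup D := IsCyclic.commGroup
  obtain ⟨e⟩ := CommGroup.monoidHom_mulEquiv_of_hasEnoughRootsOfUnity D ℂ
  exact isCyclic_of_surjective e.symm.toMonoidHom e.symm.surjective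

section Kernel

variable [Fintype A] [Finite D] [Fintype (D →* ℂˣ)] {π : A →* D} {B : Subgroup A} [Fintype B]

/-- The inner product on the kernel as a sum over twists. -/
theorem classInner_res_eq_sum (hcyc : IsCyclic D) (hπ : Function.Surjective π)
    (hB : ∀ a, a ∈ B ↔ π a = 1) (ψ : Cfsg.IrrCharacter A) (f : A → ℂ) :
    Cfsg.classInner (fun b : B => (ψ : A → ℂ) b) (fun b : B => f b) =
      ∑ μ : D →* ℂˣ, Cfsg.classInner (dualTwist π μ ψ : A → ℂ) f := by
  classical
  simp only [Cfsg.classInner, dualTwist_apply, ← Finset.mul_sum]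
  rw [Finset.sum_comm, Finset.sum_congr rfl fun a _ => show
      ∑ μ : D →* ℂˣ, (μ (π a) : ℂ) * (ψ : A → ℂ) a * conj (f a) =
        if a ∈ B then (Nat.card D : ℂ) * ((ψ : A → ℂ) a * conj (f a)) else 0 by
    simp only [mul_assoc, ← Finset.sum_mul, sum_dual_eq_ite hcyc, hB, ite_mul, zero_mul]]
  rw [← Finset.sum_filter, ← Finset.mul_sum,
    Finset.sum_subtype (Finset.univ.filter (· ∈ B)) (p := (· ∈ B)) (fun x => by simp)
      (fun a => (ψ : A → ℂ) a * conj (f a)), ← mul_assoc]
  congr 1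
  have hker : π.ker = B := by ext a; rw [MonoidHom.mem_ker, hB]
  have hidx : Nat.card A = Nat.card D * Nat.card B := by
    rw [← B.index_mul_card, ← hker, Subgroup.index_ker, MonoidHom.range_eq_top.mpr hπ,
      Subgroup.card_top]
  have hD : (Nat.card D : ℂ) ≠ 0 := Nat.cast_ne_zero.mpr Nat.card_pos.ne'
  rw [hidx, Nat.cast_mul, mul_inv, mul_comm, ← mul_assoc, mul_inv_cancel₀ hD, one_mul]

/-- An irreducible restriction to the kernel forces a regular twisting orbit. -/
theorem eq_one_of_dualTwist_eq (hcyc : IsCyclic D) (hπ : Function.Surjective π)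
    (hB : ∀ a, a ∈ B ↔ π a = 1) {ψ : Cfsg.IrrCharacter A}
    (hirr : Cfsg.IsIrrCharacter B (fun b : B => (ψ : A → ℂ) b)) {μ : D →* ℂˣ}
    (h : dualTwist π μ ψ = ψ) : μ = 1 := by
  classical
  by_contra hne
  have hsum := classInner_res_eq_sum hcyc hπ hB ψ (ψ : A → ℂ)
  rw [CfsgLib.Char.classInner_irr_self hirr] at hsum
  simp only [CfsgLib.Char.classInner_irrCharacter, Finset.sum_boole] at hsum
  have h2 : 1 < (Finset.univ.filter fun ν : D →* ℂˣ => dualTwist π ν ψ = ψ).card :=
    Finset.one_lt_card.mpr ⟨μ, Finset.mem_filter.mpr ⟨Finset.mem_univ _, h⟩, 1,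
      Finset.mem_filter.mpr ⟨Finset.mem_univ _, Subtype.ext (funext fun a => by
        simp [dualTwist_apply])⟩, hne⟩
  have h3 : (Finset.univ.filter fun ν : D →* ℂˣ => dualTwist π ν ψ = ψ).card = 1 := by
    exact_mod_cast hsum.symm
  omega

/-- A regular twisting orbit forces an irreducible restriction to the kernel. -/
theorem isIrrCharacter_res_of_free (hcyc : IsCyclic D) (hπ : Function.Surjective π)
    (hB : ∀ a, a ∈ B ↔ π a = 1) {ψ : Cfsg.IrrCharacter A}
    (hfree : ∀ μ : D →* ℂˣ, dualTwist π μ ψ = ψ → μ = 1) :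
    Cfsg.IsIrrCharacter B (fun b : B => (ψ : A → ℂ) b) := by
  classical
  refine CfsgLib.Char.IsCharacter.isIrrCharacter_of_classInner_self
    (CfsgLib.Char.IsCharacter.restrict (CfsgLib.Char.IsIrrCharacter.isCharacter ψ.2) B) ?_
  rw [classInner_res_eq_sum hcyc hπ hB ψ (ψ : A → ℂ), Finset.sum_eq_single (1 : D →* ℂˣ)]
  · rw [show dualTwist π 1 ψ = ψ from Subtype.ext (funext fun a => by simp [dualTwist_apply])]
    exact CfsgLib.Char.classInner_irr_self ψ.2
  · intro μ _ hμ
    exact CfsgLib.Char.classInner_irr_of_ne (dualTwist π μ ψ).2 ψ.2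
      fun h => hμ (hfree μ (Subtype.ext h))
  · exact fun h => absurd (Finset.mem_univ _) h

omit [Fintype (D →* ℂˣ)] [Fintype B] in
/-- An invariant character of the kernel extends. -/
theorem exists_extension_of_kernel [B.Normal] (hcyc : IsCyclic D) (hπ : Function.Surjective π)
    (hB : ∀ a, a ∈ B ↔ π a = 1) {θ : B → ℂ} (hθ : Cfsg.IsIrrCharacter B θ)
    (hinv : ∀ a, CfsgLib.CharTwist.conjFun B θ a = θ) :
    ∃ ψ : Cfsg.IrrCharacter A, (fun b : B => (ψ : A → ℂ) b) = θ := by
  have hker : B = π.ker := by ext a; rw [MonoidHom.mem_ker, hB]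
  have hc : IsCyclic (A ⧸ B) := by
    subst hker
    exact isCyclic_of_surjective (QuotientGroup.quotientKerEquivOfSurjective π hπ).symm.toMonoidHom
      (QuotientGroup.quotientKerEquivOfSurjective π hπ).symm.surjective
  obtain ⟨χ, hχ, hχB⟩ := CfsgLib.CharDeep.Extend.extends_of_cyclic B θ hθ
    (fun g n => congrFun (hinv g) n) hc
  exact ⟨⟨χ, hχ⟩, funext hχB⟩

end Kernel

end CfsgLib.RealChar
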