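import Cfsg.Agent.Lib.Char.Basic
import Cfsg.Agent.Lib.Char.Integral
import Cfsg.Agent.Lib.Char.Kernel
import Mathlib.LinearAlgebra.Matrix.ToLin
import Mathlib.Data.Matrix.Basis
import Mathlib.LinearAlgebra.Trace

/-!
# Square roots and real irreducible characters

An irreducible character with `∑ χ (x * x) ≠ 0` is real valued; translation by an element acting
trivially in every such representation preserves the numbers of square roots.
-/

namespace CfsgLib.RealChar

open Module Matrix
open scoped ComplexConjugate

variable {G : Type*} [Group G] [Fintype G] {V : Type*} [AddCommGroup V] [Module ℂ V]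
  [FiniteDimensional ℂ V]

/-- If an irreducible representation has nonzero Frobenius-Schur sum then its character is
real valued. -/
theorem im_eq_zero_of_sum_sq_ne_zero (ρ : Representation ℂ G V) [ρ.IsIrreducible]
    (hν : ∑ x : G, ρ.character (x * x) ≠ 0) (g : G) : (ρ.character g).im = 0 := by
  classical
  let b := Module.finBasis ℂ V
  let A : G → Matrix (Fin (finrank ℂ V)) (Fin (finrank ℂ V)) ℂ :=
    fun x => LinearMap.toMatrix b b (ρ x)
  have hA : ∀ x y, A (x * y) = A x * A y := fun x y => by
    simp only [A, map_mul, LinearMap.toMatrix_mul]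
  have hA1 : A 1 = 1 := by simp only [A, map_one, LinearMap.toMatrix_one]
  have htr : ∀ x, ρ.character x = (A x).trace := fun x => LinearMap.trace_eq_matrix_trace ℂ b _
  by_cases hF : ∀ E : Matrix (Fin (finrank ℂ V)) (Fin (finrank ℂ V)) ℂ,
      ∑ x, A x * E * (A x)ᵀ = 0
  · exfalso
    apply hν
    have h : ∀ i j, ∑ x, A x i j * A x j i = 0 := by
      intro i j
      have := congr_fun (congr_fun (hF (Matrix.single j i 1)) i) j
      simpa [Matrix.sum_apply, Matrix.mul_apply, Matrix.single_apply, Matrix.transpose_apply,
        ite_and] using this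
    calc ∑ x, ρ.character (x * x) = ∑ x, ∑ i, ∑ j, A x i j * A x j i :=
          Finset.sum_congr rfl fun x _ => by
            rw [htr, hA]; simp only [Matrix.trace, Matrix.diag, Matrix.mul_apply]
      _ = 0 := by
          rw [Finset.sum_comm]
          refine Finset.sum_eq_zero fun i _ => ?_
          rw [Finset.sum_comm]
          exact Finset.sum_eq_zero fun j _ => h i j
  · push Not at hF
    obtain ⟨E, hE⟩ := hF
    set F := ∑ x, A x * E * (A x)ᵀ with hFdef
    have hinv : ∀ y, A y * F * (A y)ᵀ = F := by
      intro y
      rw [hFdef, Finset.mul_sum, Finset.sum_mul]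
      refine Fintype.sum_equiv (Equiv.mulLeft y) _ _ fun x => ?_
      simp only [Equiv.coe_mulLeft, hA, Matrix.transpose_mul, Matrix.mul_assoc]
    have hker : ∀ y, A y * F = F * (A y⁻¹)ᵀ := by
      intro y
      conv_rhs => rw [← hinv y]
      rw [Matrix.mul_assoc _ (A y)ᵀ, ← Matrix.transpose_mul, ← hA, inv_mul_cancel, hA1,
        Matrix.transpose_one, Matrix.mul_one]
    let f : V →ₗ[ℂ] V := Matrix.toLin b b F
    have hf0 : f ≠ 0 := fun h => hE ((Matrix.toLin b b).map_eq_zero_iff.mp h)
    have hρA : ∀ y, Matrix.toLin b b (A y) = ρ y := fun y => Matrix.toLin_toMatrix _ _ _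
    have hrange : ∀ y : G, ∀ v ∈ LinearMap.range f, ρ y v ∈ LinearMap.range f := by
      rintro y _ ⟨w, rfl⟩
      refine ⟨Matrix.toLin b b (A y⁻¹)ᵀ w, ?_⟩
      rw [← hρA y]
      simp only [f, ← LinearMap.comp_apply, ← Matrix.toLin_mul, hker]
    rcases CfsgLib.CharKernel.eq_bot_or_eq_top ρ _ hrange with h | h
    · exact absurd (LinearMap.range_eq_bot.mp h) hf0
    · have hunit : IsUnit f :=
        (Module.End.isUnit_iff _).mpr
          ⟨LinearMap.injective_iff_surjective.mpr (LinearMap.range_eq_top.mp h),
            LinearMap.range_eq_top.mp h⟩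
      have hu : IsUnit F := by
        have h2 : LinearMap.toMatrixAlgEquiv b f = F := LinearMap.toMatrix_toLin b b F
        rw [← h2]
        exact hunit.map _
      obtain ⟨u, hu⟩ := hu
      have hconj : A g = F * (A g⁻¹)ᵀ * (↑u⁻¹ : Matrix _ _ ℂ) := by
        rw [← hker g, Matrix.mul_assoc, ← hu, Units.mul_inv, Matrix.mul_one]
      have heq : ρ.character g = ρ.character g⁻¹ := by
        rw [htr, htr]
        conv_lhs => rw [hconj, Matrix.trace_mul_comm, ← Matrix.mul_assoc, ← hu, Units.inv_mul,
          Matrix.one_mul, Matrix.trace_transpose]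
      have h2 := CfsgLib.Char.character_inv ρ g
      rw [← heq] at h2
      exact Complex.conj_eq_iff_im.mp h2.symm

/-- An operator killing every irreducible subrepresentation is zero. -/
theorem eq_zero_of_forall_irreducible {W : Type*} [AddCommGroup W] [Module ℂ W]
    (ρ : Representation ℂ G V) (T : V →ₗ[ℂ] W)
    (h : ∀ U : Subrepresentation ρ, U.toRepresentation.IsIrreducible →
      ∀ u ∈ U.toSubmodule, T u = 0) : T = 0 := by
  let K : Submodule ℂ V :=
    { carrier := {v | ∀ y : G, T (ρ y v) = 0}
      zero_mem' := fun y => by simp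
      add_mem' := fun {a b} ha hb y => by rw [map_add, map_add, ha y, hb y, add_zero]
      smul_mem' := fun c a ha y => by rw [map_smul, map_smul, ha y, smul_zero] }
  obtain ⟨K', hK', hc⟩ := CfsgLib.CharKernel.exists_invariant_compl ρ K fun g v hv y => by
    rw [← Module.End.mul_apply, ← map_mul]
    exact hv _
  have hbot : K' = ⊥ := by
    by_contra hne
    haveI : Nontrivial K' := Submodule.nontrivial_iff_ne_bot.mpr hne
    let A : Subrepresentation ρ := ⟨K', fun g v hv => hK' g v hv⟩
    obtain ⟨U, hU⟩ := CfsgLib.CharKernel.exists_irreducible_sub A.toRepresentation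
    let U' : Subrepresentation ρ :=
      ⟨U.toSubmodule.map K'.subtype, fun g v hv => by
        obtain ⟨u, hu, rfl⟩ := hv
        exact ⟨A.toRepresentation g u, U.apply_mem_toSubmodule g hu, rfl⟩⟩
    let e : U.toSubmodule ≃ₗ[ℂ] U'.toSubmodule :=
      Submodule.equivMapOfInjective K'.subtype K'.subtype_injective U.toSubmodule
    haveI := hU
    have hU' : U'.toRepresentation.IsIrreducible :=
      CfsgLib.Char.isIrreducible_of_equiv (ρ := U.toRepresentation)
        (Representation.Equiv.mk e fun g => by ext x; rfl)
    obtain ⟨u, hu⟩ := (Submodule.ne_bot_iff U.toSubmodule).mp (fun hb => by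
      haveI := CfsgLib.CharKernel.nontrivial_of_irreducible U.toRepresentation
      exact (Submodule.nontrivial_iff_ne_bot.mp this) hb)
    have huK : (u : V) ∈ K := fun y =>
      h U' hU' _ (U'.apply_mem_toSubmodule y ⟨u, hu.1, rfl⟩)
    exact hu.2 (Subtype.ext ((Submodule.disjoint_def.mp hc.disjoint) _ huK u.2))
  rw [hbot] at hc
  ext v
  have hv : v ∈ K := by rw [eq_top_of_isCompl_bot hc]; exact Submodule.mem_top
  simpa using hv 1

omit [FiniteDimensional ℂ V] in
/-- The left regular representation on functions. -/
noncomputable def regRep (G : Type*) [Group G] : Representation ℂ G (G → ℂ) where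
  toFun g := LinearMap.funLeft ℂ ℂ (fun h => g⁻¹ * h)
  map_one' := by ext f h; simp [LinearMap.funLeft_apply]
  map_mul' a b := by ext f h; simp [LinearMap.funLeft_apply, mul_assoc]

/-- Reindexing of a sum weighted by the numbers of square roots. -/
theorem sum_roots_smul {β : Type*} [AddCommGroup β] [Module ℂ β] (φ : G → β) :
    ∑ y, (Nat.card {x : G // x * x = y} : ℂ) • φ y = ∑ x, φ (x * x) := by
  classical
  simp only [Nat.card_eq_fintype_card, Fintype.card_subtype]
  rw [← Finset.sum_fiberwise Finset.univ (fun x => x * x) (fun x => φ (x * x))]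
  refine Finset.sum_congr rfl fun y _ => ?_
  rw [Finset.sum_congr rfl (fun x hx => congrArg φ (Finset.mem_filter.mp hx).2),
    Finset.sum_const, Nat.cast_smul_eq_nsmul]

/-- If `m` acts trivially in every irreducible representation with nonzero Frobenius-Schur sum,
then `g * m` has as many square roots as `g`. -/
theorem card_roots_mul_eq (m : G)
    (hm : ∀ (n : ℕ) (ρ : Representation ℂ G (Fin n → ℂ)), ρ.IsIrreducible →
      (∀ g, (ρ.character g).im = 0) → ρ m = 1) (g : G) :
    Nat.card {x : G // x * x = g * m} = Nat.card {x : G // x * x = g} := by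
  classical
  let R := regRep G
  have hT : (∑ x : G, R (x * x)) * (R m - 1) = 0 := by
    refine eq_zero_of_forall_irreducible R _ fun U hU u hu => ?_
    haveI := hU
    obtain ⟨c, hc, hc'⟩ := CfsgLib.Char.exists_scalar_sum_smul U.toRepresentation
      (fun y => (Nat.card {x : G // x * x = y} : ℂ)) (fun y h => by
        congr 1
        refine Nat.card_congr ((MulAut.conj h⁻¹).toEquiv.subtypeEquiv fun x => ?_)
        simp only [MulEquiv.toEquiv_eq_coe, EquivLike.coe_coe, MulAut.conj_apply, inv_inv]
        constructor
        · intro hx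
          calc h⁻¹ * x * h * (h⁻¹ * x * h) = h⁻¹ * (x * x) * h := by group
            _ = y := by rw [hx]; group
        · intro hx
          calc x * x = h * (h⁻¹ * x * h * (h⁻¹ * x * h)) * h⁻¹ := by group
            _ = h * y * h⁻¹ := by rw [hx])
    replace hc : ∑ x, U.toRepresentation (x * x) = c • 1 :=
      (sum_roots_smul (fun y => U.toRepresentation y)).symm.trans hc
    have hc2 : c * (finrank ℂ U.toSubmodule : ℂ) = ∑ x, U.toRepresentation.character (x * x) := by
      rw [hc', ← sum_roots_smul (fun y => U.toRepresentation.character y)]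
      exact Finset.sum_congr rfl fun y _ => (smul_eq_mul _ _).symm
    have hop : ∀ w : U.toSubmodule,
        (∑ x : G, R (x * x)) (w : G → ℂ) = ((c • w : U.toSubmodule) : G → ℂ) := by
      intro w
      have h0 := congrArg Subtype.val (LinearMap.congr_fun hc w)
      simp only [LinearMap.sum_apply, AddSubmonoidClass.coe_finsetSum] at h0 ⊢
      exact h0
    let w0 : U.toSubmodule := ⟨R m u - u,
      U.toSubmodule.sub_mem (U.apply_mem_toSubmodule m hu) hu⟩
    rw [Module.End.mul_apply, LinearMap.sub_apply, Module.End.one_apply]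
    refine (hop w0).trans ?_
    by_cases hz : c = 0
    · simp [hz]
    · have hne : ∑ x, U.toRepresentation.character (x * x) ≠ 0 := by
        rw [← hc2]
        exact mul_ne_zero hz (Nat.cast_ne_zero.mpr
          (CfsgLib.Char.finrank_pos_of_irreducible U.toRepresentation).ne')
      let σ := CfsgLib.Char.transport U.toRepresentation (Module.finBasis ℂ U.toSubmodule).equivFun
      have hσ : σ.IsIrreducible :=
        CfsgLib.Char.isIrreducible_of_equiv (CfsgLib.Char.transportEquiv _ _)
      have h1 := hm _ σ hσ fun y => by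
        rw [CfsgLib.Char.transport_character]
        exact im_eq_zero_of_sum_sq_ne_zero U.toRepresentation hne y
      have h2 : U.toRepresentation m = 1 := by
        apply (Module.finBasis ℂ U.toSubmodule).equivFun.conj.injective
        change σ m = _
        rw [h1]
        exact (LinearEquiv.conj_id _).symm
      have h3 : w0 = 0 := by
        apply Subtype.ext
        have := congrArg Subtype.val (LinearMap.congr_fun h2 ⟨u, hu⟩)
        simp only [w0, ZeroMemClass.coe_zero, sub_eq_zero]
        exact this
      simp [h3]
  have h := congrFun (LinearMap.congr_fun hT (Pi.single 1 1)) (g * m)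
  simp only [Module.End.mul_apply, LinearMap.sub_apply, Module.End.one_apply, map_sub,
    LinearMap.sum_apply, Pi.sub_apply, Finset.sum_apply, LinearMap.zero_apply, Pi.zero_apply,
    R, regRep, MonoidHom.coe_mk, OneHom.coe_mk, LinearMap.funLeft_apply, sub_eq_zero,
    Pi.single_apply] at h
  have e1 : ∀ x : G, m⁻¹ * ((x * x)⁻¹ * (g * m)) = 1 ↔ x * x = g * m * m⁻¹ := fun x => by
    constructor
    · intro hx
      have := congrArg (fun z => x * x * (m * z)) hx
      simp only [← mul_assoc, mul_inv_cancel, one_mul, mul_one] at this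
      rw [mul_inv_cancel_right, eq_comm]
      exact mul_right_cancel this
    · intro hx; rw [hx]; group
  have e2 : ∀ x : G, (x * x)⁻¹ * (g * m) = 1 ↔ x * x = g * m := fun x => inv_mul_eq_one
  simp only [e1, e2, mul_inv_cancel_right, Finset.sum_boole, Nat.cast_inj] at h
  rw [Nat.card_eq_fintype_card, Nat.card_eq_fintype_card, Fintype.card_subtype,
    Fintype.card_subtype]
  exact h.symm

end CfsgLib.RealChar
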