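import Cfsg.Agent.Lib.Char.Integral
import Cfsg.Agent.Lib.RealChar.OrbitSum
import Mathlib.RepresentationTheory.Maschke
import Mathlib.RepresentationTheory.Invariants
import Mathlib.GroupTheory.Commutator.Basic

/-!
# Fixed vectors of normal subgroups in irreducible representations of degree prime to `p`
-/

namespace CfsgLib.RealChar

open Module

variable {G : Type*} [Group G] {V : Type*} [AddCommGroup V] [Module ℂ V]

/-- A normal subgroup fixing a nonzero vector of an irreducible representation acts trivially. -/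
theorem apply_eq_one_of_fixed_vector (ρ : Representation ℂ G V) [ρ.IsIrreducible]
    (M : Subgroup G) [hM : M.Normal] {v : V} (hv : v ≠ 0) (hfix : ∀ m ∈ M, ρ m v = v) :
    ∀ m ∈ M, ρ m = 1 := by
  let W : Subrepresentation ρ :=
    { toSubmodule :=
        { carrier := {w | ∀ m ∈ M, ρ m w = w}
          zero_mem' := fun m _ => map_zero _
          add_mem' := fun {a b} ha hb m hm => by rw [map_add, ha m hm, hb m hm]
          smul_mem' := fun c a ha m hm => by rw [map_smul, ha m hm] }
      apply_mem_toSubmodule := fun g w hw m hm => by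
        change ρ m (ρ g w) = ρ g w
        have h1 := hw (g⁻¹ * m * g) (by simpa using hM.conj_mem m hm g⁻¹)
        calc ρ m (ρ g w) = ρ (g * (g⁻¹ * m * g)) w := by
              rw [← Module.End.mul_apply, ← map_mul]; congr 2; group
          _ = ρ g w := by rw [map_mul, Module.End.mul_apply, h1] }
  have hvW : v ∈ W.toSubmodule := hfix
  rcases IsSimpleOrder.eq_bot_or_eq_top W with h | h
  · rw [h] at hvW
    exact absurd ((Submodule.mem_bot ℂ).mp hvW) hv
  · intro m hm
    ext w
    have : w ∈ W.toSubmodule := by rw [h]; exact Submodule.mem_top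
    exact this m hm

variable [FiniteDimensional ℂ V]

/-- A representation of a `p`-group of degree prime to `p` has a common eigenvector. -/
theorem exists_eigenvector_of_not_dvd {P : Type*} [Group P] [Finite P] {p : ℕ} [Fact p.Prime]
    (hP : IsPGroup p P) :
    ∀ (n : ℕ) {V : Type*} [AddCommGroup V] [Module ℂ V] [FiniteDimensional ℂ V]
      (σ : Representation ℂ P V), finrank ℂ V = n → ¬ p ∣ n →
      ∃ v : V, v ≠ 0 ∧ ∀ x : P, ∃ c : ℂ, σ x v = c • v := by
  intro n
  induction n using Nat.strong_induction_on with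
  | _ n ih =>
    intro V _ _ _ σ hn hp
    have hn0 : n ≠ 0 := by rintro rfl; exact hp (dvd_zero p)
    by_cases hirr : σ.IsIrreducible
    · have hdvd := CfsgLib.Char.finrank_dvd_card σ
      obtain ⟨k, hk⟩ := IsPGroup.iff_card.mp hP
      rw [hk, hn] at hdvd
      obtain ⟨i, -, hi⟩ := (Nat.dvd_prime_pow Fact.out).mp hdvd
      have hi0 : i = 0 := by
        by_contra h
        exact hp (hi ▸ dvd_pow_self p h)
      rw [hi0, pow_zero] at hi
      rw [hi] at hn
      obtain ⟨v, hv, hspan⟩ := finrank_eq_one_iff'.mp hn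
      exact ⟨v, hv, fun x => (hspan (σ x v)).imp fun c hc => hc.symm⟩
    · haveI : Nontrivial V := Module.finrank_pos_iff.mp (show 0 < finrank ℂ V by omega)
      haveI : Nontrivial (Subrepresentation σ) :=
        ⟨⊥, ⊤, fun h => bot_ne_top (α := Submodule ℂ V) (congrArg Subrepresentation.toSubmodule h)⟩
      haveI : NeZero (Nat.card P : ℂ) := ⟨Nat.cast_ne_zero.mpr Nat.card_pos.ne'⟩
      have hW : ∃ W : Subrepresentation σ, W ≠ ⊥ ∧ W ≠ ⊤ := by
        by_contra hcon
        push Not at hcon
        exact hirr ⟨fun W => (em (W = ⊥)).imp_right (hcon W)⟩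
      obtain ⟨W, hW0, hW1⟩ := hW
      obtain ⟨W', hW'⟩ := exists_isCompl W
      have hcompl : IsCompl W.toSubmodule W'.toSubmodule :=
        ⟨disjoint_iff.mpr (congrArg Subrepresentation.toSubmodule hW'.inf_eq_bot),
          codisjoint_iff.mpr (congrArg Subrepresentation.toSubmodule hW'.sup_eq_top)⟩
      have hsum := Submodule.finrank_add_eq_of_isCompl hcompl
      have hWpos : 0 < finrank ℂ W.toSubmodule := by
        rw [Nat.pos_iff_ne_zero]
        intro h
        exact hW0 (Subrepresentation.toSubmodule_injective (Submodule.finrank_eq_zero.mp h))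
      have hWlt : finrank ℂ W.toSubmodule < n := by
        rw [← hn]
        exact Submodule.finrank_lt (fun h => hW1 (Subrepresentation.toSubmodule_injective h))
      have key : ∀ U : Subrepresentation σ, finrank ℂ U.toSubmodule < n →
          ¬ p ∣ finrank ℂ U.toSubmodule →
          ∃ v : V, v ≠ 0 ∧ ∀ x : P, ∃ c : ℂ, σ x v = c • v := by
        intro U hU hpU
        obtain ⟨v, hv, hvc⟩ := ih _ hU U.toRepresentation rfl hpU
        refine ⟨(v : V), fun h => hv (Subtype.ext h), fun x => ?_⟩
        obtain ⟨c, hc⟩ := hvc x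
        exact ⟨c, congrArg Subtype.val hc⟩
      by_cases hpW : p ∣ finrank ℂ W.toSubmodule
      · refine key W' (by omega) fun h => hp ?_
        rw [← hn, ← hsum]
        exact dvd_add hpW h
      · exact key W hWlt hpW

/-- An irreducible representation of degree prime to `p` is trivial on every normal subgroup
contained in the derived group of a `p`-subgroup. -/
theorem apply_eq_one_of_le_commutator [Finite G] {p : ℕ} [Fact p.Prime] (ρ : Representation ℂ G V)
    [ρ.IsIrreducible] (hdeg : ¬ p ∣ finrank ℂ V) (P M : Subgroup G) [M.Normal]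
    (hP : IsPGroup p P) (hMP : M ≤ ⁅P, P⁆) : ∀ m ∈ M, ρ m = 1 := by
  obtain ⟨v, hv, hvc⟩ := exists_eigenvector_of_not_dvd hP _ (ρ.comp P.subtype) rfl hdeg
  choose c hc using hvc
  have hfix : ∀ x ∈ ⁅P, P⁆, ρ x v = v := by
    let S : Subgroup G :=
      { carrier := {g | ρ g v = v}
        one_mem' := by simp
        mul_mem' := fun {a b} ha hb => by
          change ρ (a * b) v = v
          rw [map_mul, Module.End.mul_apply, hb, ha]
        inv_mem' := fun {a} ha => by
          change ρ a⁻¹ v = v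
          conv_lhs => rw [← ha]
          rw [Representation.inv_self_apply] }
    have : ⁅P, P⁆ ≤ S := Subgroup.commutator_le.mpr fun a ha b hb => by
      change ρ (a * b * a⁻¹ * b⁻¹) v = v
      have ea : ρ a v = c ⟨a, ha⟩ • v := hc ⟨a, ha⟩
      have eb : ρ b v = c ⟨b, hb⟩ • v := hc ⟨b, hb⟩
      have ea' : ρ a⁻¹ v = c ⟨a⁻¹, P.inv_mem ha⟩ • v := hc ⟨a⁻¹, P.inv_mem ha⟩
      have eb' : ρ b⁻¹ v = c ⟨b⁻¹, P.inv_mem hb⟩ • v := hc ⟨b⁻¹, P.inv_mem hb⟩
      have ea2 : c ⟨a, ha⟩ * c ⟨a⁻¹, P.inv_mem ha⟩ = 1 := by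
        apply smul_left_injective ℂ hv
        dsimp only
        rw [one_smul, mul_smul, smul_comm, ← ea, ← map_smul (ρ a), ← ea',
          Representation.self_inv_apply]
      have eb2 : c ⟨b, hb⟩ * c ⟨b⁻¹, P.inv_mem hb⟩ = 1 := by
        apply smul_left_injective ℂ hv
        dsimp only
        rw [one_smul, mul_smul, smul_comm, ← eb, ← map_smul (ρ b), ← eb',
          Representation.self_inv_apply]
      simp only [map_mul, Module.End.mul_apply, eb', map_smul, ea', eb, ea, smul_smul]
      rw [show c ⟨b⁻¹, P.inv_mem hb⟩ * (c ⟨a⁻¹, P.inv_mem ha⟩ * (c ⟨b, hb⟩ * c ⟨a, ha⟩)) =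
        (c ⟨a, ha⟩ * c ⟨a⁻¹, P.inv_mem ha⟩) * (c ⟨b, hb⟩ * c ⟨b⁻¹, P.inv_mem hb⟩) by ring,
        ea2, eb2, one_mul, one_smul]
    exact fun x hx => this hx
  exact apply_eq_one_of_fixed_vector ρ M hv fun m hm => hfix m (hMP hm)

/-- An irreducible representation of degree prime to `p` is trivial on every normal subgroup
acted on without nontrivial fixed points by a `p`-subgroup. -/
theorem apply_eq_one_of_fixedPointFree [Finite G] {p : ℕ} [Fact p.Prime]
    (ρ : Representation ℂ G V) [ρ.IsIrreducible] (hdeg : ¬ p ∣ finrank ℂ V)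
    (M R : Subgroup G) [hM : M.Normal] (hR : IsPGroup p R)
    (hfree : ∀ m ∈ M, (∀ r ∈ R, r * m * r⁻¹ = m) → m = 1) : ∀ m ∈ M, ρ m = 1 := by
  classical
  haveI := Fintype.ofFinite G
  letI act : MulAction R M :=
    { smul := fun r m => ⟨(r : G) * m * (r : G)⁻¹, hM.conj_mem _ m.2 _⟩
      one_smul := fun m => Subtype.ext (by change (1 : G) * m * (1 : G)⁻¹ = m; simp)
      mul_smul := fun r s m => Subtype.ext (by
        change ((r : G) * s) * m * ((r : G) * s)⁻¹ = r * ((s : G) * m * (s : G)⁻¹) * (r : G)⁻¹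
        group) }
  let a : M → integralClosure ℤ ℂ := fun m =>
    ⟨ρ.character m, CfsgLib.Char.isIntegral_character ρ m⟩
  have hinv : ∀ (r : R) (m : M), a (r • m) = a m := fun r m =>
    Subtype.ext (ρ.char_conj (m : G) (r : G))
  have hfix : ∀ m ∈ MulAction.fixedPoints R M, m = (1 : M) := fun m hm =>
    Subtype.ext (hfree m m.2 fun r hr => congrArg Subtype.val (hm ⟨r, hr⟩))
  have h1 : (1 : M) ∈ MulAction.fixedPoints R M := fun r =>
    Subtype.ext (by change (r : G) * (1 : G) * (r : G)⁻¹ = 1; simp)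
  have hdvd := dvd_sum_sub_sum_fixed (p := p) hR a hinv
  have hsum1 : ∑ m : MulAction.fixedPoints R M, a m = a 1 := by
    rw [Fintype.sum_eq_single (⟨1, h1⟩ : MulAction.fixedPoints R M)]
    intro m hm
    exact absurd (Subtype.ext (hfix m m.2)) hm
  rw [hsum1] at hdvd
  obtain ⟨z, hz⟩ := hdvd
  let σ : Representation ℂ M V := ρ.comp M.subtype
  haveI : Invertible (Nat.card M : ℂ) :=
    invertibleOfNonzero (Nat.cast_ne_zero.mpr Nat.card_pos.ne')
  have havg := σ.card_inv_mul_sum_char_eq_finrank
  have hσ : ∀ m : M, σ.character m = ρ.character m := fun m => rfl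
  simp only [hσ] at havg
  by_cases h0 : finrank ℂ σ.invariants = 0
  · exfalso
    rw [h0, Nat.cast_zero, mul_eq_zero, inv_eq_zero] at havg
    have hs : ∑ m : M, ρ.character m = 0 :=
      havg.resolve_left (Nat.cast_ne_zero.mpr Nat.card_pos.ne')
    have hzc := congrArg Subtype.val hz
    simp only [AddSubgroupClass.coe_sub, AddSubmonoidClass.coe_finsetSum, MulMemClass.coe_mul,
      SubringClass.coe_natCast] at hzc
    simp only [a, hs, zero_sub, OneMemClass.coe_one, Representation.char_one] at hzc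
    have hint : IsIntegral ℤ (-(z : ℂ)) := (z.2 : IsIntegral ℤ (z : ℂ)).neg
    have := int_dvd_of_eq_mul_integral (Fact.out : p.Prime).ne_zero
      (n := (finrank ℂ V : ℤ)) hint
      (by push_cast; linear_combination -hzc)
    exact hdeg (by exact_mod_cast this)
  · have hne : σ.invariants ≠ ⊥ := fun h => h0 (by rw [h, finrank_bot])
    obtain ⟨v, hv, hv0⟩ := Submodule.exists_mem_ne_zero_of_ne_bot hne
    exact apply_eq_one_of_fixed_vector ρ M hv0 fun m hm => hv ⟨m, hm⟩

end CfsgLib.RealChar
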