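import Mathlib.GroupTheory.OrderOfElement
import Mathlib.GroupTheory.Subgroup.Centralizer
import Mathlib.SetTheory.Cardinal.Finite
import Mathlib.Algebra.Group.Commute.Basic
import Mathlib.Tactic

/-!
# Counting square roots and centralizing
-/

namespace CfsgLib.RealChar

variable {G : Type*} [Group G]

/-- If `m` has odd order and commutes with the element `s` of `2`-power order, then an element
whose square is `s * m` commutes with `m`. -/
theorem commute_of_mul_self_eq_mul {s m x : G} (hm : Odd (orderOf m)) (hsm : Commute s m)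
    {j : ℕ} (hs : s ^ (2 ^ j) = 1) (hx : x * x = s * m) : Commute x m := by
  have h1 : Commute x (m ^ (2 ^ j)) := by
    have h2 : Commute x (x * x) := (Commute.refl x).mul_right (Commute.refl x)
    rw [hx] at h2
    have h3 := h2.pow_right (2 ^ j)
    rwa [hsm.mul_pow, hs, one_mul] at h3
  have hco : Nat.Coprime (2 ^ j) (orderOf m) := (Nat.coprime_two_left.mpr hm).pow_left j
  obtain ⟨k, hk⟩ := exists_pow_eq_self_of_coprime hco
  simpa [hk] using h1.pow_right k

/-- If `s * m` has as many square roots as `s`, with `m` of odd order commuting with the element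
`s` of `2`-power order, then every square root of `s` commutes with `m`. -/
theorem commute_of_card_roots_eq [Finite G] {s m : G} (hm : Odd (orderOf m)) (hsm : Commute s m)
    {j : ℕ} (hs : s ^ (2 ^ j) = 1)
    (heq : Nat.card {x : G // x * x = s * m} = Nat.card {x : G // x * x = s})
    {t : G} (ht : t * t = s) : Commute t m := by
  obtain ⟨c, hc⟩ := hm
  set r : G := m ^ (c + 1) with hr
  have hrr : r * r = m := by
    rw [hr, ← pow_add, show c + 1 + (c + 1) = orderOf m + 1 by omega, pow_succ,
      pow_orderOf_eq_one, one_mul]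
  have hcomm : ∀ x : G, x * x = s * m → Commute x m := fun x hx =>
    commute_of_mul_self_eq_mul ⟨c, hc⟩ hsm hs hx
  let f : {x : G // x * x = s * m} → {x : G // x * x = s} := fun x => ⟨x.1 * r⁻¹, by
    have h1 : Commute x.1 r := (hcomm x.1 x.2).pow_right (c + 1)
    have h2 := h1.inv_right
    calc x.1 * r⁻¹ * (x.1 * r⁻¹) = x.1 * (r⁻¹ * x.1) * r⁻¹ := by group
      _ = x.1 * (x.1 * r⁻¹) * r⁻¹ := by rw [h2.eq]
      _ = (x.1 * x.1) * (r * r)⁻¹ := by group
      _ = s := by rw [x.2, hrr, mul_inv_cancel_right]⟩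
  have hfinj : Function.Injective f := fun a b h => by
    have := congrArg Subtype.val h
    exact Subtype.ext (mul_right_cancel this)
  have hbij := (Nat.bijective_iff_injective_and_card f).mpr ⟨hfinj, heq⟩
  obtain ⟨x, hx⟩ := hbij.2 ⟨t, ht⟩
  have hxt : x.1 * r⁻¹ = t := congrArg Subtype.val hx
  rw [← hxt]
  exact (hcomm x.1 x.2).mul_left (((Commute.refl m).pow_left (c + 1)).inv_left)

/-- If, for each element `s` of `2`-power order commuting with `m` (of odd order), `s * m` has as
many square roots as `s`, then every element of `2`-power order commutes with `m`. -/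
theorem commute_of_forall_card_roots_eq [Finite G] {m : G} (hm : Odd (orderOf m))
    (heq : ∀ s : G, Commute s m →
      Nat.card {x : G // x * x = s * m} = Nat.card {x : G // x * x = s}) :
    ∀ (j : ℕ) (t : G), t ^ (2 ^ j) = 1 → Commute t m := by
  intro j
  induction j with
  | zero =>
    intro t ht
    rw [pow_zero, pow_one] at ht
    subst ht
    exact Commute.one_left m
  | succ j ih =>
    intro t ht
    have h2 : (t * t) ^ (2 ^ j) = 1 := by
      rw [← pow_two, ← pow_mul, ← pow_succ', ht]
    have hc := ih (t * t) h2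
    exact commute_of_card_roots_eq hm hc h2 (heq _ hc) rfl

/-- In a semidirect product whose normal factor `M` is elementary abelian of exponent two, a
non-identity element of `M` has strictly fewer square roots than the identity. -/
theorem card_roots_lt_of_complement [Finite G] (M H : Subgroup G) [hM : M.Normal]
    (hMH : ∀ g : G, ∃ m ∈ M, ∃ h ∈ H, g = m * h) (hinf : M ⊓ H = ⊥)
    (hab : ∀ a ∈ M, ∀ b ∈ M, Commute a b) (hexp : ∀ a ∈ M, a * a = 1)
    {a : G} (ha : a ∈ M) (ha1 : a ≠ 1) :
    Nat.card {x : G // x * x = a} < Nat.card {x : G // x * x = 1} := by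
  classical
  -- decomposition
  choose mc hmc hc hhc hdec using hMH
  have huniq : ∀ m ∈ M, ∀ h ∈ H, ∀ m' ∈ M, ∀ h' ∈ H, m * h = m' * h' → m = m' ∧ h = h' := by
    intro m hm h hh m' hm' h' hh' e
    have h1 : m'⁻¹ * m = h' * h⁻¹ := by
      rw [eq_mul_inv_iff_mul_eq, mul_assoc, e, inv_mul_cancel_left]
    have h2 : m'⁻¹ * m ∈ M ⊓ H :=
      ⟨M.mul_mem (M.inv_mem hm') hm, h1 ▸ H.mul_mem hh' (H.inv_mem hh)⟩
    rw [hinf, Subgroup.mem_bot, inv_mul_eq_one] at h2
    subst h2
    exact ⟨rfl, mul_left_cancel e⟩
  -- the `H`-part of a square root of an element of `M` is an involution or trivial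
  have hsq : ∀ x : G, x * x ∈ M → hc x * hc x = 1 := by
    intro x hx
    have e : x * x = (mc x * (hc x * mc x * (hc x)⁻¹)) * (hc x * hc x) := by
      conv_lhs => rw [hdec x]
      group
    have hmem : mc x * (hc x * mc x * (hc x)⁻¹) ∈ M :=
      M.mul_mem (hmc x) (hM.conj_mem _ (hmc x) _)
    have h2 : x * x = (x * x) * 1 := (mul_one _).symm
    exact (huniq _ hmem _ (H.mul_mem (hhc x) (hhc x)) _ hx _ H.one_mem (e.symm.trans h2)).2
  have hval : ∀ x : G, x * x ∈ M → x * x = mc x * (hc x * mc x * (hc x)⁻¹) := by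
    intro x hx
    conv_lhs => rw [hdec x]
    have := hsq x hx
    calc mc x * hc x * (mc x * hc x)
        = (mc x * (hc x * mc x * (hc x)⁻¹)) * (hc x * hc x) := by group
      _ = _ := by rw [this, mul_one]
  -- choose, for each `h`, a base root
  let base : G → G := fun h => if hx : ∃ x : G, x * x = a ∧ hc x = h then mc hx.choose else 1
  have hbaseM : ∀ h, base h ∈ M := by
    intro h
    simp only [base]
    split_ifs
    · exact hmc _
    · exact M.one_mem
  have hbase : ∀ x : G, x * x = a →
      base (hc x) * (hc x * base (hc x) * (hc x)⁻¹) = a := by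
    intro x hx
    have hex : ∃ y : G, y * y = a ∧ hc y = hc x := ⟨x, hx, rfl⟩
    simp only [base, dif_pos hex]
    obtain ⟨hy, hy'⟩ := hex.choose_spec
    have := hval hex.choose (by rw [hy]; exact ha)
    rw [hy, hy'] at this
    exact this.symm
  let f : {x : G // x * x = a} → {x : G // x * x = 1} := fun x =>
    ⟨(mc x.1 * base (hc x.1)) * hc x.1, by
      set u := mc x.1
      set v := base (hc x.1)
      set h := hc x.1
      have hh : h * h = 1 := hsq x.1 (by rw [x.2]; exact ha)
      have h1 : u * (h * u * h⁻¹) = a := (hval x.1 (by rw [x.2]; exact ha)).symm.trans x.2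
      have h2 : v * (h * v * h⁻¹) = a := hbase x.1 x.2
      have huM : u ∈ M := hmc _
      have hvM : v ∈ M := hbaseM _
      calc u * v * h * (u * v * h)
          = u * (v * (h * u * h⁻¹)) * (h * v * h⁻¹) * (h * h) := by group
        _ = u * ((h * u * h⁻¹) * v) * (h * v * h⁻¹) * (h * h) := by
            rw [(hab _ hvM _ (hM.conj_mem _ huM h)).eq]
        _ = (u * (h * u * h⁻¹)) * (v * (h * v * h⁻¹)) * (h * h) := by group
        _ = 1 := by rw [h1, h2, hh, mul_one, hexp a ha]⟩
  have hfH : ∀ x : {x : G // x * x = a}, hc (f x).1 = hc x.1 := fun x =>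
    (huniq _ (hmc _) _ (hhc _) _ (M.mul_mem (hmc x.1) (hbaseM _)) _ (hhc x.1)
      (hdec (f x).1).symm).2
  have hfinj : Function.Injective f := by
    intro x y hxy
    have he : hc x.1 = hc y.1 := by rw [← hfH x, ← hfH y, hxy]
    have h1 : mc x.1 * base (hc x.1) * hc x.1 = mc y.1 * base (hc y.1) * hc y.1 :=
      congrArg Subtype.val hxy
    rw [he] at h1
    have h2 := mul_right_cancel (mul_right_cancel h1)
    apply Subtype.ext
    rw [hdec x.1, hdec y.1, h2, he]
  have hns : ¬ Function.Surjective f := by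
    intro hs
    obtain ⟨x, hx⟩ := hs ⟨1, one_mul 1⟩
    have h1 : hc (1 : G) = 1 :=
      (huniq _ (hmc _) _ (hhc _) _ M.one_mem _ H.one_mem ((hdec 1).symm.trans (one_mul 1).symm)).2
    have h2 : hc x.1 = 1 := by rw [← hfH x, hx, h1]
    have h3 := hval x.1 (by rw [x.2]; exact ha)
    rw [x.2, h2, one_mul, inv_one, mul_one, hexp _ (hmc _)] at h3
    exact ha1 h3
  rcases lt_or_eq_of_le (Nat.card_le_card_of_injective f hfinj) with h | h
  · exact h
  · exact absurd ((Nat.bijective_iff_injective_and_card f).mpr ⟨hfinj, h⟩).2 hns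

end CfsgLib.RealChar
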