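import Cfsg.Prelude.Def_Blocks
import Cfsg.Agent.Lib.RealChar.RootCount
import Cfsg.Agent.Lib.RealChar.FS
import Cfsg.Agent.Lib.RealChar.FixedVectors
import Cfsg.Agent.Lib.Solvable.Core

/-!
# Normal Sylow `p`-subgroups when real characters have degree prime to `p`
-/

namespace CfsgLib.RealChar

set_option linter.style.haveILetI false

open Subgroup
open scoped commutatorElement

/-- The subgroup generated by the elements of `p`-power order. -/
abbrev primeClosure (p : ℕ) (G : Type*) [Group G] : Subgroup G :=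
  Subgroup.closure {g : G | ∃ k : ℕ, orderOf g = p ^ k}

theorem primeClosure_normal (p : ℕ) (G : Type*) [Group G] : (primeClosure p G).Normal := by
  refine ⟨fun x hx g => ?_⟩
  have h : (primeClosure p G).map (MulAut.conj g).toMonoidHom ≤ primeClosure p G := by
    rw [MonoidHom.map_closure, Subgroup.closure_le]
    rintro _ ⟨y, ⟨k, hk⟩, rfl⟩
    exact Subgroup.subset_closure ⟨k, by rw [MulEquiv.coe_toMonoidHom, MulEquiv.orderOf_eq]; exact hk⟩
  exact h ⟨x, hx, rfl⟩

/-- Elements of `p`-power order lift along surjections of finite groups. -/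
theorem exists_lift_orderOf_eq_pow {G H : Type*} [Group G] [Finite G] [Group H] (f : G →* H)
    (hf : Function.Surjective f) {p : ℕ} (hp : p.Prime) {y : H} {k : ℕ}
    (hy : orderOf y = p ^ k) : ∃ x : G, f x = y ∧ ∃ j : ℕ, orderOf x = p ^ j := by
  obtain ⟨g, rfl⟩ := hf y
  set a := (orderOf g).factorization p with ha
  set b := orderOf g / p ^ a with hb
  have hn : p ^ a * b = orderOf g := Nat.ordProj_mul_ordCompl_eq_self _ _
  have hcop : Nat.Coprime (p ^ a) b :=
    (Nat.coprime_ordCompl hp (orderOf_pos g).ne').pow_left a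
  obtain ⟨r, hr1, hr2⟩ := Nat.chineseRemainder hcop 1 0
  have hord : (g ^ r) ^ (p ^ a) = 1 := by
    rw [← pow_mul, ← orderOf_dvd_iff_pow_eq_one, ← hn, mul_comm r]
    exact Nat.mul_dvd_mul_left _ (Nat.modEq_zero_iff_dvd.mp hr2)
  obtain ⟨j, -, hj⟩ := (Nat.dvd_prime_pow hp).mp (orderOf_dvd_of_pow_eq_one hord)
  refine ⟨g ^ r, ?_, j, hj⟩
  rw [map_pow]
  conv_rhs => rw [← pow_one (f g)]
  rw [pow_eq_pow_iff_modEq, hy]
  refine hr1.of_dvd ?_
  have h1 : p ^ k ∣ orderOf g := hy ▸ orderOf_map_dvd f g
  exact pow_dvd_pow _ ((hp.pow_dvd_iff_le_factorization (orderOf_pos g).ne').mp h1)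

theorem map_primeClosure {G H : Type*} [Group G] [Finite G] [Group H] (f : G →* H)
    (hf : Function.Surjective f) {p : ℕ} (hp : p.Prime) :
    (primeClosure p G).map f = primeClosure p H := by
  refine le_antisymm ?_ ?_
  · rw [MonoidHom.map_closure, Subgroup.closure_le]
    rintro _ ⟨g, ⟨k, hk⟩, rfl⟩
    obtain ⟨j, -, hj⟩ := (Nat.dvd_prime_pow hp).mp (hk ▸ orderOf_map_dvd f g)
    exact Subgroup.subset_closure ⟨j, hj⟩
  · rw [Subgroup.closure_le]
    rintro y ⟨k, hk⟩
    obtain ⟨x, hx, j, hj⟩ := exists_lift_orderOf_eq_pow f hf hp hk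
    exact ⟨x, Subgroup.subset_closure ⟨j, hj⟩, hx⟩

/-- Real-valued irreducible characters have degree prime to `p`. -/
def RealDegreesCoprime (p : ℕ) (G : Type*) [Group G] : Prop :=
  ∀ χ : Cfsg.IrrCharacter G, (∀ g : G, ((χ : G → ℂ) g).im = 0) →
    ¬ p ∣ Cfsg.charDegree (χ : G → ℂ)

theorem RealDegreesCoprime.of_surjective {p : ℕ} {G H : Type*} [Group G] [Group H]
    (h : RealDegreesCoprime p G) (f : G →* H) (hf : Function.Surjective f) :
    RealDegreesCoprime p H := by
  rintro ⟨χ, n, ρ, hρ, rfl⟩ hr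
  haveI := hρ
  have hirr : Representation.IsIrreducible (ρ.comp f : Representation ℂ G (Fin n → ℂ)) := by
    haveI := CfsgLib.CharKernel.nontrivial_of_irreducible ρ
    refine CfsgLib.CharKernel.isIrreducible_of_forall _ fun W hW => ?_
    refine CfsgLib.CharKernel.eq_bot_or_eq_top ρ W fun y v hv => ?_
    obtain ⟨g, rfl⟩ := hf y
    exact hW g v hv
  have := h ⟨Representation.character (ρ.comp f), n, ρ.comp f, hirr, rfl⟩ fun g => hr (f g)
  simpa [Cfsg.charDegree] using this

theorem real_apply_eq_one {G : Type*} [Group G] [Finite G] {p : ℕ} [Fact p.Prime]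
    (hreal : RealDegreesCoprime p G) (M R : Subgroup G) [M.Normal] (hR : IsPGroup p R)
    (hfree : ∀ m ∈ M, (∀ r ∈ R, r * m * r⁻¹ = m) → m = 1) {m : G} (hm : m ∈ M)
    (n : ℕ) (ρ : Representation ℂ G (Fin n → ℂ)) (hρ : ρ.IsIrreducible)
    (hr : ∀ g, (ρ.character g).im = 0) : ρ m = 1 := by
  haveI := hρ
  have hd := hreal ⟨ρ.character, n, ρ, hρ, rfl⟩ hr
  refine apply_eq_one_of_fixedPointFree (p := p) ρ ?_ M R hR hfree m hm
  simpa [Cfsg.charDegree] using hd

universe u

/-- If real characters have degree prime to `p` and the `p`-elements generate a solvable group,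
then a normal subgroup which is a `p`-extension of the subgroup generated by the `2`-elements has a
normal Sylow `p`-subgroup. -/
theorem exists_normal_sylow {p : ℕ} [hp : Fact p.Prime] : ∀ (N : ℕ) (G : Type u) [Group G] [Finite G],
    Nat.card G = N → Group.IsSolvable (primeClosure p G) → RealDegreesCoprime p G →
    ∀ U : Subgroup G, U.Normal → primeClosure 2 G ≤ U →
      (∃ a : ℕ, (primeClosure 2 G).relIndex U = p ^ a) →
      ∃ Q : Subgroup G, Q.Normal ∧ Q ≤ U ∧ IsPGroup p Q ∧ ¬ p ∣ Q.relIndex U := by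
  intro N
  induction N using Nat.strong_induction_on with
  | _ N ih =>
    intro G _ _ hN hsol hreal U hU hKU hUK
    classical
    haveI := Fintype.ofFinite G
    haveI := hU
    haveI := primeClosure_normal p G
    haveI := primeClosure_normal 2 G
    set K := primeClosure 2 G with hKdef
    set W := primeClosure p G with hWdef
    -- the preimage of a solution in a proper quotient
    have hrec : ∀ (D : Subgroup G) [D.Normal], D ≠ ⊥ → D ≤ U → ∃ L : Subgroup G,
        L.Normal ∧ D ≤ L ∧ L ≤ U ∧ IsPGroup p (L.map (QuotientGroup.mk' D)) ∧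
        ¬ p ∣ L.relIndex U := by
      intro D _ hD hDU
      have hlt : Nat.card (G ⧸ D) < N := by
        rw [← hN, Subgroup.card_eq_card_quotient_mul_card_subgroup D]
        exact lt_mul_of_one_lt_right Nat.card_pos (D.one_lt_card_iff_ne_bot.mpr hD)
      have hsurj := QuotientGroup.mk'_surjective D
      have hK' : primeClosure 2 (G ⧸ D) = K.map (QuotientGroup.mk' D) :=
        (map_primeClosure _ hsurj Nat.prime_two).symm
      have hsol' : Group.IsSolvable (primeClosure p (G ⧸ D)) := by
        rw [← map_primeClosure _ hsurj hp.out]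
        exact solvable_of_surjective ((QuotientGroup.mk' D).subgroupMap_surjective W)
      obtain ⟨Q, hQn, hQU, hQp, hQi⟩ := ih _ hlt (G ⧸ D) rfl hsol'
        (hreal.of_surjective _ hsurj) (U.map (QuotientGroup.mk' D)) (hU.map _ hsurj)
        (by rw [hK']; exact Subgroup.map_mono hKU) (by
          obtain ⟨a, ha⟩ := hUK
          have : (primeClosure 2 (G ⧸ D)).relIndex (U.map (QuotientGroup.mk' D)) ∣ p ^ a := by
            rw [hK', Subgroup.relIndex_map_map, QuotientGroup.ker_mk', sup_of_le_left hDU, ← ha]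
            exact Subgroup.relIndex_dvd_of_le_left _ le_sup_left
          obtain ⟨b, -, hb⟩ := (Nat.dvd_prime_pow hp.out).mp this
          exact ⟨b, hb⟩)
      refine ⟨Q.comap (QuotientGroup.mk' D), hQn.comap _, ?_, ?_, ?_, ?_⟩
      · intro x hx
        rw [Subgroup.mem_comap, QuotientGroup.mk'_apply, (QuotientGroup.eq_one_iff x).mpr hx]
        exact Q.one_mem
      · calc Q.comap (QuotientGroup.mk' D) ≤ (U.map (QuotientGroup.mk' D)).comap _ :=
              Subgroup.comap_mono hQU
          _ = U := by rw [Subgroup.comap_map_eq, QuotientGroup.ker_mk', sup_of_le_left hDU]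
      · rwa [Subgroup.map_comap_eq_self_of_surjective hsurj]
      · rwa [Subgroup.relIndex_comap]
    -- normal `p`-subgroups are easy
    by_cases hD : ∃ D : Subgroup G, D.Normal ∧ D ≠ ⊥ ∧ D ≤ U ∧ IsPGroup p D
    · obtain ⟨D, hDn, hD1, hDU, hDp⟩ := hD
      obtain ⟨L, hLn, hDL, hLU, hLp, hLi⟩ := hrec D hD1 hDU
      refine ⟨L, hLn, hLU, ?_, hLi⟩
      intro x
      obtain ⟨k, hk⟩ := hLp ⟨QuotientGroup.mk' D x, Subgroup.mem_map_of_mem _ x.2⟩
      have hk' : (x : G) ^ p ^ k ∈ D := by
        rw [← QuotientGroup.eq_one_iff]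
        exact congrArg Subtype.val hk
      obtain ⟨j, hj⟩ := hDp ⟨_, hk'⟩
      refine ⟨k + j, Subtype.ext ?_⟩
      rw [pow_add, pow_mul]
      simpa using congrArg Subtype.val hj
    have hnoD : ∀ D : Subgroup G, D.Normal → D ≤ U → IsPGroup p D → D = ⊥ := by
      intro D h1 h2 h3
      by_contra h4
      exact hD ⟨D, h1, h4, h2, h3⟩
    by_cases hpU : p ∣ Nat.card U
    swap
    · refine ⟨⊥, inferInstance, bot_le, IsPGroup.of_bot, ?_⟩
      rwa [Subgroup.relIndex_bot_left]
    -- the intersection with `W` is nontrivial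
    have hKW : K ⊓ W ≠ ⊥ := by
      intro h
      have hker : Function.Injective
          ((QuotientGroup.mk' (K.subgroupOf U)).comp (Subgroup.inclusion
            (inf_le_left : U ⊓ W ≤ U))) := by
        rw [← MonoidHom.ker_eq_bot_iff, eq_bot_iff]
        intro x hx
        rw [MonoidHom.mem_ker, MonoidHom.comp_apply, QuotientGroup.mk'_apply,
          QuotientGroup.eq_one_iff, Subgroup.mem_subgroupOf] at hx
        have : (x : G) ∈ K ⊓ W := ⟨hx, x.2.2⟩
        rw [h, Subgroup.mem_bot] at this
        exact Subtype.ext this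
      obtain ⟨a, ha⟩ := hUK
      have hUWp : IsPGroup p (U ⊓ W : Subgroup G) :=
        (IsPGroup.of_card (G := U ⧸ K.subgroupOf U) (n := a) ha).of_injective _ hker
      have hUW := hnoD (U ⊓ W) inferInstance inf_le_left hUWp
      obtain ⟨x, hx⟩ := exists_prime_orderOf_dvd_card' p hpU
      have hxUW : (x : G) ∈ U ⊓ W :=
        ⟨x.2, Subgroup.subset_closure ⟨1, by rw [Subgroup.orderOf_coe, hx, pow_one]⟩⟩
      rw [hUW, Subgroup.mem_bot] at hxUW
      have : orderOf x = 1 := orderOf_eq_one_iff.mpr (Subtype.ext hxUW)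
      exact hp.out.ne_one (hx ▸ this)
    obtain ⟨M, hMn, hM1, hMKW, hMmin⟩ := CfsgLib.Solvable.exists_minimal_normal_le (K ⊓ W) hKW
    haveI := hMn
    have hMW : M ≤ W := hMKW.trans inf_le_right
    have hMK : M ≤ K := hMKW.trans inf_le_left
    have hMU : M ≤ U := hMK.trans hKU
    -- `M` is elementary abelian
    have hMab : ∀ a ∈ M, ∀ b ∈ M, Commute a b := by
      haveI : Group.IsSolvable (M.subgroupOf W) := inferInstance
      haveI : Group.IsSolvable M :=
        solvable_of_solvable_injective (f := (Subgroup.subgroupOfEquivOfLe hMW).symm.toMonoidHom)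
          (MulEquiv.injective _)
      haveI : Nontrivial M := (Subgroup.nontrivial_iff_ne_bot M).mpr hM1
      have hlt : commutator M < ⊤ := IsSolvable.commutator_lt_top_of_nontrivial M
      rcases hMmin ((commutator M).map M.subtype) inferInstance (Subgroup.map_subtype_le _) with
        h | h
      · intro a ha b hb
        have hmem : ⁅(⟨a, ha⟩ : M), ⟨b, hb⟩⁆ ∈ commutator M :=
          Subgroup.commutator_mem_commutator (Subgroup.mem_top _) (Subgroup.mem_top _)
        rw [(Subgroup.map_eq_bot_iff_of_injective _ M.subtype_injective).mp h,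
          Subgroup.mem_bot] at hmem
        exact congrArg Subtype.val (commutatorElement_eq_one_iff_mul_comm.mp hmem)
      · exfalso
        apply hlt.ne
        refine eq_top_iff.mpr fun x _ => ?_
        have hx : (x : G) ∈ (commutator M).map M.subtype := by rw [h]; exact x.2
        obtain ⟨y, hy, hyx⟩ := hx
        exact Subtype.ext hyx ▸ hy
    obtain ⟨q, hq, hqd⟩ := Nat.exists_prime_and_dvd
      (n := Nat.card M) (fun h => hM1 (Subgroup.card_eq_one.1 h))
    have hMexp : ∀ a ∈ M, a ^ q = 1 := by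
      let Ω : Subgroup G :=
        { carrier := {y | y ∈ M ∧ y ^ q = 1}
          one_mem' := ⟨M.one_mem, one_pow _⟩
          mul_mem' := fun {a b} ha hb => ⟨M.mul_mem ha.1 hb.1, by
            rw [(hMab a ha.1 b hb.1).mul_pow, ha.2, hb.2, one_mul]⟩
          inv_mem' := fun {a} ha => ⟨M.inv_mem ha.1, by rw [inv_pow, ha.2, inv_one]⟩ }
      have hΩ : Ω.Normal := ⟨fun y hy g => ⟨hMn.conj_mem y hy.1 g, by
        rw [conj_pow, hy.2, mul_one, mul_inv_cancel]⟩⟩
      have hΩM : Ω = M := by
        refine (hMmin Ω hΩ fun y hy => hy.1).resolve_left fun hb => ?_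
        haveI : Fact q.Prime := ⟨hq⟩
        obtain ⟨x, hx⟩ := exists_prime_orderOf_dvd_card' q hqd
        have hx' : (x : G) ∈ Ω :=
          ⟨x.2, by rw [← hx, ← Subgroup.orderOf_coe, pow_orderOf_eq_one]⟩
        rw [hb, Subgroup.mem_bot] at hx'
        exact hq.ne_one (hx ▸ orderOf_eq_one_iff.mpr (Subtype.ext hx'))
      intro a ha
      rw [← hΩM] at ha
      exact ha.2
    have hqp : q ≠ p := by
      rintro rfl
      refine hM1 (hnoD M hMn hMU fun x => ⟨1, ?_⟩)
      rw [pow_one]
      exact Subtype.ext (hMexp x x.2)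
    have hMpow : ∀ (k : ℕ) (m : G), m ∈ M → m ^ p ^ k = 1 → m = 1 := by
      intro k m hm h
      have h1 : orderOf m ∣ Nat.gcd (p ^ k) q :=
        Nat.dvd_gcd (orderOf_dvd_of_pow_eq_one h) (orderOf_dvd_of_pow_eq_one (hMexp m hm))
      rw [((Nat.coprime_primes hp.out hq).mpr (Ne.symm hqp)).pow_left k, Nat.dvd_one] at h1
      exact orderOf_eq_one_iff.mp h1
    obtain ⟨L, hLn, hML, hLU, hLp, hLi⟩ := hrec M hM1 hMU
    haveI := hLn
    obtain ⟨R⟩ : Nonempty (Sylow p L) := inferInstance
    set R₁ : Subgroup G := (R : Subgroup L).map L.subtype with hR₁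
    have hR₁p : IsPGroup p R₁ := R.isPGroup'.map _
    have hR₁L : R₁ ≤ L := Subgroup.map_subtype_le _
    have hMR : M ⊓ R₁ = ⊥ := by
      rw [eq_bot_iff]
      rintro x ⟨hxM, hxR⟩
      obtain ⟨k, hk⟩ := hR₁p ⟨x, hxR⟩
      exact Subgroup.mem_bot.mpr (hMpow k x hxM (congrArg Subtype.val hk))
    have hsup : L = M ⊔ R₁ := by
      refine le_antisymm ?_ (sup_le hML hR₁L)
      have hdvd : (M ⊔ R₁).relIndex L ∣ M.relIndex L :=
        Subgroup.relIndex_dvd_of_le_left _ le_sup_left
      have hp' : (M ⊔ R₁).relIndex L ∣ R₁.relIndex L :=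
        Subgroup.relIndex_dvd_of_le_left _ le_sup_right
      have hM' : M.relIndex L = Nat.card (L.map (QuotientGroup.mk' M)) := by
        rw [← Subgroup.relIndex_bot_left, ← Subgroup.map_bot (QuotientGroup.mk' M),
          Subgroup.relIndex_map_map, QuotientGroup.ker_mk', bot_sup_eq, sup_of_le_left hML]
      have hR' : ¬ p ∣ R₁.relIndex L := by
        have : R₁.relIndex L = (R : Subgroup L).index := by
          rw [Subgroup.relIndex, hR₁, Subgroup.subgroupOf,
            Subgroup.comap_map_eq_self_of_injective L.subtype_injective]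
        rw [this]
        exact R.not_dvd_index
      obtain ⟨b, hb⟩ := IsPGroup.iff_card.mp hLp
      rw [hM', hb] at hdvd
      obtain ⟨c, -, hc⟩ := (Nat.dvd_prime_pow hp.out).mp hdvd
      rcases c with _ | c
      · rw [pow_zero] at hc
        exact Subgroup.relIndex_eq_one.mp hc
      · exfalso
        refine hR' (dvd_trans ?_ hp')
        rw [hc]
        exact dvd_pow_self p c.succ_ne_zero
    have hfrat : Subgroup.normalizer (R₁ : Set G) ⊔ M = ⊤ := by
      rw [eq_top_iff, ← Sylow.normalizer_sup_eq_top R]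
      refine sup_le le_sup_left ?_
      rw [hsup]
      exact sup_le le_sup_right (le_sup_of_le_left Subgroup.le_normalizer)
    set H := Subgroup.normalizer (R₁ : Set G) with hH
    -- fixed points of `R₁` on `M`
    let C : Subgroup G := M ⊓ Subgroup.centralizer (R₁ : Set G)
    have hCn : C.Normal := by
      refine Subgroup.normalizer_eq_top_iff.mp (eq_top_iff.mpr ?_)
      rw [← hfrat]
      refine sup_le (fun g hg => ?_) (fun g hg => ?_)
      · rw [Subgroup.mem_normalizer_iff]
        intro c
        simp only [C, Subgroup.mem_inf, Subgroup.mem_centralizer_iff, SetLike.mem_coe]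
        constructor
        · rintro ⟨h1, h2⟩
          refine ⟨hMn.conj_mem c h1 g, fun r hr => ?_⟩
          have := h2 (g⁻¹ * r * g) ((Subgroup.mem_normalizer_iff''.mp hg r).mp hr)
          calc r * (g * c * g⁻¹) = g * ((g⁻¹ * r * g) * c) * g⁻¹ := by group
            _ = g * c * g⁻¹ * r := by rw [this]; group
        · rintro ⟨h1, h2⟩
          refine ⟨by simpa [mul_assoc] using hMn.conj_mem _ h1 g⁻¹, fun r hr => ?_⟩
          have := h2 (g * r * g⁻¹) ((Subgroup.mem_normalizer_iff.mp hg r).mp hr)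
          calc r * c = g⁻¹ * ((g * r * g⁻¹) * (g * c * g⁻¹)) * g := by group
            _ = c * r := by rw [this]; group
      · rw [Subgroup.mem_normalizer_iff]
        intro c
        refine ⟨fun hc => ?_, fun hc => ?_⟩
        · have e : g * c * g⁻¹ = c := by rw [(hMab g hg c hc.1).eq, mul_inv_cancel_right]
          rwa [e]
        · have hcM : c ∈ M := by simpa [mul_assoc] using hMn.conj_mem _ hc.1 g⁻¹
          have e : g * c * g⁻¹ = c := by rw [(hMab g hg c hcM).eq, mul_inv_cancel_right]
          rwa [e] at hc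
    have hCbot : C = ⊥ := by
      refine (hMmin C hCn inf_le_left).resolve_right fun h => ?_
      have hMc : M ≤ Subgroup.centralizer (R₁ : Set G) := h ▸ inf_le_right
      have hR₁n : R₁.Normal := by
        refine Subgroup.normalizer_eq_top_iff.mp (eq_top_iff.mpr ?_)
        rw [← hfrat]
        refine sup_le le_rfl fun g hg => ?_
        exact Subgroup.centralizer_le_normalizer (R₁ : Set G) (hMc hg)
      have hbot := hnoD R₁ hR₁n (hR₁L.trans hLU) hR₁p
      have hLM : L = M := by rw [hsup, hbot, sup_bot_eq]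
      have hp' : p ∣ Nat.card M * L.relIndex U := by
        rw [← Subgroup.relIndex_bot_left, ← hLM, Subgroup.relIndex_mul_relIndex _ _ _ bot_le hLU,
          Subgroup.relIndex_bot_left]
        exact hpU
      rcases hp.out.dvd_mul.mp hp' with h' | h'
      · obtain ⟨x, hx⟩ := exists_prime_orderOf_dvd_card' p h'
        have := hMpow 1 x x.2 (by
          rw [pow_one, ← hx, ← Subgroup.orderOf_coe, pow_orderOf_eq_one])
        exact hp.out.ne_one (hx ▸ orderOf_eq_one_iff.mpr (Subtype.ext this))
      · exact hLi h'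
    have hfree : ∀ m ∈ M, (∀ r ∈ R₁, r * m * r⁻¹ = m) → m = 1 := by
      intro m hm h
      have : m ∈ C := ⟨hm, Subgroup.mem_centralizer_iff.mpr fun r hr => by
        have := h r hr
        rwa [mul_inv_eq_iff_eq_mul] at this⟩
      rwa [hCbot, Subgroup.mem_bot] at this
    have hroots : ∀ m ∈ M, ∀ g : G,
        Nat.card {x : G // x * x = g * m} = Nat.card {x : G // x * x = g} := fun m hm g =>
      card_roots_mul_eq m (real_apply_eq_one hreal M R₁ hR₁p hfree hm) g
    exfalso
    rcases hq.eq_two_or_odd' with rfl | hqodd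
    · -- exponent two
      obtain ⟨m, hm, hm1⟩ := (Subgroup.ne_bot_iff_exists_ne_one.mp hM1 |> fun ⟨x, hx⟩ =>
        (⟨(x : G), x.2, fun h => hx (Subtype.ext h)⟩ : ∃ m, m ∈ M ∧ m ≠ 1))
      have hMH : M ⊓ H = ⊥ := by
        rw [eq_bot_iff]
        rintro x ⟨hxM, hxH⟩
        refine Subgroup.mem_bot.mpr (hfree x hxM fun r hr => ?_)
        have h1 : x⁻¹ * (r * x * r⁻¹) ∈ M :=
          M.mul_mem (M.inv_mem hxM) (hMn.conj_mem x hxM r)
        have h2 : x⁻¹ * r * x * r⁻¹ ∈ R₁ :=
          R₁.mul_mem ((Subgroup.mem_normalizer_iff''.mp hxH r).mp hr) (R₁.inv_mem hr)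
        have h3 : x⁻¹ * (r * x * r⁻¹) ∈ M ⊓ R₁ := ⟨h1, by simpa [mul_assoc] using h2⟩
        rw [hMR, Subgroup.mem_bot, inv_mul_eq_one] at h3
        exact h3.symm
      have hdec : ∀ g : G, ∃ m ∈ M, ∃ h ∈ H, g = m * h := by
        intro g
        have : g ∈ ((M ⊔ H : Subgroup G) : Set G) := by rw [sup_comm, hfrat]; trivial
        rw [Subgroup.normal_mul] at this
        obtain ⟨a, ha, b, hb, rfl⟩ := this
        exact ⟨a, ha, b, hb, rfl⟩
      have hlt := card_roots_lt_of_complement M H hdec hMH hMab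
        (fun a ha => by rw [← pow_two]; exact hMexp a ha) hm hm1
      have := hroots m hm 1
      rw [one_mul] at this
      exact hlt.ne this
    · -- odd exponent: everything generated by `2`-elements centralizes `M`
      have hcomm : ∀ m ∈ M, ∀ (j : ℕ) (t : G), t ^ 2 ^ j = 1 → Commute t m := fun m hm =>
        commute_of_forall_card_roots_eq
          (hqodd.of_dvd_nat (orderOf_dvd_of_pow_eq_one (hMexp m hm)))
          fun s _ => hroots m hm s
      have hKc : K ≤ Subgroup.centralizer (M : Set G) := by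
        rw [hKdef, Subgroup.closure_le]
        rintro t ⟨j, hj⟩
        rw [SetLike.mem_coe, Subgroup.mem_centralizer_iff]
        intro m hm
        exact ((hcomm m hm j t (by rw [← hj]; exact pow_orderOf_eq_one t)).eq).symm
      have hLmul : ∀ x ∈ L, ∃ a ∈ M, ∃ b ∈ R₁, x = a * b := by
        intro x hx
        have : x ∈ ((M ⊔ R₁ : Subgroup G) : Set G) := by rw [← hsup]; exact hx
        rw [Subgroup.normal_mul] at this
        obtain ⟨a, ha, b, hb, rfl⟩ := this
        exact ⟨a, ha, b, hb, rfl⟩
      have hRK : R₁ ⊓ K = ⊥ := by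
        refine hnoD _ ?_ (inf_le_left.trans (hR₁L.trans hLU)) (hR₁p.to_le inf_le_left)
        refine Subgroup.normalizer_eq_top_iff.mp (eq_top_iff.mpr ?_)
        rw [← hfrat]
        refine sup_le (fun g hg => ?_) (fun g hg => ?_)
        · rw [Subgroup.mem_normalizer_iff]
          intro c
          exact and_congr (Subgroup.mem_normalizer_iff.mp hg c)
            ⟨fun hc => (primeClosure_normal 2 G).conj_mem c hc g,
              fun hc => by simpa [mul_assoc] using (primeClosure_normal 2 G).conj_mem _ hc g⁻¹⟩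
        · refine Subgroup.centralizer_le_normalizer _ ?_
          rw [Subgroup.mem_centralizer_iff]
          intro c hc
          exact (Subgroup.mem_centralizer_iff.mp (hKc hc.2) g hg).symm
      have hRcent : R₁ ≤ Subgroup.centralizer (K : Set G) := by
        intro r hr
        rw [Subgroup.centralizer_closure, Subgroup.mem_centralizer_iff]
        rintro t ⟨j, hj⟩
        have htK : t ∈ K := Subgroup.subset_closure ⟨j, hj⟩
        have hcL : r * t * r⁻¹ * t⁻¹ ∈ L := by
          have h1 : r ∈ L := hR₁L hr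
          have : r * (t * r⁻¹ * t⁻¹) ∈ L := L.mul_mem h1 (hLn.conj_mem _ (L.inv_mem h1) t)
          simpa [mul_assoc] using this
        have hcK : r * t * r⁻¹ * t⁻¹ ∈ K :=
          K.mul_mem ((primeClosure_normal 2 G).conj_mem t htK r) (K.inv_mem htK)
        obtain ⟨a, ha, b, hb, he⟩ := hLmul _ hcL
        have hbK : b ∈ K := by
          have : b = a⁻¹ * (r * t * r⁻¹ * t⁻¹) := by rw [he]; group
          rw [this]
          exact K.mul_mem (K.inv_mem (hMK ha)) hcK
        have hb1 : b ∈ R₁ ⊓ K := ⟨hb, hbK⟩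
        rw [hRK, Subgroup.mem_bot] at hb1
        rw [hb1, mul_one, mul_inv_eq_iff_eq_mul] at he
        have ht1 : t ^ 2 ^ j = 1 := by rw [← hj]; exact pow_orderOf_eq_one t
        have h2 : (r * t * r⁻¹) ^ 2 ^ j = 1 := by
          rw [conj_pow, ht1, mul_one, mul_inv_cancel]
        rw [he, ((hcomm a ha j t ht1).symm).mul_pow, ht1, mul_one] at h2
        have ha1 : a = 1 := by
          have h3 : orderOf a ∣ Nat.gcd (2 ^ j) q :=
            Nat.dvd_gcd (orderOf_dvd_of_pow_eq_one h2) (orderOf_dvd_of_pow_eq_one (hMexp a ha))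
          rw [(Nat.coprime_two_left.mpr hqodd).pow_left j, Nat.dvd_one] at h3
          exact orderOf_eq_one_iff.mp h3
        rw [ha1, one_mul, mul_inv_eq_iff_eq_mul] at he
        exact he.symm
      apply hM1
      rw [eq_bot_iff]
      intro m hm
      refine Subgroup.mem_bot.mpr (hfree m hm fun r hr => ?_)
      have := Subgroup.mem_centralizer_iff.mp (hRcent hr) m (hMK hm)
      rw [← this, mul_inv_cancel_right]

/-- The form of `exists_normal_sylow` about a given Sylow subgroup. -/
theorem sylow_normal {p : ℕ} [Fact p.Prime] {G : Type u} [Group G] [Finite G]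
    (hsol : Group.IsSolvable (primeClosure p G)) (hreal : RealDegreesCoprime p G)
    (U : Subgroup G) [U.Normal] (hKU : primeClosure 2 G ≤ U)
    (hUK : ∃ a : ℕ, (primeClosure 2 G).relIndex U = p ^ a) (S : Sylow p U) :
    (S : Subgroup U).Normal := by
  obtain ⟨Q, hQn, hQU, hQp, hQi⟩ :=
    exists_normal_sylow _ G rfl hsol hreal U inferInstance hKU hUK
  haveI := hQn
  let Q' : Sylow p U :=
    ((hQp.of_equiv (Subgroup.subgroupOfEquivOfLe hQU).symm)).toSylow hQi
  haveI : (Q' : Subgroup U).Normal := Subgroup.normal_subgroupOf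
  haveI := Sylow.unique_of_normal Q' inferInstance
  rw [Subsingleton.elim S Q']
  infer_instance

end CfsgLib.RealChar
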