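import Cfsg.Agent.Lib.RealChar.NormTwo
import Cfsg.Agent.Lib.RealChar.NormalSylow
import Cfsg.Agent.Lib.RealChar.DualTwist
import Cfsg.Agent.Lib.Char.Induced
import Cfsg.Agent.Lib.Char.Complete
import Mathlib.GroupTheory.Sylow

/-!
# The character correspondence for a cyclic `p`-power extension

`Γ` has a normal subgroup `K` with cyclic `p`-group quotient, and `K` has a normal Sylow
`p`-subgroup `Q`.  With `N` the normalizer of a Sylow subgroup of `Γ` and `C = K ∩ N`, the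
invariant characters of `K` and of `C` correspond by restriction modulo `p`.
-/

set_option linter.style.haveILetI false

namespace CfsgLib.RealChar

open scoped ComplexConjugate
open CfsgLib.CharTwist

/-- `c` is an integer congruent to `±1` mod `p`. -/
def IsUnitSignMod (p : ℕ) (c : ℂ) : Prop := ∃ z : ℤ, c = z ∧ (p : ℤ) ∣ z ^ 2 - 1

/-- `c` is not an integer multiple of `p`. -/
def NotDvdInt (p : ℕ) (c : ℂ) : Prop := ∀ z : ℤ, c = z → ¬ (p : ℤ) ∣ z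

theorem IsUnitSignMod.notDvdInt {p : ℕ} (hp : p.Prime) {c : ℂ} (h : IsUnitSignMod p c) :
    NotDvdInt p c := by
  obtain ⟨z, rfl, hz⟩ := h
  intro w hw hdvd
  obtain rfl : z = w := by exact_mod_cast hw
  have : (p : ℤ) ∣ 1 := by
    have h2 : (p : ℤ) ∣ z ^ 2 := dvd_pow hdvd two_ne_zero
    simpa using dvd_sub h2 hz
  exact hp.ne_one (by exact_mod_cast Int.eq_one_of_dvd_one (by positivity) this)

section Abstract

variable {D X Y : Type*} [CommGroup D] [MulAction D X] [MulAction D Y]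

theorem exists_mem_zpowers_of_isCyclic [Finite D] [IsCyclic D] {p k : ℕ} [hp : Fact p.Prime]
    (hk : Nat.card D = p ^ k) (hk0 : k ≠ 0) :
    ∃ lam : D, orderOf lam = p ∧ ∀ μ : D, μ ≠ 1 → lam ∈ Subgroup.zpowers μ := by
  haveI := Fintype.ofFinite D
  obtain ⟨lam, hlam⟩ := exists_prime_orderOf_dvd_card' p (G := D)
    (by rw [hk]; exact dvd_pow_self p hk0)
  refine ⟨lam, hlam, fun μ hμ => ?_⟩
  obtain ⟨i, hi⟩ := IsPGroup.iff_orderOf.mp (IsPGroup.of_card hk) μ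
  have hi0 : i ≠ 0 := by
    rintro rfl
    exact hμ (orderOf_eq_one_iff.mp (by rw [hi, pow_zero]))
  obtain ⟨j, rfl⟩ := Nat.exists_eq_succ_of_ne_zero hi0
  set ν := μ ^ p ^ j with hν
  have hνord : orderOf ν = p := by
    rw [hν, orderOf_pow' _ (pow_ne_zero _ hp.out.ne_zero), hi,
      Nat.gcd_eq_right (pow_dvd_pow p j.le_succ), Nat.pow_div j.le_succ hp.out.pos,
      show j.succ - j = 1 by omega, pow_one]
  have hker : Nat.card (powMonoidHom p : D →* D).ker = p := by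
    rw [IsCyclic.card_powMonoidHom_ker, hk, Nat.gcd_eq_right (dvd_pow_self p hk0)]
  have heq : Subgroup.zpowers ν = (powMonoidHom p : D →* D).ker := by
    refine Subgroup.eq_of_le_of_card_ge (Subgroup.zpowers_le.mpr ?_)
      (by rw [hker, Nat.card_zpowers, hνord])
    rw [MonoidHom.mem_ker, powMonoidHom_apply, ← hνord, pow_orderOf_eq_one]
  have hmem' : lam ∈ Subgroup.zpowers ν := by
    rw [heq, MonoidHom.mem_ker, powMonoidHom_apply, ← hlam, pow_orderOf_eq_one]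
  exact Subgroup.zpowers_le.mpr (Subgroup.pow_mem _ (Subgroup.mem_zpowers μ) _) hmem'

variable (H : Subgroup D) [Fintype H]

theorem sum_flip (m : X → Y → ℕ) (hm : ∀ (μ : D) x y, m (μ • x) (μ • y) = m x y) (x : X) (y : Y)
    (μ : D) : ∑ a : H, (m (a • μ⁻¹ • x) y : ℤ) = ∑ a : H, (m x (a • μ • y) : ℤ) := by
  refine Fintype.sum_equiv (Equiv.inv H) _ _ fun a => ?_
  have e : (a : D) • μ⁻¹ • x = ((a : D) * μ⁻¹) • x := (mul_smul _ _ _).symm
  have := hm (((a : D) * μ⁻¹)⁻¹) ((a : D) • μ⁻¹ • x) y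
  rw [e, inv_smul_smul, mul_inv_rev, inv_inv, mul_comm, mul_smul] at this
  simp only [Equiv.inv_apply, Subgroup.smul_def, InvMemClass.coe_inv]
  rw [e, this]

theorem sum_flip_one (m : X → Y → ℕ) (hm : ∀ (μ : D) x y, m (μ • x) (μ • y) = m x y) (x : X)
    (y : Y) : ∑ a : H, (m (a • x) y : ℤ) = ∑ a : H, (m x (a • y) : ℤ) := by
  simpa using sum_flip H m hm x y 1

/-- A sum over a regular orbit, split along the cosets of `H`. -/
theorem sum_orbit_split [Fintype D] {p : ℕ} (f : Y → ℤ) (η η₀ : Y)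
    (hη : ∀ μ : D, μ • η = η → μ = 1)
    (horb : ∀ y : Y, ¬ (p : ℤ) ∣ ∑ a : H, f (a • y) → y ∈ MulAction.orbit H η₀)
    (hval : (p : ℤ) ∣ (∑ a : H, f (a • η₀)) ^ 2 - 1) :
    (¬ (p : ℤ) ∣ ∑ μ : D, f (μ • η) → ∃ μ : D, ¬ (p : ℤ) ∣ ∑ a : H, f (a • μ • η)) ∧
      ((∃ μ : D, ¬ (p : ℤ) ∣ ∑ a : H, f (a • μ • η)) →
        (p : ℤ) ∣ (∑ μ : D, f (μ • η)) ^ 2 - 1) := by
  classical
  haveI : Fintype (D ⧸ H) := Fintype.ofFinite _
  have hfib : ∑ μ : D, f (μ • η) = ∑ q : D ⧸ H, ∑ a : H, f (a • q.out • η) := by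
    rw [← Finset.sum_fiberwise Finset.univ (fun μ : D => (μ : D ⧸ H)) (fun μ => f (μ • η))]
    refine Finset.sum_congr rfl fun q _ => ?_
    symm
    refine Finset.sum_bij (fun a _ => (a : D) * q.out) ?_ ?_ ?_ ?_
    · intro a _
      rw [Finset.mem_filter]
      refine ⟨Finset.mem_univ _, ?_⟩
      rw [QuotientGroup.mk_mul, (QuotientGroup.eq_one_iff _).mpr a.2, one_mul,
        QuotientGroup.out_eq']
    · intro a _ b _ h
      exact Subtype.ext (mul_right_cancel h)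
    · intro μ hμ
      have hq := (Finset.mem_filter.mp hμ).2
      refine ⟨⟨μ * q.out⁻¹, ?_⟩, Finset.mem_univ _, by simp⟩
      rw [← QuotientGroup.eq_one_iff, QuotientGroup.mk_mul, hq, QuotientGroup.mk_inv,
        QuotientGroup.out_eq', mul_inv_cancel]
    · intro a _
      rw [mul_smul]
      rfl
  refine ⟨fun h => ?_, fun ⟨μ₀, hμ₀⟩ => ?_⟩
  · by_contra hcon
    push Not at hcon
    exact h (hfib ▸ Finset.dvd_sum fun q _ => hcon _)
  · set q₀ : D ⧸ H := QuotientGroup.mk μ₀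
    have key : ∀ μ : D, ¬ (p : ℤ) ∣ ∑ a : H, f (a • μ • η) →
        (μ : D ⧸ H) = q₀ ∧ ∑ a : H, f (a • μ • η) = ∑ a : H, f (a • η₀) := by
      intro μ hμ
      obtain ⟨b, hb⟩ := horb _ hμ
      obtain ⟨c, hc⟩ := horb _ hμ₀
      refine ⟨?_, ?_⟩
      · have e : ((μ₀⁻¹ * μ) * ((c : D) * (b : D)⁻¹)) • η = η := by
          rw [show (μ₀⁻¹ * μ) * ((c : D) * (b : D)⁻¹) = μ₀⁻¹ * ((c : D) * ((b : D)⁻¹ * μ)) by
            rw [mul_assoc, mul_comm μ, mul_assoc], mul_smul, mul_smul, mul_smul, ← hb]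
          change μ₀⁻¹ • (c : D) • (b : D)⁻¹ • (b : D) • η₀ = η
          rw [inv_smul_smul]
          change μ₀⁻¹ • c • η₀ = η
          rw [show c • η₀ = μ₀ • η from hc, inv_smul_smul]
        symm
        rw [QuotientGroup.eq, eq_inv_of_mul_eq_one_left (hη _ e)]
        exact H.inv_mem (H.mul_mem c.2 (H.inv_mem b.2))
      · rw [← hb]
        exact Fintype.sum_equiv (Equiv.mulRight b) _ _ fun a => by simp [mul_smul]
    have hout : ∑ a : H, f (a • q₀.out • η) = ∑ a : H, f (a • μ₀ • η) := by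
      obtain ⟨b, hb⟩ : ∃ b : H, q₀.out = b * μ₀ := by
        refine ⟨⟨q₀.out * μ₀⁻¹, ?_⟩, by simp⟩
        rw [← QuotientGroup.eq_one_iff, QuotientGroup.mk_mul, QuotientGroup.out_eq',
          QuotientGroup.mk_inv, mul_inv_cancel]
      refine Fintype.sum_equiv (Equiv.mulRight b) _ _ fun a => ?_
      simp [hb, mul_smul, Subgroup.smul_def]
    have hrest : (p : ℤ) ∣ ∑ q ∈ Finset.univ.erase q₀, ∑ a : H, f (a • q.out • η) := by
      refine Finset.dvd_sum fun q hq => ?_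
      by_contra h
      refine Finset.ne_of_mem_erase hq ?_
      have := (key _ h).1
      rwa [QuotientGroup.out_eq'] at this
    rw [hfib, ← Finset.add_sum_erase _ _ (Finset.mem_univ q₀), hout, (key μ₀ hμ₀).2]
    obtain ⟨t, ht⟩ := hrest
    rw [ht]
    obtain ⟨w, hw⟩ := hval
    exact ⟨w + 2 * (∑ a : H, f (a • η₀)) * t + p * t * t, by linear_combination hw⟩

end Abstract

section CyclicStep

variable {Γ : Type*} [Group Γ] [Fintype Γ] {p : ℕ} [hp : Fact p.Prime] {K Q : Subgroup Γ}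
  [K.Normal] [Q.Normal] (hQK : Q ≤ K) (hQp : IsPGroup p Q) (hQi : ¬ p ∣ Q.relIndex K)
  (hcyc : IsCyclic (Γ ⧸ K)) (hΓK : IsPGroup p (Γ ⧸ K))

include hcyc hΓK in
theorem exists_dual_of_order_p (hK : K ≠ ⊤) :
    ∃ lam : (Γ ⧸ K) →* ℂˣ, orderOf lam = p ∧
      ∀ μ : (Γ ⧸ K) →* ℂˣ, μ ≠ 1 → lam ∈ Subgroup.zpowers μ := by
  classical
  haveI := isCyclic_dual hcyc
  haveI : Finite ((Γ ⧸ K) →* ℂˣ) :=
    Nat.finite_of_card_ne_zero (by rw [card_dual hcyc]; exact Nat.card_pos.ne')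
  obtain ⟨k, hk⟩ := IsPGroup.iff_card.mp hΓK
  have hk0 : k ≠ 0 := by
    rintro rfl
    rw [pow_zero] at hk
    exact hK (Subgroup.index_eq_one.mp hk)
  exact exists_mem_zpowers_of_isCyclic (D := (Γ ⧸ K) →* ℂˣ) (by rw [card_dual hcyc, hk]) hk0

variable {lam : (Γ ⧸ K) →* ℂˣ}
  (hlam : ∀ μ : (Γ ⧸ K) →* ℂˣ, μ ≠ 1 → lam ∈ Subgroup.zpowers μ)

include hcyc hlam in
theorem mem_zpowers_of_dual_ne_one {q : Γ ⧸ K} (hq : lam q ≠ 1) (x : Γ ⧸ K) :
    x ∈ Subgroup.zpowers q := by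
  letI : CommGroup (Γ ⧸ K) := IsCyclic.commGroup
  by_contra hx
  have hne : (QuotientGroup.mk x : (Γ ⧸ K) ⧸ Subgroup.zpowers q) ≠ 1 := fun h =>
    hx ((QuotientGroup.eq_one_iff x).mp h)
  obtain ⟨φ, hφ⟩ := CommGroup.exists_apply_ne_one_of_hasEnoughRootsOfUnity
    ((Γ ⧸ K) ⧸ Subgroup.zpowers q) ℂ hne
  let μ : (Γ ⧸ K) →* ℂˣ := φ.comp (QuotientGroup.mk' (Subgroup.zpowers q))
  have hμ : μ ≠ 1 := fun h => hφ (DFunLike.congr_fun h x)
  obtain ⟨n, hn⟩ := hlam μ hμ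
  apply hq
  rw [← hn]
  have : μ q = 1 := by
    change φ (QuotientGroup.mk q) = 1
    rw [(QuotientGroup.eq_one_iff q).mpr (Subgroup.mem_zpowers q), map_one]
  change (μ ^ n) q = 1
  have e : (μ ^ n) q = (μ q) ^ n := map_zpow (MonoidHom.eval q) μ n
  rw [e, this, one_zpow]

include hQK hQp hQi hcyc hlam in
theorem sylow_eq_zpowers_sup (S : Sylow p Γ) {u : Γ} (hu : u ∈ (S : Subgroup Γ))
    (hlu : lam (u : Γ ⧸ K) ≠ 1) : (S : Subgroup Γ) = Subgroup.zpowers u ⊔ Q := by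
  have hQS : Q ≤ (S : Subgroup Γ) := hQp.le_sylow_of_normal S
  refine le_antisymm (fun z hz => ?_) (sup_le (Subgroup.zpowers_le.mpr hu) hQS)
  obtain ⟨n, hn⟩ := Subgroup.mem_zpowers_iff.mp
    (mem_zpowers_of_dual_ne_one hcyc hlam hlu (z : Γ ⧸ K))
  have hwK : (u ^ n)⁻¹ * z ∈ K := by
    rw [← QuotientGroup.eq_one_iff, QuotientGroup.mk_mul, QuotientGroup.mk_inv, ← hn,
      QuotientGroup.mk_zpow, inv_mul_cancel]
  have hwS : (u ^ n)⁻¹ * z ∈ (S : Subgroup Γ) :=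
    (S : Subgroup Γ).mul_mem ((S : Subgroup Γ).inv_mem ((S : Subgroup Γ).zpow_mem hu n)) hz
  have hSK : (S : Subgroup Γ) ⊓ K ≤ Q := by
    rw [← Subgroup.relIndex_eq_one]
    obtain ⟨a, ha⟩ := IsPGroup.iff_card.mp (S.isPGroup'.to_le (inf_le_left (b := K)))
    obtain ⟨b, -, hb⟩ := (Nat.dvd_prime_pow hp.out).mp
      (ha ▸ Subgroup.relIndex_dvd_card Q ((S : Subgroup Γ) ⊓ K))
    rcases b with _ | b
    · rw [hb, pow_zero]
    · exfalso
      refine hQi ((hb ▸ dvd_pow_self p b.succ_ne_zero).trans ?_)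
      exact Dvd.intro _ (Subgroup.relIndex_mul_relIndex Q ((S : Subgroup Γ) ⊓ K) K
        (le_inf hQS hQK) inf_le_right)
  have : u ^ n * ((u ^ n)⁻¹ * z) ∈ Subgroup.zpowers u ⊔ Q :=
    (Subgroup.zpowers u ⊔ Q).mul_mem
      ((le_sup_left : Subgroup.zpowers u ≤ _) (Subgroup.zpow_mem _ (Subgroup.mem_zpowers u) n))
      ((le_sup_right : Q ≤ _) (hSK ⟨hwS, hwK⟩))
  rwa [mul_inv_cancel_left] at this

include hQp hQi hQK hcyc hΓK hlam in
theorem ppart_spec {g : Γ} (hg : lam (g : Γ ⧸ K) ≠ 1) :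
    ∃ r : ℕ, (∃ j, orderOf (g ^ r) = p ^ j) ∧ lam ((g ^ r : Γ) : Γ ⧸ K) ≠ 1 := by
  obtain ⟨u, hu, j, hj⟩ : ∃ u, u ∈ Subgroup.zpowers g ∧ ∃ j,
      orderOf u = p ^ j ∧ QuotientGroup.mk' K u = QuotientGroup.mk' K g := by
    obtain ⟨i, hi⟩ := IsPGroup.iff_orderOf.mp hΓK (QuotientGroup.mk' K g)
    let f : Subgroup.zpowers g →* Γ ⧸ K := (QuotientGroup.mk' K).comp (Subgroup.subtype _)
    let f' := f.rangeRestrict
    obtain ⟨x, hx, j, hj⟩ := exists_lift_orderOf_eq_pow f' f.rangeRestrict_surjective hp.out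
      (y := ⟨QuotientGroup.mk' K g, ⟨⟨g, Subgroup.mem_zpowers g⟩, rfl⟩⟩) (k := i)
      (by rw [← hi]; exact Subgroup.orderOf_mk _ _)
    exact ⟨x, x.2, j, by rw [Subgroup.orderOf_coe, hj], congrArg Subtype.val hx⟩
  obtain ⟨r, rfl⟩ := mem_powers_iff_mem_zpowers.mpr hu
  refine ⟨r, ⟨j, hj.1⟩, ?_⟩
  have := hj.2
  simp only [QuotientGroup.mk'_apply] at this
  rwa [this]

include hQp hQi hQK hcyc hΓK hlam in
theorem exists_conj_mem_normalizer_sylow (R : Sylow p Γ) {g : Γ} (hg : lam (g : Γ ⧸ K) ≠ 1) :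
    ∃ t : Γ, t⁻¹ * g * t ∈ Subgroup.normalizer ((R : Subgroup Γ) : Set Γ) := by
  obtain ⟨r, ⟨j, hj⟩, hu⟩ := ppart_spec hQK hQp hQi hcyc hΓK hlam hg
  have hpg : IsPGroup p (Subgroup.zpowers (g ^ r)) :=
    IsPGroup.of_card (by rw [Nat.card_zpowers, hj])
  obtain ⟨S, hS⟩ := hpg.exists_le_sylow
  have hSeq := sylow_eq_zpowers_sup hQK hQp hQi hcyc hlam S (hS (Subgroup.mem_zpowers _)) hu
  obtain ⟨t, rfl⟩ := MulAction.exists_smul_eq Γ R S
  refine ⟨t, Subgroup.mem_normalizer_fintype fun n hn => ?_⟩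
  have hnS : t * n * t⁻¹ ∈ ((t • R : Sylow p Γ) : Subgroup Γ) := by
    rw [Sylow.coe_subgroup_smul, Subgroup.mem_pointwise_smul_iff_inv_smul_mem]
    simp [mul_assoc]
    exact hn
  have hgS : ∀ z ∈ ((t • R : Sylow p Γ) : Subgroup Γ),
      g * z * g⁻¹ ∈ ((t • R : Sylow p Γ) : Subgroup Γ) := by
    have : ((t • R : Sylow p Γ) : Subgroup Γ).map (MulAut.conj g).toMonoidHom ≤
        ((t • R : Sylow p Γ) : Subgroup Γ) := by
      rw [hSeq, Subgroup.map_sup, MonoidHom.map_zpowers]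
      refine sup_le (le_sup_of_le_left (le_of_eq ?_)) (le_sup_of_le_right ?_)
      · congr 1
        rw [MulEquiv.coe_toMonoidHom, MulAut.conj_apply,
          (Commute.self_pow g r).eq, mul_inv_cancel_right]
      · rintro _ ⟨z, hz, rfl⟩
        exact ‹Q.Normal›.conj_mem z hz g
    exact fun z hz => this ⟨z, hz, rfl⟩
  have := hgS _ hnS
  rw [Sylow.coe_subgroup_smul, Subgroup.mem_pointwise_smul_iff_inv_smul_mem] at this
  simp [mul_assoc] at this ⊢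
  exact this

include hQp hQi hQK hcyc hΓK hlam in
theorem mem_normalizer_of_conj_mem (R : Sylow p Γ) {g x : Γ} (hg : lam (g : Γ ⧸ K) ≠ 1)
    (h1 : g ∈ Subgroup.normalizer ((R : Subgroup Γ) : Set Γ))
    (h2 : x⁻¹ * g * x ∈ Subgroup.normalizer ((R : Subgroup Γ) : Set Γ)) :
    x ∈ Subgroup.normalizer ((R : Subgroup Γ) : Set Γ) := by
  obtain ⟨r, ⟨j, hj⟩, hu⟩ := ppart_spec hQK hQp hQi hcyc hΓK hlam hg
  have hmem : ∀ v : Γ, orderOf v = p ^ j → v ∈ Subgroup.normalizer ((R : Subgroup Γ) : Set Γ) →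
      v ∈ (R : Subgroup Γ) := by
    intro v hv hvN
    have hpg : IsPGroup p (Subgroup.zpowers v ⊔ (R : Subgroup Γ) : Subgroup Γ) :=
      IsPGroup.to_sup_of_normal_right' (IsPGroup.of_card (by rw [Nat.card_zpowers, hv]))
        R.isPGroup' (Subgroup.zpowers_le.mpr hvN)
    rw [← R.is_maximal' hpg le_sup_right]
    exact (le_sup_left : Subgroup.zpowers v ≤ _) (Subgroup.mem_zpowers v)
  have huR : g ^ r ∈ (R : Subgroup Γ) := hmem _ hj (Subgroup.pow_mem _ h1 r)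
  set u' := x⁻¹ * g ^ r * x with hu'
  have hu'R : u' ∈ (R : Subgroup Γ) := by
    refine hmem _ ?_ ?_
    · rw [← hj]
      exact (MulEquiv.orderOf_eq (MulAut.conj x⁻¹) (g ^ r)).symm.trans (by simp [hu']) |>.symm
    · have e : u' = (x⁻¹ * g * x) ^ r := by
        rw [hu']
        have h3 : ∀ n : ℕ, (x⁻¹ * g * x) ^ n = x⁻¹ * g ^ n * x := fun n => by
          induction n with
          | zero => simp
          | succ n ih => rw [pow_succ, ih, pow_succ]; group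
        exact (h3 r).symm
      rw [e]
      exact Subgroup.pow_mem _ h2 r
  have hlu' : lam (u' : Γ ⧸ K) ≠ 1 := by
    simpa [hu', mul_comm (lam (x : Γ ⧸ K))⁻¹, mul_assoc] using hu
  have e1 := sylow_eq_zpowers_sup hQK hQp hQi hcyc hlam R hu'R hlu'
  refine Subgroup.mem_normalizer_fintype fun n hn => ?_
  have hmap : (R : Subgroup Γ).map (MulAut.conj x).toMonoidHom ≤ (R : Subgroup Γ) := by
    rw [e1, Subgroup.map_sup, MonoidHom.map_zpowers]
    refine sup_le ?_ (le_sup_of_le_right ?_)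
    · rw [Subgroup.zpowers_le, ← e1]
      simpa [hu', mul_assoc] using huR
    · rintro _ ⟨z, hz, rfl⟩
      exact ‹Q.Normal›.conj_mem z hz x
  exact hmap ⟨n, hn, rfl⟩

end CyclicStep

section Main

variable {Γ : Type*} [Group Γ] [Fintype Γ] {p : ℕ} [hp : Fact p.Prime]

/-- The norm-two condition from differences supported off the kernel of `lam`. -/
theorem sum_sq_eq_two {A B : Type*} [Group A] [Group B] [Fintype A] [Fintype B]
    (η η' : Cfsg.IrrCharacter A) (hne : η' ≠ η) (a : B → ℂ) (ha : Cfsg.IsClassFunction B a)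
    (hnorm : Cfsg.classInner a a =
      Cfsg.classInner (((η' : A → ℂ)) - (η : A → ℂ)) ((η' : A → ℂ) - (η : A → ℂ)))
    (g : Cfsg.IrrCharacter B → ℤ)
    (hg : ∀ ψ : Cfsg.IrrCharacter B, Cfsg.classInner a (ψ : B → ℂ) = g ψ) :
    ∑ ψ, g ψ ^ 2 = 2 := by
  have h1 : Cfsg.classInner a a = ((∑ ψ, g ψ ^ 2 : ℤ) : ℂ) := by
    rw [CfsgLib.Char.classInner_eq_sum ha ha]
    push_cast
    exact Finset.sum_congr rfl fun ψ _ => by rw [hg, map_intCast, sq]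
  have h2 : Cfsg.classInner (((η' : A → ℂ)) - (η : A → ℂ)) ((η' : A → ℂ) - (η : A → ℂ)) = 2 := by
    rw [CfsgLib.Char.classInner_sub_left, CfsgLib.Char.classInner_sub_right,
      CfsgLib.Char.classInner_sub_right, CfsgLib.Char.classInner_irr_self η'.2,
      CfsgLib.Char.classInner_irr_self η.2,
      CfsgLib.Char.classInner_irr_of_ne η'.2 η.2 fun h => hne (Subtype.ext h),
      CfsgLib.Char.classInner_irr_of_ne η.2 η'.2 fun h => hne (Subtype.ext h).symm]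
    ring
  rw [h1, h2] at hnorm
  exact_mod_cast hnorm

/-- The correspondence in the cyclic case, in both directions. -/
theorem cyclic_corr (K Q : Subgroup Γ) [K.Normal] [Q.Normal] (hQK : Q ≤ K) (hQp : IsPGroup p Q)
    (hQi : ¬ p ∣ Q.relIndex K) (hcyc : IsCyclic (Γ ⧸ K)) (hΓK : IsPGroup p (Γ ⧸ K)) (hK : K ≠ ⊤)
    (R : Sylow p Γ) [Fintype K] (N : Subgroup Γ)
    (hN : N = Subgroup.normalizer ((R : Subgroup Γ) : Set Γ))
    [Fintype N] [Fintype (K.subgroupOf N)] :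
    (∀ χ : Cfsg.IrrCharacter K, (∀ g, conjFun K (χ : K → ℂ) g = (χ : K → ℂ)) →
      ∃ ξ : Cfsg.IrrCharacter (K.subgroupOf N),
        ((∀ n, conjFun (K.subgroupOf N) (ξ : _ → ℂ) n = (ξ : _ → ℂ)) ∧
          IsUnitSignMod p (Cfsg.classInner
            (fun c : K.subgroupOf N => (χ : K → ℂ) ⟨c.1.1, c.2⟩) (ξ : _ → ℂ))) ∧
        ∀ ξ' : Cfsg.IrrCharacter (K.subgroupOf N),
          (∀ n, conjFun (K.subgroupOf N) (ξ' : _ → ℂ) n = (ξ' : _ → ℂ)) →
          NotDvdInt p (Cfsg.classInner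
            (fun c : K.subgroupOf N => (χ : K → ℂ) ⟨c.1.1, c.2⟩) (ξ' : _ → ℂ)) → ξ' = ξ) ∧
    (∀ ξ : Cfsg.IrrCharacter (K.subgroupOf N),
      (∀ n, conjFun (K.subgroupOf N) (ξ : _ → ℂ) n = (ξ : _ → ℂ)) →
      ∃ χ : Cfsg.IrrCharacter K,
        ((∀ g, conjFun K (χ : K → ℂ) g = (χ : K → ℂ)) ∧
          IsUnitSignMod p (Cfsg.classInner
            (fun c : K.subgroupOf N => (χ : K → ℂ) ⟨c.1.1, c.2⟩) (ξ : _ → ℂ))) ∧
        ∀ χ' : Cfsg.IrrCharacter K, (∀ g, conjFun K (χ' : K → ℂ) g = (χ' : K → ℂ)) →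
          NotDvdInt p (Cfsg.classInner
            (fun c : K.subgroupOf N => (χ' : K → ℂ) ⟨c.1.1, c.2⟩) (ξ : _ → ℂ)) → χ' = χ) := by
  classical
  obtain ⟨lam, hord, hlam⟩ := exists_dual_of_order_p hcyc hΓK hK
  haveI : Finite ((Γ ⧸ K) →* ℂˣ) :=
    Nat.finite_of_card_ne_zero (by rw [card_dual hcyc]; exact Nat.card_pos.ne')
  haveI := Fintype.ofFinite ((Γ ⧸ K) →* ℂˣ)
  let πΓ : Γ →* Γ ⧸ K := QuotientGroup.mk' K
  let πN : N →* Γ ⧸ K := πΓ.comp N.subtype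
  have hBΓ : ∀ a, a ∈ K ↔ πΓ a = 1 := fun a => (QuotientGroup.eq_one_iff a).symm
  have hBN : ∀ a : N, a ∈ K.subgroupOf N ↔ πN a = 1 := fun a => hBΓ a
  have hsurjΓ : Function.Surjective πΓ := QuotientGroup.mk'_surjective K
  have hconj : ∀ x g : Γ, lam ((x⁻¹ * g * x : Γ) : Γ ⧸ K) = lam (g : Γ ⧸ K) := by
    intro x g
    simp only [QuotientGroup.mk_mul, QuotientGroup.mk_inv, map_mul, map_inv]
    rw [mul_comm ((lam (x : Γ ⧸ K))⁻¹), mul_assoc, inv_mul_cancel, mul_one]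
  obtain ⟨q₀, hq₀⟩ : ∃ q : Γ ⧸ K, lam q ≠ 1 := by
    by_contra h
    push Not at h
    rw [show lam = 1 from MonoidHom.ext h, orderOf_one] at hord
    exact hp.out.ne_one hord.symm
  have hsurjN : Function.Surjective πN := by
    obtain ⟨g₀, rfl⟩ := hsurjΓ q₀
    obtain ⟨t, ht⟩ := exists_conj_mem_normalizer_sylow hQK hQp hQi hcyc hΓK hlam R hq₀
    rw [← hN] at ht
    intro q
    have hq' : lam (πN ⟨_, ht⟩) ≠ 1 := by
      change lam ((t⁻¹ * g₀ * t : Γ) : Γ ⧸ K) ≠ 1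
      rw [hconj]
      exact hq₀
    obtain ⟨n, hn⟩ := Subgroup.mem_zpowers_iff.mp (mem_zpowers_of_dual_ne_one hcyc hlam hq' q)
    exact ⟨⟨_, ht⟩ ^ n, by rw [map_zpow, hn]⟩
  letI actΓ : MulAction ((Γ ⧸ K) →* ℂˣ) (Cfsg.IrrCharacter Γ) := dualTwistAction πΓ
  letI actN : MulAction ((Γ ⧸ K) →* ℂˣ) (Cfsg.IrrCharacter N) := dualTwistAction πN
  let H := Subgroup.zpowers lam
  haveI := Fintype.ofFinite H
  have hH : Fintype.card H = p := by
    rw [← Nat.card_eq_fintype_card, Nat.card_zpowers, hord]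
  have hstab : ∀ {X : Type _} [MulAction ((Γ ⧸ K) →* ℂˣ) X] (x : X),
      (∀ a : H, a • x = x → a = 1) → ∀ μ : (Γ ⧸ K) →* ℂˣ, μ • x = x → μ = 1 := by
    intro X _ x hx μ hμ
    by_contra hne
    have hmem : lam ∈ MulAction.stabilizer ((Γ ⧸ K) →* ℂˣ) x :=
      (Subgroup.zpowers_le.mpr (MulAction.mem_stabilizer_iff.mpr hμ)) (hlam μ hne)
    have h1 := hx ⟨lam, Subgroup.mem_zpowers lam⟩ hmem
    rw [show lam = 1 from congrArg Subtype.val h1, orderOf_one] at hord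
    exact hp.out.ne_one hord.symm
  -- the multiplicities
  have hnat : ∀ (ψ : Cfsg.IrrCharacter Γ) (η : Cfsg.IrrCharacter N), ∃ k : ℕ,
      Cfsg.classInner (fun n : N => (ψ : Γ → ℂ) n) (η : N → ℂ) = k := fun ψ η =>
    CfsgLib.Char.IsCharacter.exists_nat_classInner
      (CfsgLib.Char.IsCharacter.restrict (CfsgLib.Char.IsIrrCharacter.isCharacter ψ.2) N) η.2
  choose m hm using hnat
  have hminv : ∀ (μ : (Γ ⧸ K) →* ℂˣ) ψ η, m (μ • ψ) (μ • η) = m ψ η := by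
    intro μ ψ η
    have : (m (μ • ψ) (μ • η) : ℂ) = (m ψ η : ℂ) := by
      rw [← hm, ← hm, Cfsg.classInner, Cfsg.classInner]
      congr 1
      refine Finset.sum_congr rfl fun n _ => ?_
      change ((μ (πN n) : ℂ) * (ψ : Γ → ℂ) n) * conj ((μ (πN n) : ℂ) * (η : N → ℂ) n) = _
      rw [map_mul, show (μ (πN n) : ℂ) * (ψ : Γ → ℂ) n * (conj (μ (πN n) : ℂ) * conj ((η : N → ℂ) n)) =
        (conj (μ (πN n) : ℂ) * (μ (πN n) : ℂ)) * ((ψ : Γ → ℂ) n * conj ((η : N → ℂ) n)) by ring,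
        conj_mul_unit_apply, one_mul]
    exact_mod_cast this
  -- class functions of `N` vanishing on the kernel of `lam`
  have hind : ∀ α : N → ℂ, Cfsg.IsClassFunction N α → (∀ n : N, lam (πN n) = 1 → α n = 0) →
      ∀ n : N, Cfsg.indFun N α n = α n := by
    intro α hα hv n
    rw [CfsgLib.Char.indFun_apply]
    by_cases hn : lam (πN n) = 1
    · rw [Finset.sum_eq_zero, mul_zero, hv n hn]
      intro x _
      by_cases hx : x⁻¹ * (n : Γ) * x ∈ N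
      · rw [CfsgLib.Char.extendByZero_apply_mem N α hx]
        exact hv _ ((hconj x n).trans hn)
      · exact CfsgLib.Char.extendByZero_of_notMem N α hx
    · rw [← Finset.sum_subset (Finset.subset_univ (Finset.univ.filter (· ∈ N))) fun x _ hx => ?_]
      · rw [Finset.sum_congr rfl (g := fun _ => α n) fun x hx => ?_, Finset.sum_const, nsmul_eq_mul,
          ← Fintype.card_subtype, ← Nat.card_eq_fintype_card, ← mul_assoc, inv_mul_cancel₀
            (Nat.cast_ne_zero.mpr Nat.card_pos.ne'), one_mul]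
        have hxN : x ∈ N := (Finset.mem_filter.mp hx).2
        rw [CfsgLib.Char.extendByZero_apply_mem N α (N.mul_mem (N.mul_mem (N.inv_mem hxN) n.2) hxN)]
        have := hα n ⟨x, hxN⟩⁻¹
        rw [inv_inv] at this
        exact this
      · refine CfsgLib.Char.extendByZero_of_notMem N α fun h => hx ?_
        rw [Finset.mem_filter]
        refine ⟨Finset.mem_univ _, ?_⟩
        subst hN
        exact mem_normalizer_of_conj_mem hQK hQp hQi hcyc hΓK hlam R hn n.2 h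
  have hres : ∀ β : Γ → ℂ, Cfsg.IsClassFunction Γ β →
      (∀ g : Γ, lam (g : Γ ⧸ K) = 1 → β g = 0) → Cfsg.indFun N (fun n : N => β n) = β := by
    intro β hβ hv
    funext g
    by_cases hg : lam (g : Γ ⧸ K) = 1
    · rw [hv g hg, CfsgLib.Char.indFun_apply, Finset.sum_eq_zero, mul_zero]
      intro x _
      by_cases hx : x⁻¹ * g * x ∈ N
      · rw [CfsgLib.Char.extendByZero_apply_mem N _ hx]
        exact hv _ ((hconj x g).trans hg)
      · exact CfsgLib.Char.extendByZero_of_notMem N _ hx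
    · obtain ⟨t, ht⟩ := exists_conj_mem_normalizer_sylow hQK hQp hQi hcyc hΓK hlam R hg
      rw [← hN] at ht
      have hβN : Cfsg.IsClassFunction N (fun n : N => β n) := fun a b => hβ a b
      have hcf := CfsgLib.Char.isClassFunction_indFun N (fun n : N => β n)
      have e1 := hcf g t⁻¹
      rw [inv_inv] at e1
      rw [← e1, show t⁻¹ * g * t = ((⟨_, ht⟩ : N) : Γ) from rfl,
        hind _ hβN (fun n hn => hv _ hn) ⟨_, ht⟩]
      have e2 := hβ g t⁻¹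
      rw [inv_inv] at e2
      exact e2
  -- norm two, seen from `N` and from `Γ`
  have hnormN : ∀ η : Cfsg.IrrCharacter N, (∀ a : H, a • η = η → a = 1) → ∀ a : H, a ≠ 1 →
      ∑ ψ, ((m (a • ψ) η : ℤ) - m ψ η) ^ 2 = 2 := by
    intro η hfree a ha
    have hne : a⁻¹ • η ≠ η := fun h => ha (inv_eq_one.mp (hfree _ h))
    let α : N → ℂ := ((a⁻¹ • η : Cfsg.IrrCharacter N) : N → ℂ) - (η : N → ℂ)
    have hcl : Cfsg.IsClassFunction N α := fun x y => by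
      simp only [α, Pi.sub_apply,
        CfsgLib.Char.IsIrrCharacter.isClassFunction (a⁻¹ • η : Cfsg.IrrCharacter N).2 x y,
        CfsgLib.Char.IsIrrCharacter.isClassFunction η.2 x y]
    have hv : ∀ n : N, lam (πN n) = 1 → α n = 0 := by
      intro n hn
      obtain ⟨_, k, rfl⟩ := a
      change (((lam ^ k)⁻¹ (πN n) : ℂˣ) : ℂ) * (η : N → ℂ) n - (η : N → ℂ) n = 0
      have : (lam ^ k) (πN n) = 1 := by
        have e : (lam ^ k) (πN n) = lam (πN n) ^ k := map_zpow (MonoidHom.eval (πN n)) lam k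
        rw [e, hn, one_zpow]
      rw [MonoidHom.inv_apply, this, inv_one, Units.val_one, one_mul, sub_self]
    refine sum_sq_eq_two η (a⁻¹ • η) hne (Cfsg.indFun N α)
      (CfsgLib.Char.isClassFunction_indFun N α) ?_ _ fun ψ => ?_
    · rw [CfsgLib.Char.classInner_indFun N α _ (CfsgLib.Char.isClassFunction_indFun N α),
        show (fun n : N => Cfsg.indFun N α n) = α from funext (hind α hcl hv)]
    · rw [CfsgLib.Char.classInner_indFun N α _ (CfsgLib.Char.IsIrrCharacter.isClassFunction ψ.2),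
        CfsgLib.Char.classInner_sub_left, ← CfsgLib.Char.classInner_conj_symm _ (_ : N → ℂ),
        ← CfsgLib.Char.classInner_conj_symm (fun n : N => (ψ : Γ → ℂ) n) (η : N → ℂ), hm, hm,
        Complex.conj_natCast, Complex.conj_natCast, ← hminv (a : (Γ ⧸ K) →* ℂˣ) ψ (a⁻¹ • η)]
      have e : (a : (Γ ⧸ K) →* ℂˣ) • (a⁻¹ • η) = η := smul_inv_smul a η
      rw [e]
      push_cast
      rfl
  have hnormΓ : ∀ ψ : Cfsg.IrrCharacter Γ, (∀ a : H, a • ψ = ψ → a = 1) → ∀ a : H, a ≠ 1 →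
      ∑ η, ((m ψ (a • η) : ℤ) - m ψ η) ^ 2 = 2 := by
    intro ψ hfree a ha
    have hne : a⁻¹ • ψ ≠ ψ := fun h => ha (inv_eq_one.mp (hfree _ h))
    let β : Γ → ℂ := (fun g => ((a⁻¹ • ψ : Cfsg.IrrCharacter Γ) : Γ → ℂ) g - (ψ : Γ → ℂ) g)
    have hcl : Cfsg.IsClassFunction Γ β := fun x y => by
      simp only [β,
        CfsgLib.Char.IsIrrCharacter.isClassFunction (a⁻¹ • ψ : Cfsg.IrrCharacter Γ).2 x y,
        CfsgLib.Char.IsIrrCharacter.isClassFunction ψ.2 x y]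
    have hv : ∀ g : Γ, lam (g : Γ ⧸ K) = 1 → β g = 0 := by
      intro g hg
      obtain ⟨_, k, rfl⟩ := a
      change (((lam ^ k)⁻¹ (πΓ g) : ℂˣ) : ℂ) * (ψ : Γ → ℂ) g - (ψ : Γ → ℂ) g = 0
      have : (lam ^ k) (πΓ g) = 1 := by
        have e : (lam ^ k) (πΓ g) = lam (πΓ g) ^ k := map_zpow (MonoidHom.eval (πΓ g)) lam k
        rw [e, show lam (πΓ g) = 1 from hg, one_zpow]
      rw [MonoidHom.inv_apply, this, inv_one, Units.val_one, one_mul, sub_self]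
    refine sum_sq_eq_two ψ (a⁻¹ • ψ) hne (fun n : N => β n) (fun x y => hcl x y) ?_ _ fun η => ?_
    · have h := CfsgLib.Char.classInner_indFun N (fun n : N => β n) β hcl
      rw [hres β hcl hv] at h
      exact h.symm
    · rw [show (fun n : N => β n) = (fun n : N => ((a⁻¹ • ψ : Cfsg.IrrCharacter Γ) : Γ → ℂ) n) -
          fun n : N => (ψ : Γ → ℂ) n from rfl, CfsgLib.Char.classInner_sub_left, hm, hm,
        ← hminv (a : (Γ ⧸ K) →* ℂˣ) (a⁻¹ • ψ) η]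
      have e : (a : (Γ ⧸ K) →* ℂˣ) • (a⁻¹ • ψ) = ψ := smul_inv_smul a ψ
      rw [e]
      push_cast
      rfl
  -- restriction to `C` as a sum over twists
  have hM : ∀ (ψ : Cfsg.IrrCharacter Γ) (η : Cfsg.IrrCharacter N),
      Cfsg.classInner (fun c : K.subgroupOf N => (ψ : Γ → ℂ) c.1.1)
        (fun c : K.subgroupOf N => (η : N → ℂ) c.1) =
      ((∑ μ : (Γ ⧸ K) →* ℂˣ, m ψ (μ • η) : ℕ) : ℂ) := by
    intro ψ η
    have h := classInner_res_eq_sum (π := πN) hcyc hsurjN hBN η (fun n : N => (ψ : Γ → ℂ) n)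
    rw [← CfsgLib.Char.classInner_conj_symm, h, map_sum, Nat.cast_sum]
    refine Finset.sum_congr rfl fun μ _ => ?_
    rw [CfsgLib.Char.classInner_conj_symm]
    exact hm ψ (μ • η)
  -- consequences for one regular `η`
  have hfreeN : ∀ (η : Cfsg.IrrCharacter N),
      Cfsg.IsIrrCharacter (K.subgroupOf N) (fun c : K.subgroupOf N => (η : N → ℂ) c) →
      ∀ μ : (Γ ⧸ K) →* ℂˣ, μ • η = η → μ = 1 :=
    fun η h μ hμ => eq_one_of_dualTwist_eq hcyc hsurjN hBN h hμ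
  have hfreeΓ : ∀ (ψ : Cfsg.IrrCharacter Γ),
      Cfsg.IsIrrCharacter K (fun k : K => (ψ : Γ → ℂ) k) →
      ∀ μ : (Γ ⧸ K) →* ℂˣ, μ • ψ = ψ → μ = 1 :=
    fun ψ h μ hμ => eq_one_of_dualTwist_eq hcyc hsurjΓ hBΓ h hμ
  -- the regular orbit attached to `η`, and to `ψ`
  have hN2 : ∀ η : Cfsg.IrrCharacter N, (∀ μ : (Γ ⧸ K) →* ℂˣ, μ • η = η → μ = 1) →
      ∃ ψ₀ : Cfsg.IrrCharacter Γ, (∀ a : H, a • ψ₀ = ψ₀ → a = 1) ∧
        (∀ ψ, ¬ (p : ℤ) ∣ ∑ a : H, (m (a • ψ) η : ℤ) → ψ ∈ MulAction.orbit H ψ₀) ∧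
        (p : ℤ) ∣ (∑ a : H, (m (a • ψ₀) η : ℤ)) ^ 2 - 1 := fun η hη =>
    norm_two_orbit hp.out hH (fun ψ => (m ψ η : ℤ))
      (hnormN η fun a ha => Subtype.ext (hη _ ha))
  have hΓ2 : ∀ ψ : Cfsg.IrrCharacter Γ, (∀ μ : (Γ ⧸ K) →* ℂˣ, μ • ψ = ψ → μ = 1) →
      ∃ η₀ : Cfsg.IrrCharacter N, (∀ a : H, a • η₀ = η₀ → a = 1) ∧
        (∀ η, ¬ (p : ℤ) ∣ ∑ a : H, (m ψ (a • η) : ℤ) → η ∈ MulAction.orbit H η₀) ∧
        (p : ℤ) ∣ (∑ a : H, (m ψ (a • η₀) : ℤ)) ^ 2 - 1 := fun ψ hψ =>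
    norm_two_orbit hp.out hH (fun η => (m ψ η : ℤ))
      (hnormΓ ψ fun a ha => Subtype.ext (hψ _ ha))
  have hflip : ∀ (ψ : Cfsg.IrrCharacter Γ) (η : Cfsg.IrrCharacter N),
      ∑ a : H, (m (a • ψ) η : ℤ) = ∑ a : H, (m ψ (a • η) : ℤ) :=
    sum_flip_one H m hminv
  have hsq1 : ∀ z : ℤ, (p : ℤ) ∣ z ^ 2 - 1 → ¬ (p : ℤ) ∣ z := fun z hz =>
    IsUnitSignMod.notDvdInt hp.out ⟨z, rfl, hz⟩ z rfl
  -- the sum over twists of one pair
  have hpair : ∀ (ψ : Cfsg.IrrCharacter Γ) (η : Cfsg.IrrCharacter N),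
      (∀ μ : (Γ ⧸ K) →* ℂˣ, μ • η = η → μ = 1) → (∀ μ : (Γ ⧸ K) →* ℂˣ, μ • ψ = ψ → μ = 1) →
      (¬ (p : ℤ) ∣ ∑ μ : (Γ ⧸ K) →* ℂˣ, (m ψ (μ • η) : ℤ) →
        ∃ μ : (Γ ⧸ K) →* ℂˣ, ¬ (p : ℤ) ∣ ∑ a : H, (m ψ (a • μ • η) : ℤ)) ∧
      ((∃ μ : (Γ ⧸ K) →* ℂˣ, ¬ (p : ℤ) ∣ ∑ a : H, (m ψ (a • μ • η) : ℤ)) →
        (p : ℤ) ∣ (∑ μ : (Γ ⧸ K) →* ℂˣ, (m ψ (μ • η) : ℤ)) ^ 2 - 1) := by
    intro ψ η hη hψ
    obtain ⟨η₀, -, horb, hval⟩ := hΓ2 ψ hψ
    exact sum_orbit_split H (fun η => (m ψ η : ℤ)) η η₀ hη horb hval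
  have hinvK : ∀ ψ : Cfsg.IrrCharacter Γ, ∀ g,
      conjFun K (fun k : K => (ψ : Γ → ℂ) k) g = fun k : K => (ψ : Γ → ℂ) k := fun ψ g =>
    funext fun k => CfsgLib.Char.IsIrrCharacter.isClassFunction ψ.2 (k : Γ) g
  have hinvC : ∀ η : Cfsg.IrrCharacter N, ∀ n,
      conjFun (K.subgroupOf N) (fun c : K.subgroupOf N => (η : N → ℂ) c) n =
        fun c : K.subgroupOf N => (η : N → ℂ) c := fun η n =>
    funext fun c => CfsgLib.Char.IsIrrCharacter.isClassFunction η.2 (c : N) n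
  constructor
  · intro χ hχ
    obtain ⟨ψ, hψ⟩ := exists_extension_of_kernel hcyc hsurjΓ hBΓ χ.2 hχ
    have hψf := hfreeΓ ψ (by rw [hψ]; exact χ.2)
    have hMval : ∀ η : Cfsg.IrrCharacter N,
        Cfsg.classInner (fun c : K.subgroupOf N => (χ : K → ℂ) ⟨c.1.1, c.2⟩)
          (fun c : K.subgroupOf N => (η : N → ℂ) c) =
        ((∑ μ : (Γ ⧸ K) →* ℂˣ, (m ψ (μ • η) : ℤ) : ℤ) : ℂ) := fun η => by
      rw [show (fun c : K.subgroupOf N => (χ : K → ℂ) ⟨c.1.1, c.2⟩) =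
          fun c : K.subgroupOf N => (ψ : Γ → ℂ) c.1.1 from
        funext fun c => (congrFun hψ ⟨c.1.1, c.2⟩).symm, hM]
      push_cast
      rfl
    obtain ⟨η₀, hη₀, horb, hval⟩ := hΓ2 ψ hψf
    have hη₀f := hstab η₀ hη₀
    have hirr := isIrrCharacter_res_of_free hcyc hsurjN hBN (ψ := η₀) hη₀f
    refine ⟨⟨_, hirr⟩, ⟨hinvC η₀, ⟨_, hMval η₀, (hpair ψ η₀ hη₀f hψf).2 ⟨1, ?_⟩⟩⟩, ?_⟩
    · have e : (1 : (Γ ⧸ K) →* ℂˣ) • η₀ = η₀ := actN.one_smul η₀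
      rw [e]
      exact hsq1 _ hval
    · intro ξ' hξ' hnd
      obtain ⟨η', hη'⟩ := exists_extension_of_kernel hcyc hsurjN hBN ξ'.2 hξ'
      have hη'f := hfreeN η' (by rw [hη']; exact ξ'.2)
      obtain ⟨μ, hμ⟩ := (hpair ψ η' hη'f hψf).1 fun hdvd =>
        hnd _ (by rw [← hη']; exact hMval η') hdvd
      obtain ⟨b, hb⟩ := horb _ hμ
      refine Subtype.ext ?_
      rw [← hη']
      funext c
      have e := congrArg (fun t : Cfsg.IrrCharacter N => (t : N → ℂ) c) hb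
      change (((b : (Γ ⧸ K) →* ℂˣ) (πN c) : ℂˣ) : ℂ) * (η₀ : N → ℂ) c =
        ((μ (πN c) : ℂˣ) : ℂ) * (η' : N → ℂ) c at e
      rw [(hBN c.1).mp c.2, map_one, map_one, Units.val_one, one_mul, one_mul] at e
      exact e.symm
  · intro ξ hξ
    obtain ⟨η, hη⟩ := exists_extension_of_kernel hcyc hsurjN hBN ξ.2 hξ
    have hηf := hfreeN η (by rw [hη]; exact ξ.2)
    have hMval : ∀ ψ : Cfsg.IrrCharacter Γ,
        Cfsg.classInner (fun c : K.subgroupOf N => (ψ : Γ → ℂ) c.1.1) (ξ : _ → ℂ) =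
        ((∑ μ : (Γ ⧸ K) →* ℂˣ, (m ψ (μ • η) : ℤ) : ℤ) : ℂ) := fun ψ => by
      rw [← hη, hM]
      push_cast
      rfl
    obtain ⟨ψ₀, hψ₀, horb, hval⟩ := hN2 η hηf
    have hψ₀f := hstab ψ₀ hψ₀
    have hirr := isIrrCharacter_res_of_free hcyc hsurjΓ hBΓ (ψ := ψ₀) hψ₀f
    refine ⟨⟨_, hirr⟩, ⟨hinvK ψ₀, ⟨_, hMval ψ₀, (hpair ψ₀ η hηf hψ₀f).2 ⟨1, ?_⟩⟩⟩, ?_⟩
    · rw [hflip] at hval
      have e : (1 : (Γ ⧸ K) →* ℂˣ) • η = η := actN.one_smul η
      rw [e]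
      exact hsq1 _ hval
    · intro χ' hχ' hnd
      obtain ⟨ψ', hψ'⟩ := exists_extension_of_kernel hcyc hsurjΓ hBΓ χ'.2 hχ'
      have hψ'f := hfreeΓ ψ' (by rw [hψ']; exact χ'.2)
      obtain ⟨μ, hμ⟩ := (hpair ψ' η hηf hψ'f).1 fun hdvd => hnd _ (by
        rw [show (fun c : K.subgroupOf N => (χ' : K → ℂ) ⟨c.1.1, c.2⟩) =
          fun c : K.subgroupOf N => (ψ' : Γ → ℂ) c.1.1 from
            funext fun c => (congrFun hψ' ⟨c.1.1, c.2⟩).symm]
        exact hMval ψ') hdvd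
      have hμ' : ¬ (p : ℤ) ∣ ∑ a : H, (m (a • μ⁻¹ • ψ') η : ℤ) := by
        rw [sum_flip H m hminv]
        exact hμ
      obtain ⟨b, hb⟩ := horb _ hμ'
      refine Subtype.ext ?_
      rw [← hψ']
      funext k
      have e := congrArg (fun t : Cfsg.IrrCharacter Γ => (t : Γ → ℂ) k) hb
      change (((b : (Γ ⧸ K) →* ℂˣ) (πΓ k) : ℂˣ) : ℂ) * (ψ₀ : Γ → ℂ) k =
        ((μ⁻¹ (πΓ k) : ℂˣ) : ℂ) * (ψ' : Γ → ℂ) k at e
      rw [(hBΓ k.1).mp k.2, map_one, map_one, Units.val_one, one_mul, one_mul] at e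
      exact e.symm

end Main

end CfsgLib.RealChar
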