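import Cfsg.Agent.Lib.RealChar.IndForm
import Cfsg.Agent.Lib.RealChar.Trichotomy
import Cfsg.Agent.Lib.Char.CliffordOver
import Cfsg.Agent.Lib.Char.Conj
import Cfsg.Agent.Lib.Char.DefectZero
import Cfsg.Agent.Lib.CharTools.Basic
import Cfsg.Agent.Lib.CharDeep.Extend

/-!
# Real characters with an odd number of fixed points of a subgroup
-/

set_option linter.style.haveILetI false

namespace CfsgLib.RealChar

open Matrix
open scoped ComplexConjugate

variable {G : Type*} [Group G] [Fintype G]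

/-- A real irreducible character has an invertible invariant form. -/
theorem exists_unit_form {n : ℕ} (ρ : Representation ℂ G (Fin n → ℂ)) [ρ.IsIrreducible]
    (A : G →* Matrix (Fin n) (Fin n) ℂ)
    (hA : ∀ g, A g = LinearMap.toMatrix (Pi.basisFun ℂ (Fin n)) (Pi.basisFun ℂ (Fin n)) (ρ g))
    (hreal : ∀ g, (ρ.character g).im = 0) :
    ∃ F : Matrix (Fin n) (Fin n) ℂ, IsUnit F ∧ (∀ g, A g * F * (A g)ᵀ = F) ∧
      (fsInd ρ.character = 1 ∨ Fᵀ = -F) := by
  classical
  let b := Pi.basisFun ℂ (Fin n)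
  have hχ := CfsgLib.Char.isIrrCharacter_character ρ
  have hM : ∀ x, (A x).trace = ρ.character x := fun x => by
    rw [hA]
    exact (LinearMap.trace_eq_matrix_trace ℂ b _).symm
  obtain ⟨i, j, hij⟩ : ∃ i j, formAvg A (Matrix.single i j (1 : ℂ)) ≠ 0 := by
    by_contra h
    push Not at h
    have h1 := sum_formAvg_diag_eq_one A hχ hM hreal
    simp [h] at h1
  set F := formAvg A (Matrix.single i j (1 : ℂ))
  have hinv : ∀ g, A g * F * (A g)ᵀ = F := formAvg_invariant A _
  refine ⟨F, ?_, hinv, ?_⟩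
  · let f : (Fin n → ℂ) →ₗ[ℂ] (Fin n → ℂ) := Matrix.toLin b b F
    have hf0 : f ≠ 0 := fun h => hij ((Matrix.toLin b b).map_eq_zero_iff.mp h)
    have hker : ∀ y, A y * F = F * (A y⁻¹)ᵀ := by
      intro y
      conv_rhs => rw [← hinv y]
      rw [Matrix.mul_assoc _ (A y)ᵀ, ← Matrix.transpose_mul, ← map_mul, inv_mul_cancel, map_one,
        Matrix.transpose_one, Matrix.mul_one]
    have hρA : ∀ y, Matrix.toLin b b (A y) = ρ y := fun y => by
      rw [hA]
      exact Matrix.toLin_toMatrix _ _ _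
    have hrange : ∀ y : G, ∀ v ∈ LinearMap.range f, ρ y v ∈ LinearMap.range f := by
      rintro y _ ⟨w, rfl⟩
      refine ⟨Matrix.toLin b b (A y⁻¹)ᵀ w, ?_⟩
      rw [← hρA y]
      simp only [f, ← LinearMap.comp_apply, ← Matrix.toLin_mul, hker]
    have htop := (CfsgLib.CharKernel.eq_bot_or_eq_top ρ _ hrange).resolve_left
      fun h => hf0 (LinearMap.range_eq_bot.mp h)
    have hunit : IsUnit f := (Module.End.isUnit_iff _).mpr
      ⟨LinearMap.injective_iff_surjective.mpr (LinearMap.range_eq_top.mp htop),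
        LinearMap.range_eq_top.mp htop⟩
    rw [← show LinearMap.toMatrixAlgEquiv b f = F from LinearMap.toMatrix_toLin b b F]
    exact hunit.map _
  · by_cases hsym : F + Fᵀ = 0
    · exact Or.inr (eq_neg_of_add_eq_zero_right hsym)
    · refine Or.inl (fsInd_eq_one_of_symm_form A hχ hM hreal hsym ?_ fun g => ?_)
      · rw [Matrix.transpose_add, Matrix.transpose_transpose, add_comm]
      · have ht : A g * Fᵀ * (A g)ᵀ = Fᵀ := by
          conv_rhs => rw [← hinv g]
          simp only [Matrix.transpose_mul, Matrix.transpose_transpose, Matrix.mul_assoc]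
        rw [Matrix.mul_add, Matrix.add_mul, hinv g, ht]

open scoped Classical in
/-- A real irreducible character whose restriction to a subgroup contains the principal
character an odd number of times has indicator one. -/
theorem fsInd_eq_one_of_odd_fixed {χ : G → ℂ} (hχ : Cfsg.IsIrrCharacter G χ)
    (hreal : ∀ g, (χ g).im = 0) (U : Subgroup G) [Fintype U] {c : ℕ} (hc : Odd c)
    (hfix : (Nat.card U : ℂ)⁻¹ * ∑ u : U, χ u = (c : ℂ)) : fsInd χ = 1 := by
  obtain ⟨n, ρ, hρ, rfl⟩ := hχ
  haveI := hρ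
  let b := Pi.basisFun ℂ (Fin n)
  let A : G →* Matrix (Fin n) (Fin n) ℂ :=
    { toFun := fun h => LinearMap.toMatrix b b (ρ h)
      map_one' := by simp only [map_one, LinearMap.toMatrix_one]
      map_mul' := fun h h' => by simp only [map_mul, LinearMap.toMatrix_mul] }
  obtain ⟨F, hF, hinv, h | hanti⟩ := exists_unit_form ρ A (fun _ => rfl) hreal
  · exact h
  exfalso
  obtain ⟨v, hv⟩ := hF
  have hker : ∀ y, A y * F = F * (A y⁻¹)ᵀ := by
    intro y
    conv_rhs => rw [← hinv y]
    rw [Matrix.mul_assoc _ (A y)ᵀ, ← Matrix.transpose_mul, ← map_mul, inv_mul_cancel, map_one,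
      Matrix.transpose_one, Matrix.mul_one]
  set k : ℂ := (Nat.card U : ℂ)⁻¹ with hk
  set e : Matrix (Fin n) (Fin n) ℂ := k • ∑ u : U, A u with he
  -- the averaging idempotent
  have hAe : ∀ w : U, A w * e = e := by
    intro w
    rw [he, Matrix.mul_smul, Finset.mul_sum]
    congr 1
    exact Fintype.sum_equiv (Equiv.mulLeft w) _ _ fun u => by
      simp only [Equiv.coe_mulLeft, Subgroup.coe_mul, map_mul]
  have hee : e * e = e := by
    conv_lhs => arg 1; rw [he]
    rw [Matrix.smul_mul, Finset.sum_mul, Finset.sum_congr rfl fun w _ => hAe w, Finset.sum_const,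
      Finset.card_univ, ← Nat.card_eq_fintype_card, ← Nat.cast_smul_eq_nsmul ℂ, smul_smul, hk,
      inv_mul_cancel₀ (Nat.cast_ne_zero.mpr Nat.card_pos.ne'), one_smul]
  have htr : e.trace = (c : ℂ) := by
    rw [he, Matrix.trace_smul, Matrix.trace_sum, smul_eq_mul, ← hfix]
    congr 1
    exact Finset.sum_congr rfl fun u _ => (LinearMap.trace_eq_matrix_trace ℂ b _).symm
  have hFe : F * eᵀ = e * F := by
    rw [he, Matrix.transpose_smul, Matrix.transpose_sum, Matrix.mul_smul, Matrix.smul_mul,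
      Finset.mul_sum, Finset.sum_mul]
    congr 1
    refine Fintype.sum_equiv (Equiv.inv U) _ _ fun u => ?_
    simp only [Equiv.inv_apply, Subgroup.coe_inv]
    rw [hker, inv_inv]
  -- factor it through its image
  let f : (Fin n → ℂ) →ₗ[ℂ] (Fin n → ℂ) := Matrix.toLin b b e
  have hff : ∀ x, f (f x) = f x := by
    intro x
    simp only [f, ← LinearMap.comp_apply, ← Matrix.toLin_mul, hee]
  have hproj : LinearMap.IsProj (LinearMap.range f) f :=
    ⟨fun x => LinearMap.mem_range_self _ x, fun x hx => by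
      obtain ⟨y, rfl⟩ := hx
      exact hff y⟩
  have hrank : Module.finrank ℂ (LinearMap.range f) = c := by
    have h1 := hproj.trace
    rw [LinearMap.trace_eq_matrix_trace ℂ b, show LinearMap.toMatrix b b f = e from
      LinearMap.toMatrix_toLin b b e, htr] at h1
    exact_mod_cast h1.symm
  let bW := Module.finBasisOfFinrankEq ℂ (LinearMap.range f) hrank
  let B := LinearMap.toMatrix bW b (LinearMap.range f).subtype
  let C := LinearMap.toMatrix b bW f.rangeRestrict
  have hBC : B * C = e := by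
    rw [← LinearMap.toMatrix_comp b bW b]
    exact LinearMap.toMatrix_toLin b b e
  have hCB : C * B = 1 := by
    rw [← LinearMap.toMatrix_comp bW b bW, ← LinearMap.toMatrix_id bW]
    congr 1
    refine LinearMap.ext fun x => Subtype.ext ?_
    exact hproj.map_id x x.2
  set K := C * F * Cᵀ with hK
  have hKt : Kᵀ = -K := by
    rw [hK, Matrix.transpose_mul, Matrix.transpose_mul, Matrix.transpose_transpose, hanti,
      Matrix.neg_mul, Matrix.mul_neg, Matrix.mul_assoc]
  have hKi : K * (Bᵀ * (↑v⁻¹ : Matrix (Fin n) (Fin n) ℂ) * B) = 1 := by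
    calc K * (Bᵀ * (↑v⁻¹ : Matrix (Fin n) (Fin n) ℂ) * B)
        = C * (F * (B * C)ᵀ) * (↑v⁻¹ : Matrix (Fin n) (Fin n) ℂ) * B := by
          rw [hK, Matrix.transpose_mul]
          simp only [Matrix.mul_assoc]
      _ = C * e * (F * (↑v⁻¹ : Matrix (Fin n) (Fin n) ℂ)) * B := by
          rw [hBC, hFe]
          simp only [Matrix.mul_assoc]
      _ = (C * B) * (C * B) := by
          rw [← hv, Units.mul_inv, Matrix.mul_one, ← hBC]
          simp only [Matrix.mul_assoc]
      _ = 1 := by rw [hCB, Matrix.one_mul]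
  have hdet : K.det = 0 := by
    have h1 : K.det = -K.det := by
      conv_lhs => rw [← Matrix.det_transpose, hKt, Matrix.det_neg, Fintype.card_fin, hc.neg_one_pow,
        neg_one_mul]
    linear_combination h1 / 2
  have h2 := congrArg Matrix.det hKi
  rw [Matrix.det_mul, hdet, zero_mul, Matrix.det_one] at h2
  exact zero_ne_one h2

open scoped Classical in
/-- The fixed points of `U` in a character induced from `T`, when `G = UT`. -/
theorem sum_res_indFun_of_mul {T U : Subgroup G} [Fintype T] [Fintype U]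
    [Fintype (U.subgroupOf T)] (hTU : ∀ x : G, ∃ u ∈ U, ∃ t ∈ T, x = u * t)
    {ψ : T → ℂ} (hψ : Cfsg.IsClassFunction T ψ) :
    (Nat.card U : ℂ)⁻¹ * ∑ u : U, Cfsg.indFun T ψ u =
      (Nat.card (U.subgroupOf T) : ℂ)⁻¹ * ∑ v : U.subgroupOf T, ψ v := by
  have hx : ∀ x : G, ∑ u : U, Cfsg.extendByZero T ψ (x⁻¹ * u * x) =
      ∑ v : U.subgroupOf T, ψ v := by
    intro x
    obtain ⟨w, hw, t, ht, rfl⟩ := hTU x
    have h1 : ∀ u : U, Cfsg.extendByZero T ψ ((w * t)⁻¹ * u * (w * t)) =
        Cfsg.extendByZero T ψ ((MulAut.conj (⟨w, hw⟩ : U)⁻¹ u : U) : G) := by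
      intro u
      rw [show (w * t)⁻¹ * (u : G) * (w * t) =
        ((⟨t, ht⟩ : T)⁻¹ : T) * ((MulAut.conj (⟨w, hw⟩ : U)⁻¹ u : U) : G) *
          (((⟨t, ht⟩ : T)⁻¹ : T) : G)⁻¹ by simp [mul_assoc],
        CfsgLib.Char.extendByZero_conj T ψ hψ]
    simp only [h1]
    refine (Fintype.sum_equiv (MulAut.conj (⟨w, hw⟩ : U)⁻¹).toEquiv _
      (fun u : U => Cfsg.extendByZero T ψ u) fun u => rfl).trans ?_
    rw [← Finset.sum_filter_add_sum_filter_not Finset.univ (fun u : U => (u : G) ∈ T),
      Finset.sum_eq_zero (s := Finset.univ.filter fun u : U => ¬(u : G) ∈ T) (fun u hu =>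
        CfsgLib.Char.extendByZero_of_notMem T ψ (Finset.mem_filter.mp hu).2), add_zero]
    refine Finset.sum_bij (fun u hu => ⟨⟨(u : G), (Finset.mem_filter.mp hu).2⟩, u.2⟩)
      (fun u hu => Finset.mem_univ _) (fun a _ b _ h => ?_) (fun v _ => ?_) (fun u hu => ?_)
    · exact Subtype.ext (congrArg (fun z : U.subgroupOf T => ((z : T) : G)) h)
    · exact ⟨⟨((v : T) : G), v.2⟩, Finset.mem_filter.mpr ⟨Finset.mem_univ _, (v : T).2⟩, rfl⟩
    · exact CfsgLib.Char.extendByZero_apply_mem T ψ _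
  have hidx : U.relIndex T = U.index := by
    let f : T ⧸ U.subgroupOf T → G ⧸ U :=
      Quotient.map' (fun t : T => (t : G)) fun a b h => by
        rw [QuotientGroup.leftRel_apply] at h ⊢
        simpa [Subgroup.mem_subgroupOf] using h
    refine Nat.card_congr (Equiv.ofBijective f ⟨?_, ?_⟩)
    · rintro ⟨a⟩ ⟨b⟩ h
      refine QuotientGroup.eq.mpr ?_
      rw [Subgroup.mem_subgroupOf]
      simpa using QuotientGroup.eq.mp h
    · rintro ⟨g⟩
      obtain ⟨u, hu, t, ht, hg⟩ := hTU g⁻¹
      refine ⟨QuotientGroup.mk (⟨t, ht⟩⁻¹ : T), QuotientGroup.eq.mpr ?_⟩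
      have hgi : g = t⁻¹ * u⁻¹ := by rw [← _root_.mul_inv_rev, ← hg, inv_inv]
      rw [hgi]
      simpa using U.inv_mem hu
  have hcard : (Nat.card T : ℂ) * Nat.card U = Nat.card G * Nat.card (U.subgroupOf T) := by
    have h1 := (U.subgroupOf T).card_mul_index
    have h2 := U.card_mul_index
    rw [show (U.subgroupOf T).index = U.index from hidx] at h1
    have : Nat.card T * Nat.card U = Nat.card G * Nat.card (U.subgroupOf T) := by
      rw [← h1, ← h2]; ring
    exact_mod_cast this
  simp only [Cfsg.indFun, ← Finset.mul_sum]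
  rw [Finset.sum_comm, Finset.sum_congr rfl fun x _ => hx x, Finset.sum_const, Finset.card_univ,
    nsmul_eq_mul, ← Nat.card_eq_fintype_card]
  have hT : (Nat.card T : ℂ) ≠ 0 := Nat.cast_ne_zero.mpr Nat.card_pos.ne'
  have hU : (Nat.card U : ℂ) ≠ 0 := Nat.cast_ne_zero.mpr Nat.card_pos.ne'
  have hV : (Nat.card (U.subgroupOf T) : ℂ) ≠ 0 := Nat.cast_ne_zero.mpr Nat.card_pos.ne'
  field_simp
  linear_combination -(∑ v : U.subgroupOf T, ψ v) * hcard

/-- An odd multiplicity over a defect-zero situation with a `p`-group quotient is one. -/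
theorem mult_eq_one_of_odd (N : Subgroup G) [N.Normal] [Fintype N] {φ : N → ℂ}
    (hφ : Cfsg.IsIrrCharacter N φ) (h2 : IsPGroup 2 (G ⧸ N)) {χ : G → ℂ}
    (hχ : Cfsg.IsIrrCharacter G χ) {m : ℕ} (hm : Odd m)
    (hmult : Cfsg.classInner (fun n : N => χ n) φ = (m : ℂ)) : m = 1 := by
  classical
  set T := CharTwist.inertia N φ
  have hNT : N ≤ T := CharTwist.le_inertia N (CfsgLib.Char.IsIrrCharacter.isClassFunction hφ)
  haveI : Fintype T := Fintype.ofFinite _
  have hne : Cfsg.classInner (fun n : N => χ n) φ ≠ 0 := by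
    rw [hmult]
    exact Nat.cast_ne_zero.mpr hm.pos.ne'
  obtain ⟨ψ, hψ, -, -, hψm⟩ :=
    CfsgLib.CliffordOver.exists_indFun_eq N T hNT hφ le_rfl hχ hne
  rw [hmult] at hψm
  let N' := N.subgroupOf T
  haveI : Fintype N' := Fintype.ofFinite _
  let φ' := CfsgLib.CliffordOver.trans N T hNT φ
  have hφ' : Cfsg.IsIrrCharacter N' φ' := CfsgLib.CliffordOver.isIrrCharacter_trans N T hNT hφ
  have hinv : ∀ (g : T) (n : N'),
      φ' ⟨g * n * g⁻¹, (inferInstance : N'.Normal).conj_mem (n : T) n.2 g⟩ = φ' n := by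
    intro g n
    have hg : g ∈ CharTwist.inertia N' φ' := by
      rw [CfsgLib.CliffordOver.inertia_trans, Subgroup.mem_subgroupOf]
      exact g.2
    exact congrFun (CharTwist.mem_inertia.mp hg) n
  obtain ⟨b, d, hd, hψ1, hb⟩ := CfsgLib.CharDeep.Extend.degree_dvd N' φ' hφ' hinv ψ hψ (by
    rw [CfsgLib.CliffordOver.classInner_trans, hψm]
    exact Nat.cast_ne_zero.mpr hm.pos.ne')
  have hd' : φ 1 = (d : ℂ) := by
    rw [← hd]
    exact congrArg φ (map_one (Subgroup.subgroupOfEquivOfLe hNT)).symm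
  have hd0 : (d : ℂ) ≠ 0 := hd' ▸ CfsgLib.Char.IsIrrCharacter.apply_one_ne_zero hφ
  have h1 := CfsgLib.CliffordOver.apply_one_eq N T hNT hφ hψ (by
    rw [hψm]
    exact Nat.cast_ne_zero.mpr hm.pos.ne')
  rw [hψm, hψ1, hd', show (CharTwist.inertia N φ).relIndex T = 1 from Subgroup.relIndex_self T,
    Nat.cast_one, mul_one, Nat.cast_mul] at h1
  have hbm : b = m := by exact_mod_cast mul_right_cancel₀ hd0 h1
  obtain ⟨k, hk⟩ := IsPGroup.iff_card.mp h2
  have hdvd : m ∣ 2 ^ k := by
    rw [← hbm, ← hk, ← Subgroup.index_eq_card]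
    exact hb.trans (Subgroup.relIndex_dvd_index_of_normal N T)
  obtain ⟨j, -, rfl⟩ := (Nat.dvd_prime_pow Nat.prime_two).mp hdvd
  rcases Nat.eq_zero_or_pos j with rfl | hj
  · exact pow_zero 2
  · exact absurd hm (Nat.not_odd_iff_even.mpr ((even_two).pow_of_ne_zero hj.ne'))

open scoped Classical in
/-- A `2`-defect zero character conjugate to its complex conjugate, below a `2`-group, lies under
a strongly real character with multiplicity one. -/
theorem exists_strongly_real_over (N : Subgroup G) [N.Normal] [Fintype N]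
    (h2 : IsPGroup 2 (G ⧸ N)) (φ : Cfsg.IrrCharacter N)
    (hdef : 2 ^ (Nat.card N).factorization 2 ∣ Cfsg.charDegree (φ : N → ℂ))
    (hconj : ∃ g : G, CharTwist.conjFun N (φ : N → ℂ) g = fun n => conj ((φ : N → ℂ) n)) :
    ∃ χ : Cfsg.IrrCharacter G, fsInd (χ : G → ℂ) = 1 ∧
      Cfsg.classInner (fun n : N => (χ : G → ℂ) n) (φ : N → ℂ) = 1 := by
  obtain ⟨g, hg⟩ := hconj
  haveI : Fact (Nat.Prime 2) := ⟨Nat.prime_two⟩
  let U : Sylow 2 G := default
  set P : Subgroup G := (U : Subgroup G) with hP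
  have hsup : ∀ x : G, ∃ u ∈ P, ∃ t ∈ N, x = u * t := by
    have htop : N ⊔ P = ⊤ := by
      rw [← Subgroup.index_eq_one]
      obtain ⟨k, hk⟩ := IsPGroup.iff_card.mp h2
      have h1 : (N ⊔ P).index ∣ 2 ^ k := by
        rw [← hk, ← Subgroup.index_eq_card]
        exact Subgroup.index_dvd_of_le le_sup_left
      obtain ⟨j, -, hj⟩ := (Nat.dvd_prime_pow Nat.prime_two).mp h1
      have h3 : ¬ 2 ∣ (N ⊔ P).index := fun h =>
        U.not_dvd_index (h.trans (Subgroup.index_dvd_of_le le_sup_right))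
      rcases Nat.eq_zero_or_pos j with rfl | hj0
      · rw [hj, pow_zero]
      · exact absurd (hj ▸ dvd_pow_self 2 hj0.ne') h3
    intro x
    obtain ⟨u, hu, t, ht, rfl⟩ := Subgroup.mem_sup_of_normal_right.mp
      (show x ∈ P ⊔ N by rw [sup_comm, htop]; exact Subgroup.mem_top x)
    exact ⟨u, hu, t, ht, rfl⟩
  have hφcl := CfsgLib.Char.IsIrrCharacter.isClassFunction φ.2
  -- the sum over the Sylow subgroup of `N`
  set V := P.subgroupOf N with hV
  have hVp : IsPGroup 2 V := U.isPGroup'.comap_of_injective N.subtype N.subtype_injective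
  obtain ⟨k, hk⟩ := IsPGroup.iff_card.mp hVp
  have hkv : (Nat.card N).factorization 2 = k := by
    have h1 := Subgroup.relIndex_dvd_index_of_normal N P
    have hVi : ¬ 2 ∣ V.index := by
      intro h
      have h3 : Nat.card N * Nat.card P = Nat.card G * Nat.card V := by
        have hNi : N.relIndex P = N.index := by
          rw [← Subgroup.relIndex_sup_right]
          have : P ⊔ N = ⊤ := eq_top_iff.mpr fun x _ => by
            obtain ⟨u, hu, t, ht, rfl⟩ := hsup x
            exact Subgroup.mul_mem_sup hu ht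
          rw [this, Subgroup.relIndex_top_right]
        have e1 := (N.subgroupOf P).card_mul_index
        have e2 := N.card_mul_index
        have e3 : Nat.card (N.subgroupOf P) = Nat.card V := Nat.card_congr
          { toFun := fun x => ⟨⟨((x : P) : G), x.2⟩, (x : P).2⟩
            invFun := fun x => ⟨⟨((x : N) : G), x.2⟩, (x : N).2⟩
            left_inv := fun x => rfl
            right_inv := fun x => rfl }
        rw [show (N.subgroupOf P).index = N.index from hNi, e3] at e1
        rw [← e1, ← e2]; ring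
      rw [← V.card_mul_index, ← P.card_mul_index] at h3
      have h4 : Nat.card V * Nat.card P * V.index = Nat.card V * Nat.card P * P.index := by
        linarith
      have h5 := Nat.eq_of_mul_eq_mul_left (Nat.mul_pos Nat.card_pos Nat.card_pos) h4
      exact U.not_dvd_index (h5 ▸ h)
    rw [← V.card_mul_index, hk, Nat.factorization_mul (pow_ne_zero _ two_ne_zero)
      Subgroup.index_ne_zero_of_finite, Finsupp.add_apply, Nat.prime_two.factorization_pow,
      Finsupp.single_eq_same, Nat.factorization_eq_zero_of_not_dvd hVi, add_zero]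
  rw [hkv] at hdef
  obtain ⟨a, ha⟩ := hdef
  have hdN : Cfsg.charDegree (φ : N → ℂ) ∣ Nat.card N := CfsgLib.CharTools.degree_dvd_card φ
  have hodd : Odd a := by
    rw [Nat.odd_iff, ← Nat.two_dvd_ne_zero]
    intro h
    have h1 : 2 ^ (k + 1) ∣ Nat.card N := by
      refine Nat.dvd_trans ?_ hdN
      rw [ha, pow_succ]
      exact Nat.mul_dvd_mul_left _ h
    have := (Nat.prime_two.pow_dvd_iff_le_factorization Nat.card_pos.ne').mp h1
    omega
  have hS : (Nat.card V : ℂ)⁻¹ * ∑ v : V, (φ : N → ℂ) v = (a : ℂ) := by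
    have hzero : ∀ v : V, v ≠ 1 → (φ : N → ℂ) (v : N) = 0 := by
      intro v hv
      obtain ⟨n, ρ, hρ, he⟩ := φ.2
      haveI := hρ
      rw [← he]
      have hdeg : Module.finrank ℂ (Fin n → ℂ) = 2 ^ k * a := by
        rw [← ha]
        have : Cfsg.charDegree (φ : N → ℂ) = Module.finrank ℂ (Fin n → ℂ) := by
          rw [← he]
          exact CfsgLib.Char.degree_character ρ
        exact this.symm
      refine CfsgLib.Char.character_eq_zero_of_defect_zero ρ Nat.prime_two (n := k) ?_ ?_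
        ⟨a, hdeg⟩ (v : N) ?_
      · rw [← hk]
        exact V.card_subgroup_dvd_card
      · intro h
        have := (Nat.prime_two.pow_dvd_iff_le_factorization Nat.card_pos.ne').mp h
        omega
      · obtain ⟨j, hj⟩ := IsPGroup.iff_orderOf.mp hVp v
        rw [← Subgroup.orderOf_coe] at hj
        rw [hj]
        refine dvd_pow_self 2 fun h0 => hv ?_
        rw [h0, pow_zero, orderOf_eq_one_iff] at hj
        exact Subtype.ext hj
    rw [Fintype.sum_eq_single 1 hzero, OneMemClass.coe_one, ← CfsgLib.CharTools.irr_degree_cast φ, ha,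
      hk, Nat.cast_mul, inv_mul_cancel_left₀ (Nat.cast_ne_zero.mpr (pow_ne_zero _ two_ne_zero))]
  -- expansion of the induced character
  have hInd := CfsgLib.Char.IsCharacter.indFun N (CfsgLib.Char.IsIrrCharacter.isCharacter φ.2)
  choose m hm using fun χ : Cfsg.IrrCharacter G => CfsgLib.Char.IsCharacter.exists_nat_classInner
    (CfsgLib.Clifford.isCharacter_res (CfsgLib.Char.IsIrrCharacter.isCharacter χ.2) N) φ.2
  choose c hc using fun χ : Cfsg.IrrCharacter G => CfsgLib.Char.IsCharacter.exists_nat_classInner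
    (CfsgLib.Clifford.isCharacter_res (CfsgLib.Char.IsIrrCharacter.isCharacter χ.2) P)
    (CfsgLib.Char.isIrrCharacter_linear (1 : P →* ℂˣ))
  have hc' : ∀ χ : Cfsg.IrrCharacter G,
      (Nat.card P : ℂ)⁻¹ * ∑ u : P, (χ : G → ℂ) u = (c χ : ℂ) := by
    intro χ
    rw [← hc χ, Cfsg.classInner]
    simp
  have htotal : ∑ χ, m χ * c χ = a := by
    have h1 := sum_res_indFun_of_mul (T := N) (U := P) hsup hφcl
    rw [hS, CfsgLib.Char.IsCharacter.eq_sum_classInner hInd] at h1
    simp only [Finset.sum_apply, Pi.smul_apply, smul_eq_mul] at h1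
    rw [Finset.sum_comm, Finset.mul_sum] at h1
    have h2 : ∀ χ : Cfsg.IrrCharacter G,
        Cfsg.classInner (Cfsg.indFun N (φ : N → ℂ)) (χ : G → ℂ) = (m χ : ℂ) := by
      intro χ
      rw [CfsgLib.Char.classInner_indFun N _ _ (CfsgLib.Char.IsIrrCharacter.isClassFunction χ.2),
        ← CfsgLib.Char.classInner_conj_symm, hm, map_natCast]
    have h3 : ((∑ χ, m χ * c χ : ℕ) : ℂ) = (a : ℂ) := by
      rw [← h1, Nat.cast_sum]
      refine Finset.sum_congr rfl fun χ _ => ?_
      rw [Nat.cast_mul, h2, ← hc', ← Finset.mul_sum]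
      ring
    exact_mod_cast h3
  -- complex conjugation preserves both multiplicities
  let τ : Cfsg.IrrCharacter G → Cfsg.IrrCharacter G := fun χ =>
    ⟨_, CfsgLib.CharTwist.isIrrCharacter_conj χ.2⟩
  have hττ : ∀ χ, τ (τ χ) = χ := fun χ => Subtype.ext (funext fun x => Complex.conj_conj _)
  have hτm : ∀ χ, m (τ χ) = m χ := by
    intro χ
    have h1 : Cfsg.classInner (fun n : N => (χ : G → ℂ) n) (fun n => conj ((φ : N → ℂ) n)) =
        (m χ : ℂ) := by
      rw [← hg, CfsgLib.Clifford.classInner_res_conjFun N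
        (CfsgLib.Char.IsIrrCharacter.isClassFunction χ.2), hm]
    have h2 := congrArg conj h1
    rw [map_natCast, Cfsg.classInner, map_mul, map_inv₀, map_natCast, map_sum] at h2
    have h3 := hm (τ χ)
    rw [Cfsg.classInner] at h3
    simp only [map_mul, Complex.conj_conj] at h2
    have h4 : ((m (τ χ) : ℕ) : ℂ) = (m χ : ℂ) := by rw [← h3, ← h2]
    exact_mod_cast h4
  have hτc : ∀ χ, c (τ χ) = c χ := by
    intro χ
    have h2 := congrArg conj (hc' χ)
    rw [map_natCast, map_mul, map_inv₀, map_natCast, map_sum] at h2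
    have h4 : ((c (τ χ) : ℕ) : ℂ) = (c χ : ℂ) := by rw [← hc', ← h2]
    exact_mod_cast h4
  obtain ⟨χ, hfix, hχodd⟩ : ∃ χ, τ χ = χ ∧ Odd (m χ * c χ) := by
    by_contra hcon
    push Not at hcon
    have h0 : (∑ χ, ((m χ * c χ : ℕ) : ZMod 2)) = 0 := by
      refine Finset.sum_involution (fun χ _ => τ χ) (fun χ _ => ?_) (fun χ _ hne heq => hne ?_)
        (fun χ _ => Finset.mem_univ _) (fun χ _ => hττ χ)
      · rw [hτm, hτc]
        exact CharTwo.add_self_eq_zero _
      · exact ZMod.natCast_eq_zero_iff_even.mpr (Nat.not_odd_iff_even.mp (hcon χ heq))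
    rw [← Nat.cast_sum, htotal, ZMod.natCast_eq_zero_iff_even] at h0
    exact Nat.not_even_iff_odd.mpr hodd h0
  obtain ⟨hmo, hco⟩ := Nat.odd_mul.mp hχodd
  refine ⟨χ, ?_, ?_⟩
  · refine fsInd_eq_one_of_odd_fixed χ.2 (fun x => ?_) P hco (hc' χ)
    exact Complex.conj_eq_iff_im.mp (congrFun (congrArg Subtype.val hfix) x)
  · rw [hm, mult_eq_one_of_odd N φ.2 h2 χ.2 hmo (hm χ), Nat.cast_one]

end CfsgLib.RealChar
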