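import Cfsg.Agent.Lib.RealChar.DegreeSylow
import Cfsg.Agent.Lib.PLocal.PSolvable
import Cfsg.Agent.Lib.Solvable.CoprimeAction
import Cfsg.Agent.Lib.Solvable.SmallOrder
import Mathlib

/-!
# Small faithful characters of `p`-solvable groups
-/

set_option autoImplicit false

open scoped ComplexConjugate

universe u

namespace CfsgLib.RealChar.DegSylow

attribute [local instance high] Fintype.ofFinite

open CfsgLib

variable {G : Type u} [Group G] [Finite G]

/-- A `p`-solvable group with a non-normal Sylow subgroup has a solvable subgroup with one. -/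
theorem exists_solvable_subgroup {p : ℕ} [hp : Fact p.Prime] (hs : Cfsg.IsPSolvable p G)
    (P : Sylow p G) (hP : ¬ (P : Subgroup G).Normal) :
    ∃ H : Subgroup G, Group.IsSolvable H ∧ ∃ T : Sylow p H, ¬ (T : Subgroup H).Normal := by
  classical
  by_contra hcon
  push Not at hcon
  set R := Cfsg.pCore p G with hR
  have hRp : IsPGroup p R := Solvable.pCore_isPGroup p G
  haveI : R.Normal := Solvable.pCore_normal p G
  set π := QuotientGroup.mk' R with hπ
  have hπs : Function.Surjective π := QuotientGroup.mk'_surjective R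
  have hsQ : Cfsg.IsPSolvable p (G ⧸ R) := PLoc.isPSolvable_of_surjective hπs hs
  have hOQ : Cfsg.pCore p (G ⧸ R) = ⊥ := Solvable.pCore_quotient_eq_bot R rfl
  set A := Cfsg.pPrimeCore p (G ⧸ R) with hA
  haveI : A.Normal := Solvable.pPrimeCore_normal p (G ⧸ R)
  have hAp : (Nat.card A).Coprime p := Solvable.pPrimeCore_card_coprime p (G ⧸ R)
  have hCA := PLocal.centralizer_pPrimeCore_le_self hsQ hOQ
  obtain ⟨u, huP, huR⟩ : ∃ u ∈ (P : Subgroup G), u ∉ R := by
    by_contra h
    push Not at h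
    exact hP ((le_antisymm h (Solvable.le_pCore inferInstance hRp |>.trans
      (by
        intro x hx
        have h1 : IsPGroup p ↥((P : Subgroup G) ⊔ R) := P.2.to_sup_of_normal_right hRp
        exact (P.3 h1 le_sup_left) ▸ Subgroup.mem_sup_right hx))) ▸ ‹R.Normal›)
  set x := π u with hx
  have hx1 : x ≠ 1 := fun h => huR ((QuotientGroup.eq_one_iff u).mp h)
  obtain ⟨k, hk⟩ := P.2 ⟨u, huP⟩
  have huk : u ^ p ^ k = 1 := by simpa [Subtype.ext_iff] using hk
  have hxp : IsPGroup p (Subgroup.zpowers x) := by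
    have hxk : x ^ p ^ k = 1 := by rw [hx, ← map_pow, huk, map_one]
    obtain ⟨j, -, hj⟩ := (Nat.dvd_prime_pow hp.out).mp (orderOf_dvd_of_pow_eq_one hxk)
    exact IsPGroup.of_card (n := j) (by rw [Nat.card_zpowers, hj])
  have hcop : ∀ (B : Subgroup (G ⧸ R)), IsPGroup p B → B ⊓ A = ⊥ := by
    intro B hB
    obtain ⟨j, hj⟩ := IsPGroup.iff_card.mp hB
    exact Subgroup.inf_eq_bot_of_coprime (by rw [hj]; exact Nat.Coprime.pow_left j hAp.symm)
  have hxA : ¬ ∀ a ∈ A, Commute x a := by
    intro h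
    have h1 : x ∈ A := hCA (Subgroup.mem_centralizer_iff.mpr fun a ha => (h a ha).symm.eq)
    exact hx1 (Subgroup.mem_bot.mp (hcop _ hxp ▸ ⟨Subgroup.mem_zpowers x, h1⟩))
  have hzA : Subgroup.zpowers x ≤ Subgroup.normalizer (A : Set (G ⧸ R)) := by
    rw [Subgroup.normalizer_eq_top]
    exact le_top
  have hcopz : (Nat.card (Subgroup.zpowers x)).Coprime (Nat.card A) := by
    obtain ⟨j, hj⟩ := IsPGroup.iff_card.mp hxp
    rw [hj]
    exact Nat.Coprime.pow_left j hAp.symm
  apply hxA
  set C := A ⊓ Subgroup.centralizer ({x} : Set (G ⧸ R)) with hC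
  suffices hCA' : Nat.card A ∣ Nat.card C by
    have hCeq : C = A := Subgroup.eq_of_le_of_card_ge inf_le_left (Nat.le_of_dvd Nat.card_pos hCA')
    intro a ha
    exact (Subgroup.mem_centralizer_singleton_iff.mp (hCeq.ge ha).2).symm
  rw [← Nat.factorization_prime_le_iff_dvd Nat.card_pos.ne' Nat.card_pos.ne']
  intro q hq
  haveI : Fact q.Prime := ⟨hq⟩
  obtain ⟨S, hS⟩ := Solvable.exists_invariant_sylow hzA hcopz (Or.inl inferInstance) q
  set S' := (S : Subgroup A).map A.subtype with hS'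
  have hS'A : S' ≤ A := Subgroup.map_subtype_le _
  rw [← hq.pow_dvd_iff_le_factorization Nat.card_pos.ne', ← S.card_eq_multiplicity,
    ← Subgroup.card_subtype A]
  refine Subgroup.card_dvd_of_le (le_inf hS'A fun s hs => ?_)
  -- the solvable subgroup above `⟨x⟩ S`
  set B := S' ⊔ Subgroup.zpowers x with hB
  haveI : Group.IsSolvable S' := by
    haveI : Group.IsNilpotent S' := (S.2.map A.subtype).isNilpotent
    infer_instance
  haveI hBs : Group.IsSolvable B := by
    have hxS : Subgroup.zpowers x ≤ Subgroup.normalizer (S' : Set (G ⧸ R)) := hS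
    have hn : (S'.subgroupOf B).Normal := by
      rw [Subgroup.normal_subgroupOf_iff_le_normalizer le_sup_left]
      exact sup_le Subgroup.le_normalizer hxS
    refine Solvable.isSolvable_of_normal (S'.subgroupOf B)
      (solvable_of_solvable_injective
        (f := (Subgroup.subgroupOfEquivOfLe (le_sup_left : S' ≤ B)).toMonoidHom)
        (Subgroup.subgroupOfEquivOfLe (le_sup_left : S' ≤ B)).injective) ?_
    have hcomm : ∀ a b : B ⧸ S'.subgroupOf B, a * b = b * a := by
      intro a b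
      have key : ∀ c : B ⧸ S'.subgroupOf B, ∃ i : ℤ,
          c = (QuotientGroup.mk ⟨x, Subgroup.mem_sup_right (Subgroup.mem_zpowers x)⟩) ^ i := by
        intro c
        induction c using QuotientGroup.induction_on with | _ c => ?_
        obtain ⟨y, hy⟩ := c
        have hy' : y ∈ ((S' ⊔ Subgroup.zpowers x : Subgroup (G ⧸ R)) : Set (G ⧸ R)) := hy
        rw [Subgroup.coe_mul_of_right_le_normalizer_left _ _ hxS] at hy'
        obtain ⟨m, hm, z, hz, rfl⟩ := hy'
        obtain ⟨i, rfl⟩ := hz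
        refine ⟨i, ?_⟩
        have e : (⟨m * x ^ i, hy⟩ : B) = ⟨m, Subgroup.mem_sup_left hm⟩ *
            (⟨x, Subgroup.mem_sup_right (Subgroup.mem_zpowers x)⟩ : B) ^ i := by
          ext; simp
        rw [e, QuotientGroup.mk_mul, QuotientGroup.mk_zpow,
          (QuotientGroup.eq_one_iff _).mpr (Subgroup.mem_subgroupOf.mpr hm), one_mul]
      obtain ⟨i, rfl⟩ := key a
      obtain ⟨j, rfl⟩ := key b
      rw [← zpow_add, ← zpow_add, add_comm]
    exact Group.isSolvable_of_comm hcomm
  set H := B.comap π with hH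
  haveI hHs : Group.IsSolvable H := by
    haveI : Group.IsNilpotent R := hRp.isNilpotent
    let f : H →* B := (π.comp H.subtype).codRestrict B fun h => h.2
    refine Group.isSolvable_of_ker_le_range (Subgroup.inclusion
      (show R ≤ H from fun r hr => by
        show π r ∈ B
        rw [show π r = 1 from (QuotientGroup.eq_one_iff r).mpr hr]; exact B.one_mem)) f ?_
    intro h hh
    have h1 : π (h : G) = 1 := congrArg Subtype.val hh
    exact ⟨⟨h, (QuotientGroup.eq_one_iff _).mp h1⟩, rfl⟩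
  obtain ⟨T⟩ : Nonempty (Sylow p H) := inferInstance
  haveI hTn : (T : Subgroup H).Normal := hcon H hHs T
  have huH : u ∈ H := Subgroup.mem_sup_right (Subgroup.mem_zpowers x)
  have huT : (⟨u, huH⟩ : H) ∈ (T : Subgroup H) := by
    have hup : IsPGroup p (Subgroup.zpowers (⟨u, huH⟩ : H)) := by
      obtain ⟨j, -, hj⟩ := (Nat.dvd_prime_pow hp.out).mp (orderOf_dvd_of_pow_eq_one
        (show (⟨u, huH⟩ : H) ^ p ^ k = 1 from Subtype.ext (by simpa using huk)))
      exact IsPGroup.of_card (n := j) (by rw [Nat.card_zpowers, hj])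
    exact (T.3 (T.2.to_sup_of_normal_left hup) le_sup_left) ▸
      Subgroup.mem_sup_right (Subgroup.mem_zpowers _)
  obtain ⟨s', rfl⟩ := hπs s
  have hs'H : s' ∈ H := Subgroup.mem_sup_left hs
  have hc : π s' * π u * (π s')⁻¹ * (π u)⁻¹ = 1 := by
    rw [← Subgroup.mem_bot, ← hcop (((T : Subgroup H).map H.subtype).map π)
      ((T.2.map H.subtype).map π)]
    refine ⟨⟨s' * u * s'⁻¹ * u⁻¹, ⟨⟨s', hs'H⟩ * ⟨u, huH⟩ * ⟨s', hs'H⟩⁻¹ * ⟨u, huH⟩⁻¹, ?_, rfl⟩,
      by simp⟩, ?_⟩
    · exact Subgroup.mul_mem _ (hTn.conj_mem _ huT _) (Subgroup.inv_mem _ huT)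
    · have h1 : π u * (π s')⁻¹ * (π u)⁻¹ ∈ A :=
        Subgroup.Normal.conj_mem ‹A.Normal› _ (A.inv_mem (hS'A hs)) _
      have h2 := A.mul_mem (hS'A hs) h1
      simpa [mul_assoc] using h2
  rw [Subgroup.mem_centralizer_singleton_iff]
  exact mul_inv_eq_iff_eq_mul.mp (mul_inv_eq_one.mp hc)

/-- A faithful character of degree less than `p` of a `p`-solvable group with a non-normal Sylow
`p`-subgroup. -/
theorem small_degree {p : ℕ} [hp : Fact p.Prime] (hs : Cfsg.IsPSolvable p G) {χ : G → ℂ}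
    (hχ : Cfsg.IsCharacter G χ) (hfaith : ∀ g : G, χ g = χ 1 → g = 1)
    (hnp : Char.degree χ + 1 ≤ p) (P : Sylow p G) (hP : ¬ (P : Subgroup G).Normal) :
    Char.degree χ + 1 = p ∧ (∃ k : ℕ, Char.degree χ = 2 ^ k) ∧ Cfsg.IsIrrCharacter G χ := by
  obtain ⟨H, hH, T, hT⟩ := exists_solvable_subgroup hs P hP
  have hχH := Clifford.isCharacter_res hχ H
  obtain ⟨θ, hθ, hθc, K, hK, ψ, Q, hψf, hψ, hQ⟩ :=
    exists_constituent_not_normal T hT hχH (fun g hg => Subtype.ext (hfaith g hg))
  haveI := hH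
  obtain ⟨q, i, hq, hi, hd, hc⟩ := good_degree (Nat.card (H ⧸ K)) (H ⧸ K) le_rfl
    (solvable_of_surjective (QuotientGroup.mk'_surjective K)) (ψ : H ⧸ K → ℂ) ψ.2 hψf Q hQ
  have hdeg : Char.degree (ψ : H ⧸ K → ℂ) = Char.degree θ := by
    have h1 := Char.IsCharacter.degree_cast (Char.IsIrrCharacter.isCharacter ψ.2)
    have h2 := Char.IsCharacter.degree_cast (Char.IsIrrCharacter.isCharacter hθ)
    rw [← hψ 1, QuotientGroup.mk_one, ← h1] at h2
    exact_mod_cast h2.symm
  have hres : Char.degree (fun x : H => χ x) = Char.degree χ := by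
    have h1 := Char.IsCharacter.degree_cast hχH
    simp only [OneMemClass.coe_one] at h1
    rw [← Char.IsCharacter.degree_cast hχ] at h1
    exact_mod_cast h1
  obtain ⟨hle, heq⟩ := CharDeep.Cliff.degree_le_of_constituent hχH hθ hθc
  have hθpos := Char.IsIrrCharacter.degree_pos hθ
  rw [hdeg] at hd
  have hqθ : q ^ i ≤ Char.degree θ := Nat.le_of_dvd hθpos hd
  have hq2 : 2 ≤ q ^ i := le_trans hq.two_le (Nat.le_self_pow hi.ne' q)
  have hkey : q ^ i + 1 = p := by
    rcases hc with h | h | h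
    · exact absurd (Nat.le_of_dvd (by omega) h) (by omega)
    · have h1 : q ^ i = 1 := Nat.ModEq.eq_of_lt_of_lt h (by omega) hp.out.one_lt
      omega
    · exact le_antisymm (by omega) (Nat.le_of_dvd (by omega) h)
  have hn : Char.degree χ = q ^ i := by omega
  have hq2' : q = 2 := by
    by_contra hne
    have hodd : Odd (q ^ i) := (hq.odd_of_ne_two hne).pow
    have h2 : 2 ∣ p := by
      obtain ⟨m, hm⟩ := hodd
      exact ⟨m + 1, by omega⟩
    have := (Nat.prime_dvd_prime_iff_eq Nat.prime_two hp.out).mp h2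
    omega
  refine ⟨by omega, ⟨i, by rw [hn, hq2']⟩, ?_⟩
  exact isIrr_of_res hχ H hθ (heq (by omega))

end CfsgLib.RealChar.DegSylow
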