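import Cfsg.Agent.Lib.RealChar.LinearBound
import Mathlib.GroupTheory.FiniteAbelian.Duality
import Mathlib.GroupTheory.Sylow

/-!
# Strongly real characters of even degree over an inverted normal subgroup
-/

set_option linter.style.haveILetI false

namespace CfsgLib.RealChar

open CharTwist
open scoped ComplexConjugate

section Dualizing

variable {G : Type*} [Group G] [Fintype G] (H : Subgroup G) [Fintype H]

open scoped Classical in
/-- An irreducibly induced linear character inverted by an involution normalizing the subgroup has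
indicator one. -/
theorem fsInd_indFun_eq_one_of_inverted (θ : H →* ℂˣ) (z : G) (hz : z * z = 1)
    (hH : ∀ u : H, z * (u : G) * z ∈ H) (hθ : ∀ u : H, θ ⟨_, hH u⟩ = (θ u)⁻¹)
    (hirr : Cfsg.IsIrrCharacter G (Cfsg.indFun H fun u => (θ u : ℂ))) :
    fsInd (Cfsg.indFun H fun u => (θ u : ℂ)) = 1 := by
  haveI : Fintype (G ⧸ H) := Fintype.ofFinite _
  have hzi : z⁻¹ = z := inv_eq_of_mul_eq_one_right hz
  let A : H →* Matrix (Fin 1) (Fin 1) ℂ :=
    { toFun := fun u => Matrix.of fun _ _ => (θ u : ℂ)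
      map_one' := by ext a c; simp [Matrix.one_apply, Subsingleton.elim a c]
      map_mul' := fun u v => by ext a c; simp [Matrix.mul_apply] }
  let M := indMatrix H A
  have hcl : Cfsg.IsClassFunction H (fun u => (θ u : ℂ)) :=
    CfsgLib.Char.IsIrrCharacter.isClassFunction (CfsgLib.Char.isIrrCharacter_linear θ)
  have hM : ∀ g, (M g).trace = Cfsg.indFun H (fun u => (θ u : ℂ)) g := by
    intro g
    rw [CfsgLib.Char.indFun_eq_sum_transversal H _ hcl, Matrix.trace, Fintype.sum_prod_type]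
    refine Finset.sum_congr rfl fun i _ => ?_
    simp only [Matrix.diag, M, indMatrix, A, MonoidHom.coe_mk, OneHom.coe_mk, Matrix.of_apply,
      Finset.univ_unique, Finset.sum_singleton]
    by_cases hi : g⁻¹ • i = i
    · have hm : i.out⁻¹ * g * i.out ∈ H := by
        have := CfsgLib.Char.transversal_mem H g i
        rwa [hi] at this
      rw [CfsgLib.Char.extendByZero_apply_mem H _ hm]
      simp only [hi, if_true]
    · have hm : i.out⁻¹ * g * i.out ∉ H := fun hm => hi (by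
        rw [inv_smul_eq_iff]
        rw [mul_assoc, ← QuotientGroup.eq, QuotientGroup.out_eq'] at hm
        calc i = ((g * i.out : G) : G ⧸ H) := hm
          _ = g • ((i.out : G) : G ⧸ H) := rfl
          _ = g • i := by rw [QuotientGroup.out_eq'])
      rw [CfsgLib.Char.extendByZero_of_notMem H _ hm]
      simp [hi]
  have hreal : ∀ g, (Cfsg.indFun H (fun u => (θ u : ℂ)) g).im = 0 := by
    intro g
    rw [← Complex.conj_eq_iff_im, CfsgLib.Char.indFun_apply, map_mul, map_inv₀,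
      Complex.conj_natCast, map_sum]
    congr 1
    refine Fintype.sum_equiv (Equiv.mulRight z) _ _ fun x => ?_
    rw [Equiv.coe_mulRight,
      show (x * z)⁻¹ * g * (x * z) = z * (x⁻¹ * g * x) * z by rw [mul_inv_rev, hzi]; group]
    by_cases hx : x⁻¹ * g * x ∈ H
    · rw [CfsgLib.Char.extendByZero_apply_mem H _ hx,
        CfsgLib.Char.extendByZero_apply_mem H _ (hH ⟨_, hx⟩), hθ ⟨_, hx⟩,
        ← CfsgLib.Char.IsIrrCharacter.apply_inv (CfsgLib.Char.isIrrCharacter_linear θ), map_inv]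
    · have hx' : z * (x⁻¹ * g * x) * z ∉ H := fun h => hx (by
        have := hH ⟨_, h⟩
        simp only [mul_assoc, hz, mul_one] at this
        rwa [← mul_assoc z z, hz, one_mul, ← mul_assoc] at this)
      rw [CfsgLib.Char.extendByZero_of_notMem H _ hx, CfsgLib.Char.extendByZero_of_notMem H _ hx',
        map_zero]
  -- the form
  let F : G → ℂ := fun x => if h : z * x ∈ H then (((θ ⟨_, h⟩)⁻¹ : ℂˣ) : ℂ) else 0
  have hFmem : ∀ (u v : H) (x : G),
      F ((u : G)⁻¹ * x * (v : G)) * ((θ u : ℂ) * (θ v : ℂ)) = F x * ((1 : ℂˣ) : ℂ) := by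
    intro u v x
    have e : z * ((u : G)⁻¹ * x * (v : G)) = (z * ((u⁻¹ : H) : G) * z) * (z * x) * (v : G) := by
      rw [InvMemClass.coe_inv]
      simp only [mul_assoc]
      rw [← mul_assoc z z, hz, one_mul]
    by_cases hx : z * x ∈ H
    · have h' : z * ((u : G)⁻¹ * x * (v : G)) ∈ H := by
        rw [e]; exact H.mul_mem (H.mul_mem (hH u⁻¹) hx) v.2
      simp only [F, dif_pos hx, dif_pos h']
      rw [← Units.val_mul, ← Units.val_mul, ← Units.val_mul]
      refine congrArg Units.val ?_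
      rw [show (⟨_, h'⟩ : H) = ⟨_, hH u⁻¹⟩ * ⟨_, hx⟩ * v from Subtype.ext e, map_mul, map_mul,
        hθ, map_inv, inv_inv]
      simp [mul_comm, mul_left_comm, mul_assoc]
      rw [mul_left_comm (θ v) (θ u)⁻¹, mul_inv_cancel_left, mul_inv_cancel_left]
    · have h' : z * ((u : G)⁻¹ * x * (v : G)) ∉ H := by
        rw [e]
        intro h
        apply hx
        have := H.mul_mem (H.mul_mem (H.inv_mem (hH u⁻¹)) h) (H.inv_mem v.2)
        simpa [mul_assoc] using this
      simp only [F, dif_neg hx, dif_neg h', zero_mul]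
  have hFsym : ∀ x, F x⁻¹ = F x := by
    intro x
    by_cases hx : z * x ∈ H
    · have e : z * x⁻¹ = z * (((⟨_, hx⟩ : H)⁻¹ : H) : G) * z := by
        simp [mul_assoc, hzi, hz]
      have h' : z * x⁻¹ ∈ H := e ▸ hH _
      simp only [F, dif_pos hx, dif_pos h']
      rw [show (⟨_, h'⟩ : H) = ⟨_, hH (⟨_, hx⟩ : H)⁻¹⟩ from Subtype.ext e, hθ, map_inv, inv_inv]
    · have h' : z * x⁻¹ ∉ H := fun h => hx (by
        have := hH (⟨_, h⟩ : H)⁻¹
        simpa [mul_assoc, hzi, hz] using this)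
      simp only [F, dif_neg hx, dif_neg h']
  refine fsInd_eq_one_of_symm_form M hirr hM hreal
    (S := Matrix.of fun p q => F (p.1.out⁻¹ * q.1.out)) ?_ ?_ ?_
  · intro h0
    set j : G ⧸ H := QuotientGroup.mk z with hj
    set i : G ⧸ H := QuotientGroup.mk 1 with hi
    have hjz : j.out⁻¹ * z ∈ H := by rw [← QuotientGroup.eq, QuotientGroup.out_eq']
    have hi1 : i.out ∈ H := by
      have : i.out⁻¹ * 1 ∈ H := by rw [← QuotientGroup.eq, QuotientGroup.out_eq']
      simpa using this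
    have hmem : z * (i.out⁻¹ * j.out) ∈ H := by
      rw [show z * (i.out⁻¹ * j.out) =
        (z * ((⟨_, hi1⟩⁻¹ : H) : G) * z) * (j.out⁻¹ * z)⁻¹ by
        rw [InvMemClass.coe_inv, mul_inv_rev, inv_inv, hzi]
        simp only [mul_assoc]
        rw [← mul_assoc z z, hz, one_mul]]
      exact H.mul_mem (hH _) (H.inv_mem hjz)
    have h1 : F (i.out⁻¹ * j.out) = 0 := congrFun (congrFun h0 (i, 0)) (j, 0)
    simp only [F, dif_pos hmem] at h1
    exact Units.ne_zero _ h1
  · ext ⟨i, a⟩ ⟨j, c⟩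
    simp only [Matrix.transpose_apply, Matrix.of_apply]
    rw [← hFsym, mul_inv_rev, inv_inv]
  · intro g
    ext ⟨i, a⟩ ⟨j, c⟩
    simp only [Matrix.mul_apply, Fintype.sum_prod_type, Matrix.of_apply, Matrix.transpose_apply, M,
      indMatrix, A, MonoidHom.coe_mk, OneHom.coe_mk, Finset.univ_unique, Finset.sum_singleton]
    rw [Finset.sum_eq_single (g⁻¹ • j) (fun k _ hk => by rw [if_neg (Ne.symm hk), mul_zero])
      (fun h => absurd (Finset.mem_univ _) h), Finset.sum_eq_single (g⁻¹ • i)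
      (fun k _ hk => by rw [if_neg (Ne.symm hk), zero_mul])
      (fun h => absurd (Finset.mem_univ _) h)]
    simp only [if_true]
    have h := hFmem ⟨_, CfsgLib.Char.transversal_mem H g i⟩ ⟨_, CfsgLib.Char.transversal_mem H g j⟩
      (i.out⁻¹ * j.out)
    rw [Units.val_one, mul_one] at h
    rw [← h, show (i.out⁻¹ * g * (g⁻¹ • i).out)⁻¹ * (i.out⁻¹ * j.out) *
      (j.out⁻¹ * g * (g⁻¹ • j).out) = (g⁻¹ • i).out⁻¹ * (g⁻¹ • j).out by group]
    ring

end Dualizing

attribute [local instance high] Fintype.ofFinite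

variable {G : Type*} [Group G] [Finite G]

/-- The average degree bound. -/
theorem strongly_real_even_degree_bound (N P : Subgroup G) (hN : N.Normal) (q : ℕ)
    [hqp : Fact q.Prime] (hq : q ≠ 2) (hab : ∀ a ∈ N, ∀ b ∈ N, Commute a b)
    (hexp : ∀ a ∈ N, a ^ q = 1) (hP : IsPGroup 2 P) (hP1 : P ≠ ⊥) (hdisj : N ⊓ P = ⊥)
    (hprod : N ⊔ P = ⊤) (hN1 : N ≠ ⊥)
    (hmin : ∀ M : Subgroup G, M.Normal → M ≠ ⊥ → N ≤ M) :
    ∃ D : ℕ, 2 ≤ D ∧ 2 ∣ D ∧
      Nat.card {χ : Cfsg.IrrCharacter G //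
          Cfsg.charDegree (χ : G → ℂ) = 1 ∧ fsInd (χ : G → ℂ) = 1} ≤
        D * Nat.card {χ : Cfsg.IrrCharacter G //
          Cfsg.charDegree (χ : G → ℂ) = D ∧ fsInd (χ : G → ℂ) = 1} := by
  classical
  haveI := hN
  haveI : Fact (Nat.Prime 2) := ⟨Nat.prime_two⟩
  have hodd : Odd q := hqp.out.odd_of_ne_two hq
  have hsq : ∀ a ∈ N, a * a = 1 → a = 1 := by
    intro a ha h
    obtain ⟨r, hr⟩ := hodd
    have := hexp a ha
    rw [hr, pow_succ, pow_mul, sq, h, one_pow, one_mul] at this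
    exact this
  have hdec : ∀ g : G, ∃ n ∈ N, ∃ x ∈ P, n * x = g := by
    intro g
    have : g ∈ ((N ⊔ P : Subgroup G) : Set G) := by rw [hprod]; trivial
    rw [Subgroup.normal_mul] at this
    obtain ⟨n, hn, x, hx, rfl⟩ := this
    exact ⟨n, hn, x, hx, rfl⟩
  have huniq : ∀ n ∈ N, ∀ n' ∈ N, ∀ x ∈ P, ∀ x' ∈ P, n * x = n' * x' → n = n' := by
    intro n hn n' hn' x hx x' hx' h
    have h1 : n'⁻¹ * n ∈ N ⊓ P := by
      refine ⟨N.mul_mem (N.inv_mem hn') hn, ?_⟩
      rw [show n'⁻¹ * n = x' * x⁻¹ by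
        rw [inv_mul_eq_iff_eq_mul, ← mul_assoc, ← h, mul_inv_cancel_right]]
      exact P.mul_mem hx' (P.inv_mem hx)
    rw [hdisj, Subgroup.mem_bot, inv_mul_eq_one] at h1
    exact h1.symm
  -- a central involution of `P`
  haveI : Nontrivial P := (Subgroup.nontrivial_iff_ne_bot P).mpr hP1
  haveI : Nontrivial (Subgroup.center P) := hP.center_nontrivial
  obtain ⟨a, ha⟩ := IsPGroup.iff_card.mp (hP.to_subgroup (Subgroup.center P))
  have ha0 : a ≠ 0 := by
    rintro rfl
    rw [pow_zero] at ha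
    exact absurd ha Finite.one_lt_card.ne'
  obtain ⟨w, hw⟩ := exists_prime_orderOf_dvd_card' (G := Subgroup.center P) 2
    (ha ▸ dvd_pow_self 2 ha0)
  set z : G := ((w : P) : G) with hzdef
  have hzP : z ∈ P := (w : P).2
  have hz2 : z * z = 1 := by
    have : w ^ 2 = 1 := hw ▸ pow_orderOf_eq_one w
    rw [← sq]
    exact congrArg (fun t : Subgroup.center P => ((t : P) : G)) this
  have hz1 : z ≠ 1 := fun h => by
    have : w = 1 := Subtype.ext (Subtype.ext h)
    rw [this, orderOf_one] at hw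
    exact absurd hw (by norm_num)
  have hzi : z⁻¹ = z := inv_eq_of_mul_eq_one_right hz2
  have hzc : ∀ x ∈ P, z * x = x * z := fun x hx =>
    congrArg Subtype.val ((Subgroup.mem_center_iff.mp w.2 ⟨x, hx⟩).symm)
  let C : Subgroup G := N ⊓ Subgroup.centralizer {z}
  have hCn : C.Normal := by
    refine Subgroup.normalizer_eq_top_iff.mp (eq_top_iff.mpr fun g _ => ?_)
    refine Subgroup.mem_normalizer_fintype fun c hc => ?_
    obtain ⟨n, hn, x, hx, rfl⟩ := hdec g
    refine ⟨hN.conj_mem c hc.1 _, ?_⟩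
    have e : n * x * c * (n * x)⁻¹ = x * c * x⁻¹ := by
      have hxc : x * c * x⁻¹ ∈ N := hN.conj_mem c hc.1 x
      rw [show n * x * c * (n * x)⁻¹ = n * (x * c * x⁻¹) * n⁻¹ by group,
        (hab n hn _ hxc).eq, mul_inv_cancel_right]
    rw [e]
    change x * c * x⁻¹ ∈ Subgroup.centralizer {z}
    rw [Subgroup.mem_centralizer_singleton_iff]
    have hcz : z * c = c * z := Subgroup.mem_centralizer_singleton_iff.mp hc.2 |>.symm
    have hzx := hzc x hx
    have hzx' := hzc x⁻¹ (P.inv_mem hx)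
    calc x * c * x⁻¹ * z = x * c * (z * x⁻¹) := by rw [hzx', mul_assoc]
      _ = x * (z * c) * x⁻¹ := by rw [hcz]; group
      _ = z * (x * c * x⁻¹) := by rw [← mul_assoc x z, ← hzx]; group
  have hC : C = ⊥ := by
    by_contra hne
    have hNC : N ≤ Subgroup.centralizer {z} := (hmin C hCn hne).trans inf_le_right
    have hZn : (Subgroup.zpowers z).Normal := by
      refine ⟨fun y hy g => ?_⟩
      obtain ⟨n, hn, x, hx, rfl⟩ := hdec g
      obtain ⟨k, rfl⟩ := hy
      have e : n * x * z * (n * x)⁻¹ = z := by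
        have h1 : n * z = z * n := Subgroup.mem_centralizer_singleton_iff.mp (hNC hn)
        calc n * x * z * (n * x)⁻¹ = n * (x * z) * x⁻¹ * n⁻¹ := by group
          _ = n * z * n⁻¹ := by rw [← hzc x hx]; group
          _ = z := by rw [h1, mul_inv_cancel_right]
      change n * x * z ^ k * (n * x)⁻¹ ∈ Subgroup.zpowers z
      rw [← conj_zpow, e]
      exact Subgroup.zpow_mem_zpowers z k
    have hNz : N ≤ P := (hmin _ hZn fun h => hz1 (Subgroup.zpowers_eq_bot.mp h)).trans
      (Subgroup.zpowers_le.mpr hzP)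
    exact hN1 (le_bot_iff.mp (hdisj ▸ le_inf le_rfl hNz))
  have hinv : ∀ n ∈ N, z * n * z = n⁻¹ := by
    intro n hn
    have hm : z * n * z ∈ N := by simpa [hzi] using hN.conj_mem n hn z
    have hk : n * (z * n * z) ∈ C := by
      refine ⟨N.mul_mem hn hm, Subgroup.mem_centralizer_singleton_iff.mpr ?_⟩
      calc n * (z * n * z) * z = n * z * n * (z * z) := by group
        _ = n * z * n := by rw [hz2, mul_one]
        _ = (z * z) * (n * z * n) := by rw [hz2, one_mul]
        _ = z * ((z * n * z) * n) := by group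
        _ = z * (n * (z * n * z)) := by rw [(hab _ hm n hn).eq]
    rw [hC, Subgroup.mem_bot] at hk
    exact eq_inv_of_mul_eq_one_right hk
  -- a nontrivial character of `N`
  letI : CommGroup N :=
    { (inferInstance : Group N) with mul_comm := fun a b => Subtype.ext (hab _ a.2 _ b.2) }
  obtain ⟨n₀, hn₀⟩ := Subgroup.ne_bot_iff_exists_ne_one.mp hN1
  obtain ⟨lam, hlam⟩ := CommGroup.exists_apply_ne_one_of_hasEnoughRootsOfUnity N ℂ hn₀
  let φ : Cfsg.IrrCharacter N := ⟨_, CfsgLib.Char.isIrrCharacter_linear lam⟩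
  let I : Subgroup G := inertia N (φ : N → ℂ)
  have hNI : N ≤ I := le_inertia N (CfsgLib.Char.IsIrrCharacter.isClassFunction φ.2)
  have hzI : z ∉ I := fun h => by
    have h1 := congrFun h n₀
    change ((lam ⟨z * n₀ * z⁻¹, _⟩ : ℂˣ) : ℂ) = (lam n₀ : ℂ) at h1
    rw [Units.val_inj, show (⟨z * n₀ * z⁻¹, _⟩ : N) = n₀⁻¹ from
      Subtype.ext (by simp only [hzi]; exact hinv _ n₀.2), map_inv, inv_eq_iff_mul_eq_one,
      ← map_mul] at h1
    obtain ⟨r, hr⟩ := hodd
    have hn0q : n₀ ^ q = 1 := Subtype.ext (hexp _ n₀.2)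
    apply hlam
    have h3 : lam n₀ ^ q = 1 := by rw [← map_pow, hn0q, map_one]
    rw [hr, pow_succ, pow_mul, sq, ← map_mul] at h3
    simpa [h1] using h3
  -- the extension
  have hdecI : ∀ i : I, ∃ n : N, (n : G)⁻¹ * (i : G) ∈ P := fun i => by
    obtain ⟨n, hn, x, hx, h⟩ := hdec (i : G)
    exact ⟨⟨n, hn⟩, by rw [← h]; simpa using hx⟩
  choose np hnp using hdecI
  have hnpu : ∀ (i : I) (n : N), (n : G)⁻¹ * (i : G) ∈ P → np i = n := fun i n h =>
    Subtype.ext (huniq _ (np i).2 _ n.2 _ (hnp i) _ h (by simp))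
  have hIinv : ∀ (i : I) (n : N) (x : G), x ∈ P → (i : G) = n * x → ∀ m m' : N,
      (m' : G) = x * m * x⁻¹ → lam m' = lam m := by
    intro i n x _ hi m m' hm
    have h1 := congrFun i.2 m
    change ((lam ⟨(i : G) * m * (i : G)⁻¹, _⟩ : ℂˣ) : ℂ) = (lam m : ℂ) at h1
    rw [Units.val_inj, show (⟨(i : G) * m * (i : G)⁻¹, _⟩ : N) = n * m' * n⁻¹ from
      Subtype.ext (by simp only [Subgroup.coe_mul, InvMemClass.coe_inv, hi, hm]; group),
      map_mul, map_mul, mul_comm, ← mul_assoc, map_inv, inv_mul_cancel, one_mul] at h1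
    exact h1
  let ψh : I →* ℂˣ :=
    { toFun := fun i => lam (np i)
      map_one' := by rw [hnpu 1 1 (by simp [P.one_mem]), map_one]
      map_mul' := fun i j => by
        have hx : (np i : G)⁻¹ * (i : G) ∈ P := hnp i
        set x := (np i : G)⁻¹ * (i : G) with hxdef
        set y := (np j : G)⁻¹ * (j : G) with hydef
        have hconjN : x * (np j : G) * x⁻¹ ∈ N := hN.conj_mem _ (np j).2 x
        have e : np (i * j) = np i * ⟨_, hconjN⟩ := hnpu _ _ (by
          have : ((np i * ⟨_, hconjN⟩ : N) : G)⁻¹ * ((i * j : I) : G) = x * y := by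
            simp only [Subgroup.coe_mul, hxdef, hydef]
            group
          rw [this]
          exact P.mul_mem hx (hnp j))
        rw [e, map_mul, hIinv i (np i) x hx (by simp [hxdef]) (np j) ⟨_, hconjN⟩ rfl] }
  let ψ : Cfsg.IrrCharacter I := ⟨_, CfsgLib.Char.isIrrCharacter_linear ψh⟩
  have hψ : ∀ n : N, (ψ : I → ℂ) ⟨n, hNI n.2⟩ = (φ : N → ℂ) n := fun n => by
    change ((lam (np ⟨n, hNI n.2⟩) : ℂˣ) : ℂ) = _
    rw [hnpu _ n (by simp [P.one_mem])]
  have hzmem : ∀ u : I, z * (u : G) * z ∈ I := by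
    intro u
    have hx : (np u : G)⁻¹ * (u : G) ∈ P := hnp u
    set x := (np u : G)⁻¹ * (u : G) with hxdef
    have e : z * (u : G) * z = ((np u : G))⁻¹ * x := by
      rw [show (u : G) = (np u : G) * x by simp [hxdef]]
      calc z * ((np u : G) * x) * z = z * (np u : G) * (x * z) := by group
        _ = z * (np u : G) * z * x := by rw [← hzc x hx]; group
        _ = _ := by rw [hinv _ (np u).2]
    rw [e]
    refine I.mul_mem (I.inv_mem (hNI (np u).2)) ?_
    rw [hxdef]
    exact I.mul_mem (I.inv_mem (hNI (np u).2)) u.2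
  have hψz : ∀ u : I, ψh ⟨_, hzmem u⟩ = (ψh u)⁻¹ := by
    intro u
    change lam (np ⟨_, hzmem u⟩) = (lam (np u))⁻¹
    rw [← map_inv]
    congr 1
    refine hnpu _ _ ?_
    have hx : (np u : G)⁻¹ * (u : G) ∈ P := hnp u
    set x := (np u : G)⁻¹ * (u : G) with hxdef
    have : ((np u)⁻¹ : N).1⁻¹ * (z * (u : G) * z) = x := by
      rw [show (u : G) = (np u : G) * x by simp [hxdef]]
      rw [InvMemClass.coe_inv, inv_inv]
      calc (np u : G) * (z * ((np u : G) * x) * z)
          = (np u : G) * (z * (np u : G) * (x * z)) := by group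
        _ = (np u : G) * (z * (np u : G) * z) * x := by rw [← hzc x hx]; group
        _ = x := by rw [hinv _ (np u).2, mul_inv_cancel, one_mul]
    rw [this]
    exact hx
  have htriv : ∀ f : G →* ℂˣ, ∀ n ∈ N, f n = 1 := by
    intro f n hn
    by_cases hker : f.ker = ⊥
    · exfalso
      have hcomm : ∀ a b : G, a * b = b * a := fun a b =>
        (MonoidHom.ker_eq_bot_iff f).mp hker (by rw [map_mul, map_mul, mul_comm])
      haveI : P.Normal := ⟨fun y hy g => by rw [hcomm g y, mul_inv_cancel_right]; exact hy⟩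
      exact hN1 (le_bot_iff.mp (hdisj ▸ le_inf le_rfl (hmin P inferInstance hP1)))
    · exact hmin f.ker inferInstance hker hn
  let Λ : Subgroup (G →* ℂˣ) := (powMonoidHom 2 : (G →* ℂˣ) →* (G →* ℂˣ)).ker
  have h := card_linear_le hNI (fun g => mem_inertia) ψ hψ htriv Λ
    (fun χ => fsInd (χ : G → ℂ) = 1) fun f hf χ _ hχ => by
      let θ : I →* ℂˣ := f.comp I.subtype * ψh
      have hθ : (fun i : I => (f i : ℂ) * (ψ : I → ℂ) i) = fun i => (θ i : ℂ) :=
        funext fun i => (Units.val_mul (f (i : G)) (ψh i)).symm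
      rw [hθ] at hχ
      rw [hχ]
      refine fsInd_indFun_eq_one_of_inverted I θ z hz2 hzmem (fun u => ?_) (hχ ▸ χ.2)
      have hfz : f z * f z = 1 := by rw [← map_mul, hz2, map_one]
      have hfu : f (u : G) * f (u : G) = 1 := by
        rw [← sq, ← MonoidHom.pow_apply]
        exact DFunLike.congr_fun hf (u : G)
      change f (z * (u : G) * z) * ψh ⟨_, hzmem u⟩ = (f (u : G) * ψh u)⁻¹
      rw [hψz, map_mul, map_mul, mul_inv, mul_comm (f z) (f (u : G)), mul_assoc (f (u : G)), hfz,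
        mul_one, inv_eq_of_mul_eq_one_right hfu]
  have hIne : I.index ≠ 1 := fun h => hzI (Subgroup.index_eq_one.mp h ▸ Subgroup.mem_top z)
  have hsurj : Function.Surjective ((QuotientGroup.mk' N).comp P.subtype) := by
    intro y
    obtain ⟨g, rfl⟩ := QuotientGroup.mk_surjective y
    obtain ⟨n, hn, x, hx, rfl⟩ := hdec g
    refine ⟨⟨x, hx⟩, ?_⟩
    change (x : G ⧸ N) = ((n * x : G) : G ⧸ N)
    rw [QuotientGroup.mk_mul, (QuotientGroup.eq_one_iff n).mpr hn, one_mul]
  obtain ⟨m, hm⟩ := IsPGroup.iff_card.mp (hP.of_surjective _ hsurj)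
  have hdvd : I.index ∣ 2 ^ m := hm ▸ Subgroup.index_dvd_of_le hNI
  obtain ⟨k, -, hk⟩ := (Nat.dvd_prime_pow Nat.prime_two).mp hdvd
  have heven : 2 ∣ I.index := by
    rcases k with _ | k
    · exact absurd (hk.trans (pow_zero 2)) hIne
    · exact hk ▸ dvd_pow_self 2 k.succ_ne_zero
  have hφ1 : CfsgLib.Char.degree (φ : N → ℂ) = 1 := by
    change ⌊(((lam 1 : ℂˣ) : ℂ)).re⌋₊ = 1
    simp
  rw [hφ1, one_mul] at h
  refine ⟨I.index, Nat.le_of_dvd (Nat.pos_of_ne_zero Subgroup.index_ne_zero_of_finite) heven, heven,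
    le_trans (le_of_eq ?_) h⟩
  refine Nat.card_congr ((Equiv.subtypeSubtypeEquivSubtypeInter _ _).symm.trans
    ((linearIrrEquiv G).subtypeEquiv fun χ => ?_))
  rw [show (χ.1 : G → ℂ) = fun g => ((linearIrrEquiv G χ g : ℂˣ) : ℂ) from
      funext fun g => (linearIrrEquiv_apply χ g).symm, fsInd_linear_eq_one_iff]
  rfl

end CfsgLib.RealChar
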