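import Cfsg.Agent.Lib.RealChar.Indicator
import Cfsg.Agent.Lib.Char.Induced
import Cfsg.Agent.Lib.Char.Orth
import Mathlib.LinearAlgebra.Trace

/-!
# Invariant symmetric forms and the indicator of an induced character

A real irreducible character has indicator `1` iff some matrix representation affording it leaves a
nonzero symmetric matrix invariant; such a form induces to a block diagonal one.
-/

set_option linter.style.haveILetI false

namespace CfsgLib.RealChar

open Matrix
open scoped ComplexConjugate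

section Forms

variable {G : Type*} [Group G] [Fintype G] {ι : Type*} [Fintype ι] [DecidableEq ι]
  (M : G →* Matrix ι ι ℂ)

/-- Averaging of bilinear forms. -/
noncomputable def formAvg : Matrix ι ι ℂ →ₗ[ℂ] Matrix ι ι ℂ where
  toFun E := (Nat.card G : ℂ)⁻¹ • ∑ x, M x * E * (M x)ᵀ
  map_add' E E' := by
    simp only [Matrix.mul_add, Matrix.add_mul, Finset.sum_add_distrib, smul_add]
  map_smul' a E := by
    simp only [Matrix.mul_smul, Matrix.smul_mul, ← Finset.smul_sum, RingHom.id_apply]
    rw [smul_comm]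

theorem formAvg_apply (E : Matrix ι ι ℂ) :
    formAvg M E = (Nat.card G : ℂ)⁻¹ • ∑ x, M x * E * (M x)ᵀ := rfl

theorem formAvg_invariant (E : Matrix ι ι ℂ) (y : G) :
    M y * formAvg M E * (M y)ᵀ = formAvg M E := by
  simp only [formAvg_apply, Matrix.mul_smul, Matrix.smul_mul, Finset.mul_sum, Finset.sum_mul]
  congr 1
  refine Fintype.sum_equiv (Equiv.mulLeft y) _ _ fun x => ?_
  simp only [Equiv.coe_mulLeft, map_mul, Matrix.transpose_mul, Matrix.mul_assoc]

theorem formAvg_fixed {F : Matrix ι ι ℂ} (hF : ∀ y, M y * F * (M y)ᵀ = F) : formAvg M F = F := by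
  rw [formAvg_apply, Finset.sum_congr rfl fun y _ => hF y, Finset.sum_const, Finset.card_univ,
    ← Nat.card_eq_fintype_card, ← Nat.cast_smul_eq_nsmul ℂ, smul_smul,
    inv_mul_cancel₀ (Nat.cast_ne_zero.mpr Nat.card_pos.ne'), one_smul]

theorem formAvg_transpose (E : Matrix ι ι ℂ) : formAvg M Eᵀ = (formAvg M E)ᵀ := by
  simp only [formAvg_apply, Matrix.transpose_smul, Matrix.transpose_sum, Matrix.transpose_mul,
    Matrix.transpose_transpose, Matrix.mul_assoc]

theorem sum_formAvg_swap :
    ∑ i, ∑ j, formAvg M (Matrix.single j i 1) i j = fsInd (fun x => (M x).trace) := by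
  simp only [formAvg_apply, Matrix.smul_apply, smul_eq_mul, ← Finset.mul_sum, fsInd]
  congr 1
  simp only [Matrix.sum_apply]
  rw [Finset.sum_congr rfl fun i _ => Finset.sum_comm, Finset.sum_comm]
  refine Finset.sum_congr rfl fun x _ => ?_
  rw [map_mul, Matrix.trace]
  refine Finset.sum_congr rfl fun i _ => ?_
  rw [Matrix.diag, Matrix.mul_apply]
  refine Finset.sum_congr rfl fun j _ => ?_
  simp [Matrix.mul_apply, Matrix.single_apply, Matrix.transpose_apply, ite_and]

theorem sum_formAvg_diag :
    ∑ i, ∑ j, formAvg M (Matrix.single i j 1) i j =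
      (Nat.card G : ℂ)⁻¹ * ∑ x, (M x).trace * (M x).trace := by
  simp only [formAvg_apply, Matrix.smul_apply, smul_eq_mul, ← Finset.mul_sum]
  congr 1
  simp only [Matrix.sum_apply]
  rw [Finset.sum_congr rfl fun i _ => Finset.sum_comm, Finset.sum_comm]
  refine Finset.sum_congr rfl fun x _ => ?_
  rw [Matrix.trace, Finset.sum_mul_sum]
  refine Finset.sum_congr rfl fun i _ => Finset.sum_congr rfl fun j _ => ?_
  simp [Matrix.mul_apply, Matrix.single_apply, Matrix.transpose_apply, ite_and, Matrix.diag]

variable {χ : G → ℂ} (hχ : Cfsg.IsIrrCharacter G χ) (hM : ∀ x, (M x).trace = χ x)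
  (hreal : ∀ x, (χ x).im = 0)

include hχ hM hreal in
theorem sum_formAvg_diag_eq_one :
    ∑ i, ∑ j, formAvg M (Matrix.single i j 1) i j = 1 := by
  rw [sum_formAvg_diag, ← CfsgLib.Char.classInner_irr_self hχ, Cfsg.classInner]
  congr 1
  refine Finset.sum_congr rfl fun x _ => ?_
  rw [hM, Complex.conj_eq_iff_im.mpr (hreal x)]

include hχ hM hreal in
/-- Indicator `1` gives an invariant symmetric matrix. -/
theorem exists_symm_form (h1 : fsInd χ = 1) :
    ∃ S : Matrix ι ι ℂ, S ≠ 0 ∧ Sᵀ = S ∧ ∀ y, M y * S * (M y)ᵀ = S := by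
  by_contra hcon
  push Not at hcon
  have hzero : ∀ i j, formAvg M (Matrix.single i j 1 + Matrix.single j i 1) = 0 := by
    intro i j
    by_contra h0
    obtain ⟨y, hy⟩ := hcon _ h0 (by
      rw [← formAvg_transpose, Matrix.transpose_add, Matrix.transpose_single,
        Matrix.transpose_single, add_comm])
    exact hy (formAvg_invariant M _ y)
  have h2 : ∑ i, ∑ j, formAvg M (Matrix.single i j 1) i j +
      ∑ i, ∑ j, formAvg M (Matrix.single j i 1) i j = 0 := by
    simp only [← Finset.sum_add_distrib, ← Matrix.add_apply, ← map_add, hzero, Matrix.zero_apply,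
      Finset.sum_const_zero]
  rw [sum_formAvg_diag_eq_one M hχ hM hreal, sum_formAvg_swap,
    show (fun x => (M x).trace) = χ from funext hM, h1] at h2
  norm_num at h2

include hχ hM hreal in
/-- An invariant symmetric matrix gives indicator `1`. -/
theorem fsInd_eq_one_of_symm_form {S : Matrix ι ι ℂ} (hS0 : S ≠ 0) (hSt : Sᵀ = S)
    (hS : ∀ y, M y * S * (M y)ᵀ = S) : fsInd χ = 1 := by
  have hproj : LinearMap.IsProj (LinearMap.range (formAvg M)) (formAvg M) :=
    ⟨fun E => LinearMap.mem_range_self _ E, fun E hE => by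
      obtain ⟨E', rfl⟩ := hE
      exact formAvg_fixed M (formAvg_invariant M E')⟩
  have htr : LinearMap.trace ℂ _ (formAvg M) = 1 := by
    rw [LinearMap.trace_eq_matrix_trace ℂ (Matrix.stdBasis ℂ ι ι), Matrix.trace,
      Fintype.sum_prod_type, ← sum_formAvg_diag_eq_one M hχ hM hreal]
    refine Finset.sum_congr rfl fun i _ => Finset.sum_congr rfl fun j _ => ?_
    rw [Matrix.diag, LinearMap.toMatrix_apply, Matrix.stdBasis_eq_single]
    simp [Matrix.stdBasis]
  have hrank : Module.finrank ℂ (LinearMap.range (formAvg M)) = 1 := by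
    have := hproj.trace.symm.trans htr
    exact_mod_cast this
  have hSmem : S ∈ LinearMap.range (formAvg M) := ⟨S, formAvg_fixed M hS⟩
  have hspan : ∀ E, ∃ a : ℂ, formAvg M E = a • S := by
    intro E
    obtain ⟨a, ha⟩ := (finrank_eq_one_iff_of_nonzero' (⟨S, hSmem⟩ : LinearMap.range (formAvg M))
      fun h => hS0 (congrArg Subtype.val h)).mp hrank ⟨formAvg M E, LinearMap.mem_range_self _ E⟩
    exact ⟨a, (congrArg Subtype.val ha).symm⟩
  choose lam hlam using hspan
  have hsym : ∀ i j, formAvg M (Matrix.single j i 1) = formAvg M (Matrix.single i j 1) := by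
    intro i j
    rw [← Matrix.transpose_single i j, formAvg_transpose, hlam, Matrix.transpose_smul, hSt]
  rw [← show (fun x => (M x).trace) = χ from funext hM, ← sum_formAvg_swap]
  refine Eq.trans ?_ (sum_formAvg_diag_eq_one M hχ hM hreal)
  exact Finset.sum_congr rfl fun i _ => Finset.sum_congr rfl fun j _ => by rw [hsym i j]

end Forms

section Induced

variable {G : Type*} [Group G] [Fintype G] (H : Subgroup G) [Fintype H]

open scoped Classical in
/-- The block monomial matrices of an induced representation. -/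
noncomputable def indMatrix [Fintype (G ⧸ H)] {n : ℕ} (A : H →* Matrix (Fin n) (Fin n) ℂ) :
    G →* Matrix ((G ⧸ H) × Fin n) ((G ⧸ H) × Fin n) ℂ where
  toFun g := Matrix.of fun p q =>
    if g⁻¹ • p.1 = q.1 then A ⟨_, CfsgLib.Char.transversal_mem H g p.1⟩ p.2 q.2 else 0
  map_one' := by
    ext ⟨i, a⟩ ⟨j, c⟩
    simp only [Matrix.of_apply, inv_one, one_smul]
    by_cases hij : i = j
    · subst hij
      rw [if_pos rfl]
      refine (congrFun (congrFun ((congrArg A (Subtype.ext (by simp) : _ = (1 : H))).trans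
        (map_one A)) a) c).trans ?_
      simp only [Matrix.one_apply, Prod.mk.injEq, true_and]
    · rw [if_neg hij, Matrix.one_apply_ne (fun h => hij (congrArg Prod.fst h))]
  map_mul' g g' := by
    ext ⟨i, a⟩ ⟨j, c⟩
    have h1 : (g * g')⁻¹ • i = g'⁻¹ • g⁻¹ • i := by rw [_root_.mul_inv_rev, mul_smul]
    simp only [Matrix.mul_apply, Fintype.sum_prod_type, Matrix.of_apply]
    rw [Finset.sum_eq_single (g⁻¹ • i) (fun k _ hk => Finset.sum_eq_zero fun d _ => by
      rw [if_neg (Ne.symm hk), zero_mul]) (fun h => absurd (Finset.mem_univ _) h)]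
    simp only [if_true, h1]
    by_cases hj : g'⁻¹ • g⁻¹ • i = j
    · simp only [if_pos hj]
      have hh : ∀ u v w : H, (u : G) = v * w → A u a c = ∑ x, A v a x * A w x c := by
        intro u v w h
        rw [show u = v * w from Subtype.ext h, map_mul, Matrix.mul_apply]
      refine (hh ⟨i.out⁻¹ * (g * g') * (g'⁻¹ • g⁻¹ • i).out,
          h1 ▸ CfsgLib.Char.transversal_mem H (g * g') i⟩
        ⟨_, CfsgLib.Char.transversal_mem H g i⟩
        ⟨_, CfsgLib.Char.transversal_mem H g' (g⁻¹ • i)⟩ ?_).trans ?_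
      · simp [mul_assoc]
      · rfl
    · simp only [if_neg hj, mul_zero, Finset.sum_const_zero]

open scoped Classical in
/-- A real irreducible character of indicator one which induces irreducibly keeps indicator one. -/
theorem fsInd_indFun_eq_one {θ : H → ℂ} (hθ : Cfsg.IsIrrCharacter H θ) (h1 : fsInd θ = 1)
    (hirr : Cfsg.IsIrrCharacter G (Cfsg.indFun H θ)) : fsInd (Cfsg.indFun H θ) = 1 := by
  haveI : Fintype (G ⧸ H) := Fintype.ofFinite _
  have hreal : ∀ h, (θ h).im = 0 := im_eq_zero_of_fsInd_ne_zero hθ (by rw [h1]; exact one_ne_zero)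
  obtain ⟨n, ρ, -, hρ⟩ := id hθ
  let b := Pi.basisFun ℂ (Fin n)
  let A : H →* Matrix (Fin n) (Fin n) ℂ :=
    { toFun := fun h => LinearMap.toMatrix b b (ρ h)
      map_one' := by simp only [map_one, LinearMap.toMatrix_one]
      map_mul' := fun h h' => by simp only [map_mul, LinearMap.toMatrix_mul] }
  have hA : ∀ h, (A h).trace = θ h := fun h => by
    rw [← hρ]
    exact (LinearMap.trace_eq_matrix_trace ℂ b _).symm
  obtain ⟨S, hS0, hSt, hS⟩ := exists_symm_form A hθ hA hreal h1
  let M := indMatrix H A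
  have hM : ∀ g, (M g).trace = Cfsg.indFun H θ g := by
    intro g
    rw [CfsgLib.Char.indFun_eq_sum_transversal H θ
      (CfsgLib.Char.IsIrrCharacter.isClassFunction hθ), Matrix.trace, Fintype.sum_prod_type]
    refine Finset.sum_congr rfl fun i _ => ?_
    simp only [Matrix.diag, M, indMatrix, MonoidHom.coe_mk, OneHom.coe_mk, Matrix.of_apply]
    by_cases hi : g⁻¹ • i = i
    · have hm : i.out⁻¹ * g * i.out ∈ H := by
        have := CfsgLib.Char.transversal_mem H g i
        rwa [hi] at this
      rw [CfsgLib.Char.extendByZero_apply_mem H _ hm, ← hA]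
      simp only [hi, if_true, Matrix.trace, Matrix.diag]
    · have hm : i.out⁻¹ * g * i.out ∉ H := fun hm => hi (by
        rw [inv_smul_eq_iff]
        rw [mul_assoc, ← QuotientGroup.eq, QuotientGroup.out_eq'] at hm
        calc i = ((g * i.out : G) : G ⧸ H) := hm
          _ = g • ((i.out : G) : G ⧸ H) := rfl
          _ = g • i := by rw [QuotientGroup.out_eq'])
      rw [CfsgLib.Char.extendByZero_of_notMem H _ hm]
      simp [hi]
  have hrealG : ∀ g, (Cfsg.indFun H θ g).im = 0 := by
    intro g
    rw [CfsgLib.Char.indFun_eq_sum_transversal H θ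
      (CfsgLib.Char.IsIrrCharacter.isClassFunction hθ), Complex.im_sum]
    refine Finset.sum_eq_zero fun i _ => ?_
    by_cases hm : i.out⁻¹ * g * i.out ∈ H
    · rw [CfsgLib.Char.extendByZero_apply_mem H _ hm, hreal]
    · rw [CfsgLib.Char.extendByZero_of_notMem H _ hm, Complex.zero_im]
  refine fsInd_eq_one_of_symm_form M hirr hM hrealG
    (S := Matrix.of fun p q => if p.1 = q.1 then S p.2 q.2 else 0) ?_ ?_ ?_
  · intro h0
    apply hS0
    ext a c
    have := congrFun (congrFun h0 (((1 : G) : G ⧸ H), a)) (((1 : G) : G ⧸ H), c)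
    simpa using this
  · ext ⟨i, a⟩ ⟨j, c⟩
    simp only [Matrix.transpose_apply, Matrix.of_apply]
    by_cases hij : i = j
    · subst hij
      simp only [if_true]
      exact congrFun (congrFun hSt a) c
    · simp [hij, Ne.symm hij]
  · intro g
    ext ⟨i, a⟩ ⟨j, c⟩
    simp only [Matrix.mul_apply, Fintype.sum_prod_type, Matrix.of_apply, Matrix.transpose_apply, M, indMatrix,
      MonoidHom.coe_mk, OneHom.coe_mk]
    rw [Finset.sum_eq_single (g⁻¹ • j) (fun k _ hk => Finset.sum_eq_zero fun d _ => by
      rw [if_neg (Ne.symm hk), mul_zero]) (fun h => absurd (Finset.mem_univ _) h)]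
    simp only [if_true]
    rw [Finset.sum_congr rfl fun d _ => congrArg (· * _) (Finset.sum_eq_single (g⁻¹ • i)
      (fun k _ hk => Finset.sum_eq_zero fun e _ => by rw [if_neg (Ne.symm hk), zero_mul])
      (fun h => absurd (Finset.mem_univ _) h))]
    simp only [if_true]
    by_cases hij : i = j
    · subst hij
      simp only [if_true]
      have := congrFun (congrFun (hS ⟨_, CfsgLib.Char.transversal_mem H g i⟩) a) c
      simpa only [Matrix.mul_apply, Matrix.transpose_apply] using this
    · have hne : g⁻¹ • i ≠ g⁻¹ • j := fun h => hij (MulAction.injective _ h)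
      simp [hij, hne]

end Induced

end CfsgLib.RealChar
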