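import Cfsg.Prelude.Def_Blocks
import Cfsg.Agent.Lib.RealChar.IndForm
import Cfsg.Agent.Lib.RealChar.Trichotomy
import Cfsg.Agent.Lib.Char.Clifford
import Cfsg.Agent.Lib.Char.Linear
import Cfsg.Agent.Lib.CharDeep.Gallagher
import Mathlib.LinearAlgebra.Dual.Lemmas
import Mathlib.RingTheory.IntegralDomain

/-!
# Linear characters against characters above a nonabelian minimal normal subgroup
-/

set_option linter.style.haveILetI false

namespace CfsgLib.RealChar

open CharTwist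
open scoped ComplexConjugate

attribute [local instance high] Fintype.ofFinite

variable {G : Type*} [Group G] [Finite G]

/-- A linear character is trivial on a nonabelian minimal normal subgroup. -/
theorem linear_eq_one_of_nonabelian_minimal (N : Subgroup G) (hN : N.Normal)
    (hmin : ∀ M : Subgroup G, M.Normal → M ≤ N → M = ⊥ ∨ M = N) (hna : ¬ IsMulCommutative N)
    (f : G →* ℂˣ) {n : G} (hn : n ∈ N) : f n = 1 := by
  haveI := hN
  rcases hmin (f.ker ⊓ N) inferInstance inf_le_right with h | h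
  · exfalso
    refine hna ⟨⟨fun a b => Subtype.ext ?_⟩⟩
    have hab : (a : G) * b * ((b : G) * a)⁻¹ ∈ f.ker ⊓ N := by
      refine ⟨?_, N.mul_mem (N.mul_mem a.2 b.2) (N.inv_mem (N.mul_mem b.2 a.2))⟩
      change f _ = 1
      rw [map_mul, map_inv, map_mul, map_mul, mul_comm (f (b : G)) (f (a : G)), mul_inv_cancel]
    rw [h, Subgroup.mem_bot, mul_inv_eq_one] at hab
    exact hab
  · have : n ∈ f.ker ⊓ N := h.symm ▸ hn
    exact this.1

/-- Few linear characters are trivial on a given subgroup. -/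
theorem card_hom_trivial_on_le (I : Subgroup G) :
    Nat.card (MonoidHom.domRestrictHom I ℂˣ).ker ≤ I.index := by
  classical
  let v : (MonoidHom.domRestrictHom I ℂˣ).ker → (G ⧸ I → ℂ) := fun f q => (f.1 q.out : ℂ)
  have hcoset : ∀ (f : (MonoidHom.domRestrictHom I ℂˣ).ker) (g : G),
      (f.1 g : ℂ) = v f (g : G ⧸ I) := by
    intro f g
    have hmem : (QuotientGroup.mk g : G ⧸ I).out⁻¹ * g ∈ I := by
      rw [← QuotientGroup.eq, QuotientGroup.out_eq']
    have h1 : f.1 ((QuotientGroup.mk g : G ⧸ I).out⁻¹ * g) = 1 :=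
      DFunLike.congr_fun f.2 ⟨_, hmem⟩
    rw [map_mul, map_inv, inv_mul_eq_one] at h1
    simp only [v]
    rw [h1]
  have hli : LinearIndependent ℂ v := by
    rw [Fintype.linearIndependent_iff]
    intro c hc
    refine Fintype.linearIndependent_iff.mp ((linearIndependent_monoidHom G ℂ).comp
      (fun f : (MonoidHom.domRestrictHom I ℂˣ).ker => (Units.coeHom ℂ).comp f.1) fun a b hab =>
        Subtype.ext (MonoidHom.ext fun g => Units.ext (DFunLike.congr_fun hab g))) c ?_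
    funext g
    have := congrFun hc (g : G ⧸ I)
    simp only [Finset.sum_apply, Pi.smul_apply, smul_eq_mul, Pi.zero_apply, Function.comp_apply,
      MonoidHom.coe_comp, Units.coeHom_apply] at this ⊢
    simp only [hcoset]
    exact this
  have h := hli.fintype_card_le_finrank
  rwa [Module.finrank_pi, ← Nat.card_eq_fintype_card, ← Nat.card_eq_fintype_card] at h

variable {N : Subgroup G} [N.Normal] {φ : Cfsg.IrrCharacter N} {I : Subgroup G}

/-- The main count. -/
theorem card_linear_le (hNI : N ≤ I) (hI : ∀ g : G, g ∈ I ↔ conjFun N (φ : N → ℂ) g = (φ : N → ℂ))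
    (ψ : Cfsg.IrrCharacter I) (hψ : ∀ n : N, (ψ : I → ℂ) ⟨n, hNI n.2⟩ = (φ : N → ℂ) n)
    (htriv : ∀ (f : G →* ℂˣ), ∀ n ∈ N, f n = 1) (Λ : Subgroup (G →* ℂˣ))
    (P : Cfsg.IrrCharacter G → Prop)
    (hP : ∀ f ∈ Λ, ∀ χ : Cfsg.IrrCharacter G, CfsgLib.Char.degree (χ : G → ℂ) =
        CfsgLib.Char.degree (φ : N → ℂ) * I.index →
      (χ : G → ℂ) = Cfsg.indFun I (fun i : I => (f i : ℂ) * (ψ : I → ℂ) i) → P χ) :
    Nat.card Λ ≤ I.index * Nat.card {χ : Cfsg.IrrCharacter G //
      CfsgLib.Char.degree (χ : G → ℂ) = CfsgLib.Char.degree (φ : N → ℂ) * I.index ∧ P χ} := by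
  classical
  let r := MonoidHom.domRestrictHom I ℂˣ
  let r' : Λ →* (I →* ℂˣ) := r.comp Λ.subtype
  have hker : Nat.card r'.ker ≤ Nat.card r.ker :=
    Nat.card_le_card_of_injective (fun f : r'.ker => (⟨f.1.1, f.2⟩ : r.ker))
      fun a b h => Subtype.ext (Subtype.ext (congrArg (fun t : r.ker => (t : G →* ℂˣ)) h))
  have hres : ∀ μ : I →* ℂˣ, (∀ n : N, μ ⟨n, hNI n.2⟩ = 1) →
      (fun n : N => (fun i : I => (μ i : ℂ) * (ψ : I → ℂ) i) ⟨n, hNI n.2⟩) = (φ : N → ℂ) :=
    fun μ hμ => funext fun n => by simp only [hμ n, Units.val_one, one_mul, hψ n]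
  have hc : ∀ μ : I →* ℂˣ, (∀ n : N, μ ⟨n, hNI n.2⟩ = 1) →
      Cfsg.classInner (fun n : N => (fun i : I => (μ i : ℂ) * (ψ : I → ℂ) i) ⟨n, hNI n.2⟩)
        (φ : N → ℂ) ≠ 0 := by
    intro μ hμ
    rw [hres μ hμ, CfsgLib.Char.classInner_irr_self φ.2]
    exact one_ne_zero
  have hrtriv : ∀ μ ∈ r'.range, ∀ n : N, μ ⟨n, hNI n.2⟩ = 1 := by
    rintro _ ⟨f, rfl⟩ n
    exact htriv f.1 n n.2
  have hex : ∀ μ : r'.range, ∃ χ : {χ : Cfsg.IrrCharacter G //
      CfsgLib.Char.degree (χ : G → ℂ) = CfsgLib.Char.degree (φ : N → ℂ) * I.index ∧ P χ},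
      (χ.1 : G → ℂ) = Cfsg.indFun I (fun i : I => (μ.1 i : ℂ) * (ψ : I → ℂ) i) := by
    intro μ
    obtain ⟨f, hf⟩ := μ.2
    have hirrI := CfsgLib.Char.IsIrrCharacter.linear_mul ψ.2 μ.1
    have hirr := CfsgLib.Clifford.isIrrCharacter_indFun N I hNI φ.2 hI hirrI
      (hc μ.1 (hrtriv μ.1 μ.2))
    have hdeg : CfsgLib.Char.degree (Cfsg.indFun I fun i : I => (μ.1 i : ℂ) * (ψ : I → ℂ) i) =
        CfsgLib.Char.degree (φ : N → ℂ) * I.index := by
      have h1 : (CfsgLib.Char.degree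
          (Cfsg.indFun I fun i : I => (μ.1 i : ℂ) * (ψ : I → ℂ) i) : ℂ) =
          ((CfsgLib.Char.degree (φ : N → ℂ) * I.index : ℕ) : ℂ) := by
        push_cast
        rw [CfsgLib.Char.IsCharacter.degree_cast (CfsgLib.Char.IsIrrCharacter.isCharacter hirr),
          CfsgLib.Char.IsCharacter.degree_cast (CfsgLib.Char.IsIrrCharacter.isCharacter φ.2),
          CfsgLib.Char.indFun_apply_one, ← hψ 1, map_one, Units.val_one, one_mul, mul_comm]
        rfl
      exact_mod_cast h1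
    refine ⟨⟨⟨_, hirr⟩, hdeg, hP f.1 f.2 _ hdeg ?_⟩, rfl⟩
    have hfi : ∀ i : I, μ.1 i = f.1 (i : G) := fun i => by
      rw [← hf]
      rfl
    refine congrArg (Cfsg.indFun I) (funext fun i => ?_)
    rw [hfi i]
  choose F hF using hex
  have hinj : Function.Injective F := by
    intro μ μ' h
    have h' : Cfsg.indFun I (fun i : I => (μ.1 i : ℂ) * (ψ : I → ℂ) i) =
        Cfsg.indFun I (fun i : I => (μ'.1 i : ℂ) * (ψ : I → ℂ) i) := by
      rw [← hF μ, ← hF μ', h]
    have h2 := CfsgLib.Clifford.indFun_injective N I hNI φ.2 hI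
      (CfsgLib.Char.IsIrrCharacter.linear_mul ψ.2 μ.1)
      (CfsgLib.Char.IsIrrCharacter.linear_mul ψ.2 μ'.1)
      (hc μ.1 (hrtriv μ.1 μ.2)) (hc μ'.1 (hrtriv μ'.1 μ'.2)) h'
    let N' := N.subgroupOf I
    let e : N' ≃* N := Subgroup.subgroupOfEquivOfLe hNI
    have hirrN : Cfsg.IsIrrCharacter N' (fun n : N' => (ψ : I → ℂ) n) := by
      have : (fun n : N' => (ψ : I → ℂ) n) = (φ : N → ℂ) ∘ e := funext fun n =>
        (congrArg (ψ : I → ℂ) (Subtype.ext rfl)).trans (hψ (e n))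
      rw [this]
      exact isIrrCharacter_comp_equiv φ.2 e
    have hker' : ∀ ν ∈ r'.range, N' ≤ (ν : I →* ℂˣ).ker := fun ν hν n hn =>
      (congrArg ν (Subtype.ext rfl)).trans (hrtriv ν hν ⟨n, hn⟩)
    have hβ := (CfsgLib.CharDeep.Gal.quotient_bijection N' ψ.2 hirrN).2.1
      (fun q => (QuotientGroup.lift N' μ.1 (hker' μ.1 μ.2) q : ℂ))
      (fun q => (QuotientGroup.lift N' μ'.1 (hker' μ'.1 μ'.2) q : ℂ))
      (CfsgLib.Char.isIrrCharacter_linear _) (CfsgLib.Char.isIrrCharacter_linear _)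
      (funext fun i => by
        simp only [Pi.mul_apply, Function.comp_apply, QuotientGroup.mk'_apply,
          QuotientGroup.lift_mk]
        exact congrFun h2 i)
    refine Subtype.ext (MonoidHom.ext fun i => Units.ext ?_)
    have := congrFun hβ (i : I ⧸ N')
    simpa using this
  calc Nat.card Λ = Nat.card r'.ker * Nat.card r'.range := by
        rw [← Subgroup.index_ker r', Subgroup.card_mul_index]
    _ ≤ _ := Nat.mul_le_mul (hker.trans (card_hom_trivial_on_le I))
        (Nat.card_le_card_of_injective F hinj)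

/-- The linear characters as homomorphisms. -/
noncomputable def linearIrrEquiv (H : Type*) [Group H] [Finite H] :
    {χ : Cfsg.IrrCharacter H // Cfsg.charDegree (χ : H → ℂ) = 1} ≃ (H →* ℂˣ) :=
  (Equiv.subtypeEquivRight fun χ : Cfsg.IrrCharacter H => by
    have h := CfsgLib.Char.IsCharacter.degree_cast (CfsgLib.Char.IsIrrCharacter.isCharacter χ.2)
    change CfsgLib.Char.degree (χ : H → ℂ) = 1 ↔ _
    rw [← h, Nat.cast_eq_one]).trans CfsgLib.Char.linearCharEquiv.symm

theorem linearIrrEquiv_apply {H : Type*} [Group H] [Finite H]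
    (χ : {χ : Cfsg.IrrCharacter H // Cfsg.charDegree (χ : H → ℂ) = 1}) (h : H) :
    ((linearIrrEquiv H χ h : ℂˣ) : ℂ) = (χ.1 : H → ℂ) h := by
  obtain ⟨χ, hχ⟩ := χ
  exact congrFun (congrArg (fun x => (x.1.1 : H → ℂ))
    (CfsgLib.Char.linearCharEquiv.apply_symm_apply (⟨χ, _⟩ :
      {χ : Cfsg.IrrCharacter H // (χ : H → ℂ) 1 = 1}))) h

omit [Finite G] in
/-- A linear character has indicator one iff it is a sign character. -/
theorem fsInd_linear_eq_one_iff [Fintype G] (f : G →* ℂˣ) :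
    fsInd (fun g => (f g : ℂ)) = 1 ↔ f ^ 2 = 1 := by
  constructor
  · intro h
    refine MonoidHom.ext fun g => ?_
    have him := im_eq_zero_of_fsInd_ne_zero (CfsgLib.Char.isIrrCharacter_linear f)
      (by rw [h]; exact one_ne_zero) g
    have hinv := CfsgLib.Char.IsIrrCharacter.apply_inv (CfsgLib.Char.isIrrCharacter_linear f) g
    rw [Complex.conj_eq_iff_im.mpr him, Units.val_inj, map_inv, inv_eq_iff_mul_eq_one] at hinv
    rw [MonoidHom.pow_apply, MonoidHom.one_apply, sq, hinv]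
  · intro h
    rw [fsInd, Finset.sum_congr rfl (g := fun _ => (1 : ℂ)) fun g _ => ?_, Finset.sum_const,
      Finset.card_univ, nsmul_eq_mul, mul_one, Nat.card_eq_fintype_card, inv_mul_cancel₀]
    · exact_mod_cast Fintype.card_ne_zero
    · rw [map_mul, ← sq, ← MonoidHom.pow_apply, h, MonoidHom.one_apply, Units.val_one]

end CfsgLib.RealChar
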