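import Mathlib.GroupTheory.GroupAction.Quotient
import Mathlib.GroupTheory.Perm.Basic
import Mathlib.GroupTheory.OrderOfElement
import Mathlib.Algebra.BigOperators.Group.Finset.Basic
import Mathlib.Tactic

/-!
# Integer functions with norm two shift differences under a group of prime order
-/

namespace CfsgLib.RealChar

open MulAction

variable {H X : Type*} [Group H] [Fintype H] [Fintype X] [MulAction H X] {p : ℕ}

theorem dvd_sum_of_invariant (hH : Fintype.card H = p) (f : X → ℤ) {x : X}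
    (h : ∀ a : H, f (a • x) = f x) : (p : ℤ) ∣ ∑ a : H, f (a • x) := by
  rw [Finset.sum_congr rfl fun a _ => h a, Finset.sum_const, Finset.card_univ, hH, nsmul_eq_mul]
  exact dvd_mul_right _ _

/-- If for each `a ≠ 1` in a group of prime order the squared norm of the shift difference
`f (a • x) - f x` is `2`, then exactly one orbit is not constant, it is regular, and the sum of `f`
over it squares to `1` mod `p`. -/
theorem norm_two_orbit (hp : p.Prime) (hH : Fintype.card H = p) (f : X → ℤ)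
    (hf : ∀ a : H, a ≠ 1 → ∑ x, (f (a • x) - f x) ^ 2 = 2) :
    ∃ x₀ : X, (∀ a : H, a • x₀ = x₀ → a = 1) ∧
      (∀ x : X, ¬ (p : ℤ) ∣ ∑ a : H, f (a • x) → x ∈ orbit H x₀) ∧
      (p : ℤ) ∣ (∑ a : H, f (a • x₀)) ^ 2 - 1 := by
  classical
  haveI : Fact p.Prime := ⟨hp⟩
  have hcard : Nat.card H = p := by rw [Nat.card_eq_fintype_card, hH]
  have hgen : ∀ a : H, a ≠ 1 → ∀ b : H, b ∈ Subgroup.zpowers a := fun a ha b =>
    mem_zpowers_of_prime_card hcard ha
  -- non-constancy is detected by every nontrivial shift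
  have hdet : ∀ (a : H), a ≠ 1 → ∀ x : X, (∀ y ∈ orbit H x, f (a • y) = f y) →
      ∀ b : H, f (b • x) = f x := by
    intro a ha x hy b
    obtain ⟨k, rfl⟩ := mem_powers_iff_mem_zpowers.mpr (hgen a ha b)
    induction k with
    | zero => simp
    | succ k ih =>
      calc f (a ^ (k + 1) • x) = f (a • (a ^ k • x)) := by rw [pow_succ', mul_smul]
        _ = f x := (hy _ (mem_orbit x _)).trans ih
  let O : X → Finset X := fun x => Finset.univ.filter fun y => y ∈ orbit H x
  have hO : ∀ x, ¬ (∀ b : H, f (b • x) = f x) → ∀ a : H, a ≠ 1 →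
      2 ≤ ∑ y ∈ O x, (f (a • y) - f y) ^ 2 := by
    intro x hx a ha
    have hz : ∑ y ∈ O x, (f (a • y) - f y) = 0 := by
      rw [Finset.sum_sub_distrib, sub_eq_zero]
      refine Finset.sum_nbij' (fun y => a • y) (fun y => a⁻¹ • y) ?_ ?_ ?_ ?_ ?_
      · intro y hy
        simp only [O, Finset.mem_coe, Finset.mem_filter, Finset.mem_univ, true_and] at hy ⊢
        obtain ⟨b, rfl⟩ := hy
        exact ⟨a * b, mul_smul a b x⟩
      · intro y hy
        simp only [O, Finset.mem_coe, Finset.mem_filter, Finset.mem_univ, true_and] at hy ⊢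
        obtain ⟨b, rfl⟩ := hy
        exact ⟨a⁻¹ * b, mul_smul a⁻¹ b x⟩
      · intro y _; exact inv_smul_smul a y
      · intro y _; exact smul_inv_smul a y
      · intro y _; rfl
    obtain ⟨y, hy, hne⟩ : ∃ y ∈ O x, f (a • y) - f y ≠ 0 := by
      by_contra hcon
      push Not at hcon
      exact hx (hdet a ha x fun y hy => sub_eq_zero.mp
        (hcon y (Finset.mem_filter.mpr ⟨Finset.mem_univ _, hy⟩)))
    obtain ⟨z, hz', hzy, hne'⟩ : ∃ z ∈ O x, z ≠ y ∧ f (a • z) - f z ≠ 0 := by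
      by_contra hcon
      push Not at hcon
      rw [Finset.sum_eq_single_of_mem y hy fun b hb hby => hcon b hb hby] at hz
      exact hne hz
    have h1 : ∀ t : ℤ, t ≠ 0 → 1 ≤ t ^ 2 := fun t ht => by
      have : 0 < t ^ 2 := lt_of_le_of_ne (sq_nonneg t) (Ne.symm (pow_ne_zero 2 ht))
      omega
    calc (2 : ℤ) ≤ (f (a • y) - f y) ^ 2 + (f (a • z) - f z) ^ 2 :=
          add_le_add (h1 _ hne) (h1 _ hne')
      _ = ∑ b ∈ ({y, z} : Finset X), (f (a • b) - f b) ^ 2 := (Finset.sum_pair (f := fun b => (f (a • b) - f b) ^ 2) hzy.symm).symm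
      _ ≤ _ := Finset.sum_le_sum_of_subset_of_nonneg (Finset.insert_subset hy
          (Finset.singleton_subset_iff.mpr hz')) fun _ _ _ => sq_nonneg _
  obtain ⟨a₁, ha₁⟩ : ∃ a : H, a ≠ 1 := by
    haveI : Nontrivial H := Fintype.one_lt_card_iff_nontrivial.mp (hH ▸ hp.one_lt)
    exact exists_ne 1
  obtain ⟨x₀, hx₀⟩ : ∃ x, ¬ (∀ b : H, f (b • x) = f x) := by
    by_contra hcon
    push Not at hcon
    have := hf a₁ ha₁
    rw [Finset.sum_eq_zero fun x _ => by rw [hcon x a₁]; simp] at this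
    exact two_ne_zero this.symm
  have hsupp : ∀ a : H, a ≠ 1 → ∑ y ∈ O x₀, (f (a • y) - f y) ^ 2 = 2 :=
    fun a ha => le_antisymm ((Finset.sum_le_univ_sum_of_nonneg fun _ => sq_nonneg _).trans
      (hf a ha).le) (hO x₀ hx₀ a ha)
  have hfree : ∀ a : H, a • x₀ = x₀ → a = 1 := by
    intro a ha
    by_contra hne
    refine hx₀ fun b => ?_
    have hb : b • x₀ = x₀ := by
      obtain ⟨k, rfl⟩ := Subgroup.mem_zpowers_iff.mp (hgen a hne b)
      exact mem_stabilizer_iff.mp (Subgroup.zpow_mem _ (mem_stabilizer_iff.mpr ha) k)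
    rw [hb]
  refine ⟨x₀, hfree, fun x hx => ?_, ?_⟩
  · by_contra hxo
    have hxc : ¬ ∀ b : H, f (b • x) = f x := fun h => hx (dvd_sum_of_invariant hH f h)
    have hdisj : Disjoint (O x₀) (O x) := by
      rw [Finset.disjoint_left]
      intro y hy hy'
      simp only [O, Finset.mem_filter, Finset.mem_univ, true_and] at hy hy'
      exact hxo ((orbit_eq_iff.mp ((orbit_eq_iff.mpr hy').symm.trans (orbit_eq_iff.mpr hy))))
    have h4 : (4 : ℤ) ≤ ∑ y, (f (a₁ • y) - f y) ^ 2 :=
      calc (4 : ℤ) ≤ ∑ y ∈ O x₀, (f (a₁ • y) - f y) ^ 2 + ∑ y ∈ O x, (f (a₁ • y) - f y) ^ 2 := by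
            linarith [hO x₀ hx₀ a₁ ha₁, hO x hxc a₁ ha₁]
        _ = ∑ y ∈ (O x₀).disjUnion (O x) hdisj, (f (a₁ • y) - f y) ^ 2 :=
            (Finset.sum_disjUnion hdisj).symm
        _ ≤ _ := Finset.sum_le_univ_sum_of_nonneg fun _ => sq_nonneg _
    have := hf a₁ ha₁
    linarith
  · have hreg : ∀ (F : X → ℤ), ∑ y ∈ O x₀, F y = ∑ a : H, F (a • x₀) := by
      intro F
      symm
      refine Finset.sum_bij (fun a _ => a • x₀) ?_ ?_ ?_ (fun _ _ => rfl)
      · intro a _
        exact Finset.mem_filter.mpr ⟨Finset.mem_univ _, mem_orbit x₀ a⟩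
      · intro a _ b _ hab
        have : (b⁻¹ * a) • x₀ = x₀ := by rw [mul_smul, hab, inv_smul_smul]
        exact (inv_mul_eq_one.mp (hfree _ this)).symm
      · intro y hy
        obtain ⟨a, rfl⟩ := (Finset.mem_filter.mp hy).2
        exact ⟨a, Finset.mem_univ _, rfl⟩
    set g : H → ℤ := fun a => f (a • x₀) with hg
    have hrow : ∀ a : H, ∑ b : H, (g (a * b) - g b) ^ 2 = if a = 1 then 0 else 2 := by
      intro a
      split_ifs with ha
      · subst ha; simp
      · rw [← hsupp a ha, hreg]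
        simp [g, mul_smul]
    have htot : ∑ a : H, ∑ b : H, (g (a * b) - g b) ^ 2 = 2 * ((p : ℤ) - 1) := by
      simp only [hrow]
      rw [← Finset.add_sum_erase _ _ (Finset.mem_univ (1 : H)), if_pos rfl, zero_add,
        Finset.sum_congr rfl fun a ha => if_neg (Finset.ne_of_mem_erase ha), Finset.sum_const,
        Finset.card_erase_of_mem (Finset.mem_univ _), Finset.card_univ, hH, nsmul_eq_mul,
        Nat.cast_sub hp.one_le]
      push_cast
      ring
    have hexp : ∑ a : H, ∑ b : H, (g (a * b) - g b) ^ 2 =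
        2 * ((p : ℤ) * ∑ b, g b ^ 2) - 2 * (∑ b, g b) ^ 2 := by
      have e1 : ∀ b : H, ∑ a : H, (g (a * b) - g b) ^ 2 = ∑ c : H, (g c - g b) ^ 2 := fun b =>
        Fintype.sum_equiv (Equiv.mulRight b) _ _ fun a => rfl
      rw [Finset.sum_comm, Finset.sum_congr rfl fun b _ => e1 b]
      simp only [sub_sq, Finset.sum_add_distrib, Finset.sum_sub_distrib, Finset.sum_const,
        Finset.card_univ, hH, nsmul_eq_mul, ← Finset.mul_sum, ← Finset.sum_mul, mul_assoc]
      ring
    refine ⟨∑ b, g b ^ 2 - 1, ?_⟩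
    have h := hexp.symm.trans htot
    change (∑ a, g a) ^ 2 - 1 = (p : ℤ) * (∑ b, g b ^ 2 - 1)
    rw [mul_sub, mul_one]
    linarith

end CfsgLib.RealChar
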