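import Cfsg.Agent.Lib.RealChar.Trichotomy
import Cfsg.Agent.Lib.Char.Clifford
import Cfsg.Agent.Lib.Char.Conj
import Cfsg.Agent.Lib.Char.RealOdd
import Mathlib.GroupTheory.GroupAction.Quotient
import Mathlib.Algebra.Group.ConjFinite

/-!
# Real characters and real classes of a normal subgroup of odd index

For a normal subgroup `K` of odd index, the group permutes the real characters and the real
classes of `K` with the same numbers of fixed points, and every orbit of real characters has
exactly one real character above it.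
-/

set_option linter.style.haveILetI false

namespace CfsgLib.RealChar

open CharTwist
open scoped ComplexConjugate

variable {G : Type*} [Group G] {K : Subgroup G} [hK : K.Normal]

/-- The real-valued irreducible characters of a subgroup. -/
abbrev RealIrr (K : Subgroup G) := {θ : Cfsg.IrrCharacter K // ∀ k : K, ((θ : K → ℂ) k).im = 0}

/-- The real classes of a subgroup. -/
abbrev RealClass (K : Subgroup G) :=
  {C : ConjClasses K // ∀ k : K, ConjClasses.mk k = C → IsConj k k⁻¹}

/-- Conjugation on real-valued irreducible characters of a normal subgroup. -/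
instance realIrrAction : MulAction G (RealIrr K) where
  smul g θ := ⟨⟨conjFun K (θ.1 : K → ℂ) g⁻¹, isIrrCharacter_conjFun K θ.1.2 g⁻¹⟩,
    fun _ => θ.2 _⟩
  one_smul θ := Subtype.ext (Subtype.ext (by
    change conjFun K (θ.1 : K → ℂ) (1 : G)⁻¹ = _
    rw [inv_one, conjFun_one]))
  mul_smul g h θ := Subtype.ext (Subtype.ext (by
    change conjFun K (θ.1 : K → ℂ) (g * h)⁻¹ = conjFun K (conjFun K (θ.1 : K → ℂ) h⁻¹) g⁻¹
    rw [← conjFun_mul, mul_inv_rev]))

theorem realIrr_smul_apply (g : G) (θ : RealIrr K) :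
    ((g • θ : RealIrr K).1 : K → ℂ) = conjFun K (θ.1 : K → ℂ) g⁻¹ := rfl

/-- Conjugation on the classes of a normal subgroup. -/
instance classAction : MulAction G (ConjClasses K) where
  smul g C := ConjClasses.map (MulAut.conjNormal (H := K) g).toMonoidHom C
  one_smul C := by
    obtain ⟨k, rfl⟩ := ConjClasses.mk_surjective C
    exact congrArg ConjClasses.mk (Subtype.ext (by simp [MulAut.conjNormal_apply]))
  mul_smul g h C := by
    obtain ⟨k, rfl⟩ := ConjClasses.mk_surjective C
    exact congrArg ConjClasses.mk (Subtype.ext (by simp [MulAut.conjNormal_apply, mul_assoc]))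

theorem smul_mk (g : G) (k : K) :
    g • ConjClasses.mk k = ConjClasses.mk (MulAut.conjNormal (H := K) g k) := rfl

/-- Conjugation on the real classes of a normal subgroup. -/
instance realClassAction : MulAction G (RealClass K) where
  smul g C := ⟨g • C.1, fun k hk => by
    obtain ⟨a, ha⟩ := ConjClasses.mk_surjective C.1
    have h1 := C.2 a ha
    rw [← ha, smul_mk, ConjClasses.mk_eq_mk_iff_isConj] at hk
    have h2 : IsConj (MulAut.conjNormal (H := K) g a) (MulAut.conjNormal (H := K) g a)⁻¹ := by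
      rw [← map_inv]
      exact (MulAut.conjNormal (H := K) g).toMonoidHom.map_isConj h1
    obtain ⟨c, hc⟩ := isConj_iff.mp hk
    exact hk.trans (h2.trans (isConj_iff.mpr ⟨c⁻¹, by rw [← hc]; group⟩))⟩
  one_smul C := Subtype.ext (one_smul G C.1)
  mul_smul g h C := Subtype.ext (mul_smul g h C.1)

theorem realClass_smul_val (g : G) (C : RealClass K) : (g • C : RealClass K).1 = g • C.1 := rfl

theorem mem_of_mul_self_mem [Finite G] (hodd : Odd K.index) {H : Subgroup G} (hKH : K ≤ H)
    {g : G} (hg : g * g ∈ H) : g ∈ H := by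
  obtain ⟨c, hc⟩ := hodd
  have h1 : g ^ K.index ∈ H := hKH (Subgroup.pow_index_mem K g)
  rw [hc, pow_succ, pow_mul] at h1
  have h2 : (g ^ 2) ^ c ∈ H := H.pow_mem (by rw [pow_two]; exact hg) c
  exact (Subgroup.mul_mem_cancel_left H h2).mp h1

theorem le_stabilizer_mk (k : K) : K ≤ MulAction.stabilizer G (ConjClasses.mk k) := by
  intro g hg
  rw [MulAction.mem_stabilizer_iff, smul_mk, ConjClasses.mk_eq_mk_iff_isConj]
  exact (isConj_iff.mpr ⟨⟨g, hg⟩, Subtype.ext (by simp [MulAut.conjNormal_apply])⟩).symm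

/-- An element of the group fixes as many real characters as real classes of `K`. -/
theorem card_fixedBy_realIrr [Finite G] (hodd : Odd K.index) (g : G) :
    Nat.card (MulAction.fixedBy (RealIrr K) g) = Nat.card (MulAction.fixedBy (RealClass K) g) := by
  haveI := Fintype.ofFinite G
  have h := CfsgLib.Char.card_fixed_irr_eq_card_fixed_classes (G := K)
    (fun k => (MulAut.conjNormal (H := K) g⁻¹ k)⁻¹) fun χ hχ => by
      have he : χ ∘ (fun k => (MulAut.conjNormal (H := K) g⁻¹ k)⁻¹) =
          fun k => conj (conjFun K χ g⁻¹ k) := funext fun k => by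
        simp only [Function.comp_apply, CfsgLib.Char.IsIrrCharacter.apply_inv hχ]
        rfl
      rw [he]
      exact CfsgLib.Char.IsIrrCharacter.conj_apply' (isIrrCharacter_conjFun K hχ g⁻¹)
  have hX : ∀ θ : Cfsg.IrrCharacter K,
      (θ : K → ℂ) ∘ (fun k => (MulAut.conjNormal (H := K) g⁻¹ k)⁻¹) = (θ : K → ℂ) ↔
      (∀ k : K, ((θ : K → ℂ) k).im = 0) ∧ conjFun K (θ : K → ℂ) g⁻¹ = (θ : K → ℂ) := by
    intro θ
    have he : ∀ k : K, (θ : K → ℂ) (MulAut.conjNormal (H := K) g⁻¹ k)⁻¹ =
        conj (conjFun K (θ : K → ℂ) g⁻¹ k) := fun k =>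
      CfsgLib.Char.IsIrrCharacter.apply_inv θ.2 _
    constructor
    · intro hfix
      have hconj : conjFun K (θ : K → ℂ) g⁻¹ = fun k => conj ((θ : K → ℂ) k) := by
        funext k
        have := congrFun hfix k
        simp only [Function.comp_apply, he] at this
        rw [← this, Complex.conj_conj]
      have h2 : g⁻¹ * g⁻¹ ∈ inertia K (θ : K → ℂ) := by
        rw [mem_inertia, conjFun_mul, hconj, conjFun_conj, hconj]
        funext k
        exact Complex.conj_conj _
      have h1 : g⁻¹ ∈ inertia K (θ : K → ℂ) := mem_of_mul_self_mem hodd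
        (le_inertia K (CfsgLib.Char.IsIrrCharacter.isClassFunction θ.2)) h2
      rw [mem_inertia] at h1
      refine ⟨fun k => ?_, h1⟩
      rw [hconj] at h1
      exact Complex.conj_eq_iff_im.mp (congrFun h1 k)
    · rintro ⟨hre, hfix⟩
      funext k
      rw [Function.comp_apply, he, hfix, Complex.conj_eq_iff_im.mpr (hre k)]
  have hY : ∀ C : ConjClasses K,
      (∀ k : K, ConjClasses.mk k = C → IsConj (MulAut.conjNormal (H := K) g⁻¹ k)⁻¹ k) ↔
      (∀ k : K, ConjClasses.mk k = C → IsConj k k⁻¹) ∧ g • C = C := by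
    intro C
    have hinv : ∀ a b : K, IsConj a⁻¹ b → IsConj a b⁻¹ := fun a b hab => by
      obtain ⟨c, hc⟩ := isConj_iff.mp hab
      exact isConj_iff.mpr ⟨c, by rw [← hc]; group⟩
    constructor
    · intro hfix
      obtain ⟨k, rfl⟩ := ConjClasses.mk_surjective C
      have hk : g⁻¹ • ConjClasses.mk k = ConjClasses.mk k⁻¹ := by
        rw [smul_mk, ConjClasses.mk_eq_mk_iff_isConj]
        exact hinv _ _ (hfix k rfl)
      have hkk : g⁻¹ • ConjClasses.mk k⁻¹ = ConjClasses.mk k := by
        rw [smul_mk, ConjClasses.mk_eq_mk_iff_isConj, map_inv]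
        exact hfix k rfl
      have h1 : g⁻¹ ∈ MulAction.stabilizer G (ConjClasses.mk k) :=
        mem_of_mul_self_mem hodd (le_stabilizer_mk k)
          (by rw [MulAction.mem_stabilizer_iff, mul_smul, hk, hkk])
      rw [MulAction.mem_stabilizer_iff] at h1
      refine ⟨fun a ha => ?_, inv_smul_eq_iff.mp h1 |>.symm⟩
      rw [h1, ConjClasses.mk_eq_mk_iff_isConj] at hk
      rw [ConjClasses.mk_eq_mk_iff_isConj] at ha
      obtain ⟨c, hc⟩ := isConj_iff.mp ha
      exact ha.trans (hk.trans (isConj_iff.mpr ⟨c⁻¹, by rw [← hc]; group⟩))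
    · rintro ⟨hre, hfix⟩ k rfl
      have h1 : g⁻¹ • ConjClasses.mk k = ConjClasses.mk k := by
        rw [inv_smul_eq_iff, hfix]
      rw [smul_mk, ConjClasses.mk_eq_mk_iff_isConj] at h1
      obtain ⟨c, hc⟩ := isConj_iff.mp h1
      exact (isConj_iff.mpr ⟨c, by rw [← conj_inv, hc]⟩).trans (hre k rfl).symm
  refine Eq.trans ?_ (h.trans ?_)
  · refine Nat.card_congr
      ⟨fun θ => ⟨θ.1.1, (hX _).mpr ⟨θ.1.2, congrArg (fun t : RealIrr K => (t.1 : K → ℂ)) θ.2⟩⟩,
        fun θ => ⟨⟨θ.1, ((hX _).mp θ.2).1⟩, Subtype.ext (Subtype.ext ((hX _).mp θ.2).2)⟩,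
        fun _ => rfl, fun _ => rfl⟩
  · exact Nat.card_congr
      ⟨fun C => ⟨⟨C.1, ((hY _).mp C.2).1⟩, Subtype.ext ((hY _).mp C.2).2⟩,
        fun C => ⟨C.1.1, (hY _).mpr ⟨C.1.2, congrArg Subtype.val C.2⟩⟩,
        fun _ => rfl, fun _ => rfl⟩

/-- Sets with equal fixed point numbers have equally many orbits. -/
theorem card_orbits_eq_of_card_fixedBy {A X Y : Type*} [Group A] [Finite A] [Finite X] [Finite Y]
    [MulAction A X] [MulAction A Y]
    (h : ∀ a : A, Nat.card (MulAction.fixedBy X a) = Nat.card (MulAction.fixedBy Y a)) :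
    Nat.card (MulAction.orbitRel.Quotient A X) = Nat.card (MulAction.orbitRel.Quotient A Y) := by
  classical
  haveI := Fintype.ofFinite A
  haveI := Fintype.ofFinite X
  haveI := Fintype.ofFinite Y
  have hX := MulAction.sum_card_fixedBy_eq_card_orbits_mul_card_group A X
  have hY := MulAction.sum_card_fixedBy_eq_card_orbits_mul_card_group A Y
  simp only [← Nat.card_eq_fintype_card] at hX hY
  simp only [h, hY] at hX
  exact Nat.eq_of_mul_eq_mul_right Nat.card_pos hX.symm

theorem card_realIrr_orbits [Finite G] (hodd : Odd K.index) :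
    Nat.card (MulAction.orbitRel.Quotient G (RealIrr K)) =
      Nat.card (MulAction.orbitRel.Quotient G (RealClass K)) :=
  card_orbits_eq_of_card_fixedBy (card_fixedBy_realIrr hodd)

/-- A real element of the group lies in `K` and is real in `K`. -/
theorem real_elt_mem [Finite G] (hodd : Odd K.index) {g : G} (h : IsConj g g⁻¹) :
    ∃ hg : g ∈ K, IsConj (⟨g, hg⟩ : K) (⟨g, hg⟩ : K)⁻¹ := by
  have hg : g ∈ K := by
    rw [← QuotientGroup.eq_one_iff]
    refine CfsgLib.Char.eq_one_of_isConj_inv_of_odd (by exact hodd) ?_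
    rw [← QuotientGroup.mk_inv]
    exact (QuotientGroup.mk' K).map_isConj h
  refine ⟨hg, ?_⟩
  have h1 : (ConjClasses.mk (⟨g, hg⟩ : K)⁻¹) ∈ MulAction.orbit G (ConjClasses.mk (⟨g, hg⟩ : K)) := by
    obtain ⟨x, hx⟩ := isConj_iff.mp h
    exact ⟨x, (smul_mk x _).trans (congrArg ConjClasses.mk (Subtype.ext
      (by simpa [MulAut.conjNormal_apply] using hx)))⟩
  obtain ⟨x, hx⟩ := h1
  have hinv : x • ConjClasses.mk (⟨g, hg⟩ : K)⁻¹ = ConjClasses.mk ⟨g, hg⟩ := by
    have hx' : IsConj (MulAut.conjNormal (H := K) x ⟨g, hg⟩) (⟨g, hg⟩ : K)⁻¹ :=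
      ConjClasses.mk_eq_mk_iff_isConj.mp hx
    obtain ⟨c, hc⟩ := isConj_iff.mp hx'
    rw [smul_mk, map_inv, ConjClasses.mk_eq_mk_iff_isConj]
    exact isConj_iff.mpr ⟨c, by rw [← conj_inv, hc, inv_inv]⟩
  have hx1 : x ∈ MulAction.stabilizer G (ConjClasses.mk (⟨g, hg⟩ : K)) :=
    mem_of_mul_self_mem hodd (le_stabilizer_mk _) (by
      rw [MulAction.mem_stabilizer_iff, mul_smul]
      exact (congrArg (x • ·) hx).trans hinv)
  rw [MulAction.mem_stabilizer_iff] at hx1
  exact ConjClasses.mk_eq_mk_iff_isConj.mp (hx1.symm.trans hx)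

/-- The real classes of the group correspond to the orbits of real classes of `K`. -/
theorem card_realClass_orbits [Finite G] (hodd : Odd K.index) :
    Nat.card (MulAction.orbitRel.Quotient G (RealClass K)) =
      Nat.card {C : ConjClasses G // ∀ g : G, ConjClasses.mk g = C → IsConj g g⁻¹} := by
  let f : RealClass K → {C : ConjClasses G // ∀ g : G, ConjClasses.mk g = C → IsConj g g⁻¹} :=
    fun C => ⟨ConjClasses.map K.subtype C.1, fun g hg => by
      obtain ⟨a, ha⟩ := ConjClasses.mk_surjective C.1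
      have hg' : IsConj g (a : G) := by
        rw [← ha] at hg
        exact ConjClasses.mk_eq_mk_iff_isConj.mp hg
      have h1 : IsConj (a : G) (a : G)⁻¹ := K.subtype.map_isConj (C.2 a ha)
      obtain ⟨c, hc⟩ := isConj_iff.mp hg'
      exact hg'.trans (h1.trans (isConj_iff.mpr ⟨c⁻¹, by rw [← hc]; group⟩))⟩
  have hwd : ∀ C D : RealClass K, MulAction.orbitRel G (RealClass K) C D → f C = f D := by
    rintro C D ⟨g, rfl⟩
    obtain ⟨a, ha⟩ := ConjClasses.mk_surjective D.1
    refine Subtype.ext ?_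
    change ConjClasses.map K.subtype (g • D.1) = ConjClasses.map K.subtype D.1
    rw [← ha, smul_mk]
    exact ConjClasses.mk_eq_mk_iff_isConj.mpr
      (isConj_iff.mpr ⟨g⁻¹, by simp [MulAut.conjNormal_apply, mul_assoc]⟩)
  refine Nat.card_congr (Equiv.ofBijective (Quotient.lift f hwd) ⟨?_, ?_⟩)
  · intro q r h
    induction q using Quotient.inductionOn with
    | h C =>
    induction r using Quotient.inductionOn with
    | h D =>
      refine Quotient.sound ?_
      obtain ⟨a, ha⟩ := ConjClasses.mk_surjective C.1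
      obtain ⟨b, hb⟩ := ConjClasses.mk_surjective D.1
      have h' : ConjClasses.map K.subtype C.1 = ConjClasses.map K.subtype D.1 :=
        congrArg Subtype.val h
      rw [← ha, ← hb] at h'
      obtain ⟨c, hc⟩ := isConj_iff.mp (ConjClasses.mk_eq_mk_iff_isConj.mp h').symm
      refine ⟨c, Subtype.ext ?_⟩
      change c • D.1 = C.1
      rw [← ha, ← hb, smul_mk]
      exact congrArg ConjClasses.mk
        (Subtype.ext (by simpa [MulAut.conjNormal_apply] using hc))
  · intro C
    obtain ⟨g, hg⟩ := ConjClasses.mk_surjective C.1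
    obtain ⟨hgK, hreal⟩ := real_elt_mem hodd (C.2 g hg)
    refine ⟨Quotient.mk _ ⟨ConjClasses.mk ⟨g, hgK⟩, fun k hk => ?_⟩, Subtype.ext hg⟩
    rw [ConjClasses.mk_eq_mk_iff_isConj] at hk
    obtain ⟨c, hc⟩ := isConj_iff.mp hk
    exact hk.trans (hreal.trans (isConj_iff.mpr ⟨c⁻¹, by rw [← hc]; group⟩))

/-- The real irreducible characters of the group are as many as the orbits of real irreducible
characters of `K`. -/
theorem card_real_irr_eq_card_orbits [Finite G] (hodd : Odd K.index) :
    Nat.card {χ : Cfsg.IrrCharacter G // ∀ g : G, ((χ : G → ℂ) g).im = 0} =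
      Nat.card (MulAction.orbitRel.Quotient G (RealIrr K)) := by
  rw [CfsgLib.Char.card_real_irr_eq_card_real_classes, card_realIrr_orbits hodd,
    card_realClass_orbits hodd]

/-- The multiplicity of `θ` in the restriction of `χ`. -/
noncomputable def mult [Fintype G] [Fintype K] (χ : G → ℂ) (θ : K → ℂ) : ℂ :=
  Cfsg.classInner (fun k : K => χ k) θ

/-- The weighted sum of indicators over the characters above `θ` is the indicator of `θ`. -/
theorem sum_fsInd_mul_mult [Fintype G] [Fintype K] (hodd : Odd K.index) (θ : Cfsg.IrrCharacter K) :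
    ∑ χ : Cfsg.IrrCharacter G, fsInd (χ : G → ℂ) * mult (χ : G → ℂ) (θ : K → ℂ) =
      fsInd (θ : K → ℂ) := by
  classical
  have hfun : (∑ χ : Cfsg.IrrCharacter G, fsInd (χ : G → ℂ) • fun k : K => (χ : G → ℂ) k) =
      ∑ ψ : Cfsg.IrrCharacter K, fsInd (ψ : K → ℂ) • (ψ : K → ℂ) := by
    funext k
    simp only [Finset.sum_apply, Pi.smul_apply, smul_eq_mul, sum_fsInd_mul_apply]
    norm_cast
    have hmem : ∀ x : G, x * x = (k : G) → x ∈ K := fun x hx =>
      mem_of_mul_self_mem hodd le_rfl (hx ▸ k.2)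
    exact Nat.card_congr
      ⟨fun x => ⟨⟨x.1, hmem x.1 x.2⟩, Subtype.ext x.2⟩,
        fun x => ⟨x.1.1, congrArg Subtype.val x.2⟩, fun _ => rfl, fun _ => rfl⟩
  have h := congrArg (fun φ => Cfsg.classInner φ (θ : K → ℂ)) hfun
  rw [CfsgLib.Char.classInner_sum_smul_irr, CfsgLib.Char.classInner_sum_left] at h
  simp only [CfsgLib.Char.classInner_smul_left] at h
  exact h

/-- Above each orbit of real characters there is a real character, of multiplicity one and with the
same indicator, and it is the only real character above that orbit. -/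
theorem existsUnique_real_above [Fintype G] [Fintype K] (hodd : Odd K.index) (θ : RealIrr K) :
    ∃! χ : Cfsg.IrrCharacter G,
      (∀ g : G, ((χ : G → ℂ) g).im = 0) ∧ mult (χ : G → ℂ) (θ.1 : K → ℂ) ≠ 0 := by
  classical
  -- a real character lies above at most one orbit, and above every orbit lies a real character
  have hex : ∀ η : RealIrr K, ∃ χ : Cfsg.IrrCharacter G,
      (∀ g : G, ((χ : G → ℂ) g).im = 0) ∧ mult (χ : G → ℂ) (η.1 : K → ℂ) ≠ 0 := by
    intro η
    by_contra hcon
    push Not at hcon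
    have h := sum_fsInd_mul_mult hodd η.1
    rw [Finset.sum_eq_zero fun χ _ => ?_] at h
    · exact (fsInd_ne_zero_iff η.1.2).mpr η.2 h.symm
    · by_cases hν : fsInd (χ : G → ℂ) = 0
      · rw [hν, zero_mul]
      · rw [hcon χ (im_eq_zero_of_fsInd_ne_zero χ.2 hν), mul_zero]
  let ι := MulAction.orbitRel.Quotient G (RealIrr K)
  choose F hF1 hF2 using fun q : ι => hex q.out
  have horb : ∀ (χ : Cfsg.IrrCharacter G) (η η' : RealIrr K),
      mult (χ : G → ℂ) (η.1 : K → ℂ) ≠ 0 → mult (χ : G → ℂ) (η'.1 : K → ℂ) ≠ 0 →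
        (Quotient.mk _ η : ι) = Quotient.mk _ η' := by
    intro χ η η' h h'
    obtain ⟨g, hg⟩ := CfsgLib.Clifford.exists_conjFun_eq K χ.2 η'.1.2 η.1.2 h' h
    refine Quotient.sound ⟨g⁻¹, Subtype.ext (Subtype.ext ?_)⟩
    change conjFun K (η'.1 : K → ℂ) (g⁻¹)⁻¹ = _
    rw [inv_inv, hg]
  let F' : ι → {χ : Cfsg.IrrCharacter G // ∀ g : G, ((χ : G → ℂ) g).im = 0} :=
    fun q => ⟨F q, hF1 q⟩
  have hFinj : Function.Injective F' := by
    intro q r h
    have h' : F q = F r := congrArg Subtype.val h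
    have := horb (F q) q.out r.out (hF2 q) (h' ▸ hF2 r)
    rwa [Quotient.out_eq, Quotient.out_eq] at this
  have hFbij := (Nat.bijective_iff_injective_and_card F').mpr
    ⟨hFinj, (card_real_irr_eq_card_orbits hodd).symm⟩
  have hmultinv : ∀ (χ : Cfsg.IrrCharacter G) (η η' : RealIrr K),
      (Quotient.mk _ η : ι) = Quotient.mk _ η' →
      mult (χ : G → ℂ) (η.1 : K → ℂ) = mult (χ : G → ℂ) (η'.1 : K → ℂ) := by
    intro χ η η' h
    obtain ⟨g, rfl⟩ := Quotient.exact h
    exact CfsgLib.Clifford.classInner_res_conjFun K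
      (CfsgLib.Char.IsIrrCharacter.isClassFunction χ.2) _ _
  refine ⟨F (Quotient.mk _ θ), ⟨hF1 _, ?_⟩, fun χ hχ => ?_⟩
  · rw [hmultinv _ θ (Quotient.mk _ θ : ι).out (Quotient.out_eq _).symm]
    exact hF2 _
  · obtain ⟨q, hq⟩ := hFbij.2 ⟨χ, hχ.1⟩
    have hq' : F q = χ := congrArg Subtype.val hq
    have := horb χ q.out θ (hq' ▸ hF2 q) hχ.2
    rw [Quotient.out_eq] at this
    rw [← hq', this]

/-- The indicator and multiplicity of the real character above a real character. -/
theorem mult_fsInd_of_real_above [Fintype G] [Fintype K] (hodd : Odd K.index) (θ : RealIrr K)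
    {χ : Cfsg.IrrCharacter G} (hr : ∀ g : G, ((χ : G → ℂ) g).im = 0)
    (hm : mult (χ : G → ℂ) (θ.1 : K → ℂ) ≠ 0) :
    mult (χ : G → ℂ) (θ.1 : K → ℂ) = 1 ∧ fsInd (χ : G → ℂ) = fsInd (θ.1 : K → ℂ) := by
  classical
  obtain ⟨χ', hχ', huniq⟩ := existsUnique_real_above hodd θ
  have h := sum_fsInd_mul_mult hodd θ.1
  rw [Finset.sum_eq_single χ] at h
  · obtain ⟨m, hm'⟩ := CfsgLib.Char.IsCharacter.exists_nat_classInner
      (CfsgLib.Clifford.isCharacter_res (CfsgLib.Char.IsIrrCharacter.isCharacter χ.2) K) θ.1.2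
    have hm'' : mult (χ : G → ℂ) (θ.1 : K → ℂ) = (m : ℂ) := hm'
    rw [hm''] at h hm ⊢
    have hm1 : m = 1 := by
      rcases fsInd_eq χ.2 with h0 | h0 | h0 <;>
        rcases fsInd_eq θ.1.2 with h1 | h1 | h1 <;> rw [h0, h1] at h
      all_goals try (exact absurd h1 ((fsInd_ne_zero_iff θ.1.2).mpr θ.2))
      · simp at h
      · simp at h
      · exact_mod_cast (by linear_combination h : (m : ℂ) = 1)
      · exfalso
        have h2 : (m : ℤ) = -1 := by exact_mod_cast (by linear_combination h : (m : ℂ) = -1)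
        omega
      · exfalso
        have h2 : (m : ℤ) = -1 := by exact_mod_cast (by linear_combination -h : (m : ℂ) = -1)
        omega
      · exact_mod_cast (by linear_combination -h : (m : ℂ) = 1)
    subst hm1
    rw [Nat.cast_one, mul_one] at h
    exact ⟨Nat.cast_one, h⟩
  · intro ψ _ hψ
    by_cases hν : fsInd (ψ : G → ℂ) = 0
    · rw [hν, zero_mul]
    · by_cases hmψ : mult (ψ : G → ℂ) (θ.1 : K → ℂ) = 0
      · rw [hmψ, mul_zero]
      · exact absurd ((huniq ψ ⟨im_eq_zero_of_fsInd_ne_zero ψ.2 hν, hmψ⟩).trans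
          (huniq χ ⟨hr, hm⟩).symm) hψ
  · exact fun h' => absurd (Finset.mem_univ _) h'

/-- A real character lies above a real character of `K`. -/
theorem exists_real_below [Fintype G] [Fintype K] (hodd : Odd K.index) (χ : Cfsg.IrrCharacter G)
    (hr : ∀ g : G, ((χ : G → ℂ) g).im = 0) :
    ∃ θ : RealIrr K, mult (χ : G → ℂ) (θ.1 : K → ℂ) ≠ 0 := by
  classical
  let ι := MulAction.orbitRel.Quotient G (RealIrr K)
  choose F hF hFu using fun q : ι => existsUnique_real_above hodd q.out
  let F' : ι → {χ : Cfsg.IrrCharacter G // ∀ g : G, ((χ : G → ℂ) g).im = 0} :=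
    fun q => ⟨F q, (hF q).1⟩
  have hinj : Function.Injective F' := by
    intro q r h
    have h' : F q = F r := congrArg Subtype.val h
    obtain ⟨g, hg⟩ := CfsgLib.Clifford.exists_conjFun_eq K (F q).2 r.out.1.2 q.out.1.2
      (h' ▸ (hF r).2) (hF q).2
    rw [← Quotient.out_eq q, ← Quotient.out_eq r]
    refine Quotient.sound ⟨g⁻¹, Subtype.ext (Subtype.ext ?_)⟩
    change conjFun K (r.out.1 : K → ℂ) (g⁻¹)⁻¹ = _
    rw [inv_inv, hg]
  obtain ⟨q, hq⟩ := ((Nat.bijective_iff_injective_and_card F').mpr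
    ⟨hinj, (card_real_irr_eq_card_orbits hodd).symm⟩).2 ⟨χ, hr⟩
  have hq' : F q = χ := congrArg Subtype.val hq
  exact ⟨q.out, hq' ▸ (hF q).2⟩

end CfsgLib.RealChar
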