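import Cfsg.Agent.Lib.RealChar.NormalSylow
import Mathlib.GroupTheory.GroupAction.Quotient

/-!
# Orbit sizes prime to `p` for actions with the same permutation character
-/

set_option linter.style.haveILetI false

namespace CfsgLib.RealChar

open MulAction
open scoped commutatorElement

section Quot

variable {A X : Type*} [Group A] [MulAction A X] (M : Subgroup A) [hM : M.Normal]

/-- The map induced on the orbits of a normal subgroup. -/
def orbitShift (a : A) : orbitRel.Quotient M X → orbitRel.Quotient M X :=
  Quotient.lift (fun x => Quotient.mk _ (a • x)) (by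
    rintro x y ⟨m, rfl⟩
    refine Quotient.sound ⟨⟨a * (m : A) * a⁻¹, hM.conj_mem _ m.2 a⟩, ?_⟩
    change (a * (m : A) * a⁻¹) • a • y = a • (m : A) • y
    rw [← mul_smul, ← mul_smul, inv_mul_cancel_right])

theorem orbitShift_mk (a : A) (x : X) :
    orbitShift M a (Quotient.mk _ x) = Quotient.mk _ (a • x) := rfl

/-- The action of the quotient by a normal subgroup on its orbits. -/
instance orbitQuotAction : MulAction (A ⧸ M) (orbitRel.Quotient M X) where
  smul q o := Quotient.liftOn' q (fun a => orbitShift M a o) (fun a b hab => by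
    rw [QuotientGroup.leftRel_apply] at hab
    induction o using Quotient.inductionOn with
    | h x =>
      rw [orbitShift_mk, orbitShift_mk]
      refine Eq.symm (Quotient.sound ⟨⟨a * (a⁻¹ * b) * a⁻¹, hM.conj_mem _ hab a⟩, ?_⟩)
      change (a * (a⁻¹ * b) * a⁻¹) • a • x = b • x
      rw [← mul_smul]
      group)
  one_smul o := by
    induction o using Quotient.inductionOn with
    | h x => exact congrArg (Quotient.mk _) (one_smul A x)
  mul_smul p q o := by
    induction p using QuotientGroup.induction_on
    rename_i a
    induction q using QuotientGroup.induction_on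
    rename_i b
    induction o using Quotient.inductionOn with
    | h x => exact congrArg (Quotient.mk _) (mul_smul a b x)

theorem mk_smul_mk (a : A) (x : X) :
    (QuotientGroup.mk a : A ⧸ M) • (Quotient.mk _ x : orbitRel.Quotient M X) =
      Quotient.mk _ (a • x) := rfl

variable [Finite A] [Finite X]

/-- Fixed orbits of a normal subgroup are counted by averaged fixed points. -/
theorem card_mul_card_fixed_orbits [Fintype M] (a : A) :
    Nat.card M * Nat.card (fixedBy (orbitRel.Quotient M X) (QuotientGroup.mk a : A ⧸ M)) =
      ∑ m : M, Nat.card (fixedBy X (a * (m : A))) := by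
  classical
  haveI := Fintype.ofFinite X
  haveI := Fintype.ofFinite (orbitRel.Quotient M X)
  have h1 : ∀ x : X, ∑ m : M, (if a • (m : A) • x = x then 1 else 0) =
      if (Quotient.mk _ (a • x) : orbitRel.Quotient M X) = Quotient.mk _ x
        then Nat.card (stabilizer M x) else 0 := by
    intro x
    rw [Finset.sum_boole, Nat.cast_id]
    split_ifs with h
    · obtain ⟨m₀, hm₀⟩ := Quotient.exact h.symm
      have hm₀' : (m₀ : A) • a • x = x := hm₀
      let m₁ : M := ⟨a⁻¹ * (m₀ : A) * a, by simpa using hM.conj_mem _ m₀.2 a⁻¹⟩
      have hm₁ : a • (m₁ : A) • x = x := by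
        change a • (a⁻¹ * (m₀ : A) * a) • x = x
        rw [mul_smul, mul_smul, smul_inv_smul, hm₀']
      have hu : (m₁ : A) • x = a⁻¹ • x := by rw [eq_inv_smul_iff, hm₁]
      rw [← Fintype.card_subtype, ← Nat.card_eq_fintype_card]
      refine Nat.card_congr ⟨fun m => ⟨m₁⁻¹ * m.1, ?_⟩, fun s => ⟨m₁ * s.1, ?_⟩,
        fun m => Subtype.ext (mul_inv_cancel_left _ _),
        fun s => Subtype.ext (inv_mul_cancel_left _ _)⟩
      · have hm : (m.1 : A) • x = a⁻¹ • x := by rw [eq_inv_smul_iff, m.2]
        rw [mem_stabilizer_iff]
        change ((m₁ : A)⁻¹ * (m.1 : A)) • x = x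
        rw [mul_smul, hm, ← hu, inv_smul_smul]
      · have hs : (s.1 : A) • x = x := s.2
        change a • ((m₁ : A) * (s.1 : A)) • x = x
        rw [mul_smul, hs, hm₁]
    · rw [Finset.card_eq_zero, Finset.filter_eq_empty_iff]
      intro m _ hm
      apply h
      refine Eq.symm (Quotient.sound ⟨⟨a * (m : A) * a⁻¹, hM.conj_mem _ m.2 a⟩, ?_⟩)
      change (a * (m : A) * a⁻¹) • a • x = x
      rw [← mul_smul, inv_mul_cancel_right, mul_smul, hm]
  have hfix : ∀ b : A, Nat.card (fixedBy X b) = ∑ x : X, (if b • x = x then 1 else 0) := by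
    intro b
    rw [Finset.sum_boole, Nat.cast_id, ← Fintype.card_subtype, ← Nat.card_eq_fintype_card]
    rfl
  simp only [hfix, mul_smul]
  rw [Finset.sum_comm, Finset.sum_congr rfl fun x _ => h1 x,
    ← Finset.sum_fiberwise Finset.univ (fun x : X => (Quotient.mk _ x : orbitRel.Quotient M X))]
  have h2 : ∀ o : orbitRel.Quotient M X,
      (∑ x ∈ Finset.univ.filter (fun x : X => (Quotient.mk _ x : orbitRel.Quotient M X) = o),
        if (Quotient.mk _ (a • x) : orbitRel.Quotient M X) = Quotient.mk _ x
          then Nat.card (stabilizer M x) else 0) =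
      if (QuotientGroup.mk a : A ⧸ M) • o = o then Nat.card M else 0 := by
    intro o
    induction o using Quotient.inductionOn with
    | h y =>
      have hc : ∀ x ∈ Finset.univ.filter (fun x : X =>
          (Quotient.mk _ x : orbitRel.Quotient M X) = Quotient.mk _ y),
          (if (Quotient.mk _ (a • x) : orbitRel.Quotient M X) = Quotient.mk _ x
            then Nat.card (stabilizer M x) else 0) =
          if (QuotientGroup.mk a : A ⧸ M) • (Quotient.mk _ y : orbitRel.Quotient M X) =
            Quotient.mk _ y then Nat.card (stabilizer M y) else 0 := by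
        intro x hx
        have hx' := (Finset.mem_filter.mp hx).2
        rw [← mk_smul_mk M a x, hx']
        refine if_congr Iff.rfl ?_ rfl
        obtain ⟨m, rfl⟩ := Quotient.exact hx'
        exact (Nat.card_congr (stabilizerEquivStabilizer (g := m) rfl).toEquiv).symm
      rw [Finset.sum_congr rfl hc, Finset.sum_const, smul_eq_mul]
      split_ifs with h
      · have horb : (Finset.univ.filter (fun x : X =>
            (Quotient.mk _ x : orbitRel.Quotient M X) = Quotient.mk _ y)).card =
            Nat.card (orbit M y) := by
          rw [← Fintype.card_subtype, ← Nat.card_eq_fintype_card]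
          exact Nat.card_congr (Equiv.subtypeEquivRight fun x => by
            rw [Quotient.eq]; rfl)
        rw [horb, Nat.card_congr (orbitEquivQuotientStabilizer M y)]
        exact (Subgroup.card_eq_card_quotient_mul_card_subgroup _).symm
      · rw [mul_zero]
  rw [Finset.sum_congr rfl fun o _ => h2 o, ← Finset.sum_filter, Finset.sum_const, smul_eq_mul,
    mul_comm]
  congr 1
  rw [← Fintype.card_subtype, ← Nat.card_eq_fintype_card]
  rfl

/-- An orbit is cut by a normal subgroup into blocks of equal size. -/
theorem card_orbit_eq_mul (x : X) :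
    Nat.card (orbit A x) =
      Nat.card (orbit (A ⧸ M) (Quotient.mk _ x : orbitRel.Quotient M X)) * Nat.card (orbit M x) := by
  classical
  haveI := Fintype.ofFinite X
  haveI := Fintype.ofFinite (orbitRel.Quotient M X)
  let π : orbit A x → orbit (A ⧸ M) (Quotient.mk _ x : orbitRel.Quotient M X) := fun y =>
    ⟨Quotient.mk _ y.1, by
      obtain ⟨_, a, rfl⟩ := y
      exact ⟨(a : A ⧸ M), rfl⟩⟩
  rw [Nat.card_congr (Equiv.sigmaFiberEquiv π).symm, Nat.card_sigma]
  refine (Finset.sum_congr rfl fun o _ => ?_).trans
    (by rw [Finset.sum_const, smul_eq_mul, Finset.card_univ, ← Nat.card_eq_fintype_card])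
  obtain ⟨o, q, rfl⟩ := o
  induction q using QuotientGroup.induction_on with
  | H a =>
    refine Nat.card_congr ⟨fun y => ⟨a⁻¹ • y.1.1, ?_⟩, fun z => ⟨⟨a • z.1, ?_⟩, ?_⟩,
      fun y => Subtype.ext (Subtype.ext (smul_inv_smul a y.1.1)),
      fun z => Subtype.ext (inv_smul_smul a z.1)⟩
    · have h : (Quotient.mk _ y.1.1 : orbitRel.Quotient M X) = Quotient.mk _ (a • x) :=
        congrArg Subtype.val y.2
      obtain ⟨m, hm⟩ := Quotient.exact h
      refine ⟨⟨a⁻¹ * (m : A) * a, by simpa using hM.conj_mem _ m.2 a⁻¹⟩, ?_⟩
      change (a⁻¹ * (m : A) * a) • x = a⁻¹ • y.1.1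
      rw [mul_smul, mul_smul]
      exact congrArg (a⁻¹ • ·) hm
    · obtain ⟨_, m, rfl⟩ := z
      exact ⟨a * (m : A), (mul_smul a (m : A) x)⟩
    · refine Subtype.ext ?_
      obtain ⟨_, m, rfl⟩ := z
      refine Quotient.sound ⟨⟨a * (m : A) * a⁻¹, hM.conj_mem _ m.2 a⟩, ?_⟩
      change (a * (m : A) * a⁻¹) • a • x = a • (m : A) • x
      rw [← mul_smul, ← mul_smul, inv_mul_cancel_right]

end Quot

universe u

/-- If two actions of a group with solvable `primeClosure p` have the same permutation character
and in the first all orbit sizes are prime to `p`, then so they are in the second. -/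
theorem orbit_card_coprime_of_fixedBy_eq {p : ℕ} [hp : Fact p.Prime] :
    ∀ (N : ℕ) (A : Type u) [Group A] [Finite A], Nat.card A = N →
      Group.IsSolvable (primeClosure p A) →
      ∀ (X Y : Type u) [Finite X] [Finite Y] [MulAction A X] [MulAction A Y],
        (∀ a : A, Nat.card (fixedBy X a) = Nat.card (fixedBy Y a)) →
        (∀ x : X, ¬ p ∣ Nat.card (orbit A x)) → ∀ y : Y, ¬ p ∣ Nat.card (orbit A y) := by
  intro N
  induction N using Nat.strong_induction_on with
  | _ N ih =>
    intro A _ _ hN hsol X Y _ _ _ _ hfix hX y
    classical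
    haveI := primeClosure_normal p A
    by_cases hW : primeClosure p A = ⊥
    · intro hdvd
      rw [Nat.card_congr (orbitEquivQuotientStabilizer A y)] at hdvd
      obtain ⟨g, hg⟩ := exists_prime_orderOf_dvd_card' p
        (hdvd.trans (Subgroup.card_quotient_dvd_card _))
      have : g ∈ primeClosure p A := Subgroup.subset_closure ⟨1, by rw [hg, pow_one]⟩
      rw [hW, Subgroup.mem_bot] at this
      rw [this, orderOf_one] at hg
      exact hp.out.ne_one hg.symm
    obtain ⟨M, hMn, hM1, hMW, hMmin⟩ :=
      CfsgLib.Solvable.exists_minimal_normal_le (primeClosure p A) hW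
    haveI := hMn
    haveI := Fintype.ofFinite M
    haveI : Group.IsSolvable M := Group.isSolvable_of_isSolvable_injective
      (f := Subgroup.inclusion hMW) (Subgroup.inclusion_injective hMW)
    -- the action of `M` has orbits of size prime to `p` on both sets
    have hMorb : (∀ x : X, ¬ p ∣ Nat.card (orbit M x)) ∧ ∀ y : Y, ¬ p ∣ Nat.card (orbit M y) := by
      by_cases hMp : p ∣ Nat.card M
      · -- then `M` is a `p`-group
        have hpgrp : IsPGroup p M := by
          obtain ⟨A', hA'n, hA'M, hA'1, hA'c⟩ :
              ∃ A' : Subgroup A, A'.Normal ∧ A' ≤ M ∧ A' ≠ ⊥ ∧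
                (∀ a ∈ A', ∀ b ∈ A', Commute a b) := by
            by_cases hcm : commutator M = ⊥
            · refine ⟨M, hMn, le_rfl, hM1, fun a ha b hb => ?_⟩
              have hmem : ⁅(⟨a, ha⟩ : M), ⟨b, hb⟩⁆ ∈ commutator M :=
                Subgroup.commutator_mem_commutator (Subgroup.mem_top _) (Subgroup.mem_top _)
              rw [hcm, Subgroup.mem_bot] at hmem
              exact congrArg Subtype.val (commutatorElement_eq_one_iff_mul_comm.mp hmem)
            · exfalso
              haveI : Nontrivial M := (Subgroup.nontrivial_iff_ne_bot M).mpr hM1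
              rcases hMmin ((commutator M).map M.subtype) inferInstance
                (Subgroup.map_subtype_le _) with h | h
              · exact hcm ((Subgroup.map_eq_bot_iff_of_injective _ M.subtype_injective).mp h)
              · refine (IsSolvable.commutator_lt_top_of_nontrivial M).ne
                  (Subgroup.map_injective M.subtype_injective ?_)
                rw [h, ← MonoidHom.range_eq_map, Subgroup.range_subtype]
          obtain rfl : A' = M := (hMmin A' hA'n hA'M).resolve_left hA'1
          let Ω : Subgroup A :=
            { carrier := {z | z ∈ A' ∧ z ^ p = 1}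
              one_mem' := ⟨A'.one_mem, one_pow _⟩
              mul_mem' := fun {a b} ha hb => ⟨A'.mul_mem ha.1 hb.1, by
                rw [(hA'c a ha.1 b hb.1).mul_pow, ha.2, hb.2, one_mul]⟩
              inv_mem' := fun {a} ha => ⟨A'.inv_mem ha.1, by rw [inv_pow, ha.2, inv_one]⟩ }
          have hΩ : Ω.Normal := ⟨fun z hz g => ⟨hMn.conj_mem z hz.1 g, by
            rw [conj_pow, hz.2, mul_one, mul_inv_cancel]⟩⟩
          have hΩM : Ω = A' := by
            refine (hMmin Ω hΩ fun z hz => hz.1).resolve_left fun hb => ?_
            obtain ⟨z, hz⟩ := exists_prime_orderOf_dvd_card' p hMp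
            have hz' : (z : A) ∈ Ω :=
              ⟨z.2, by rw [← hz, ← Subgroup.orderOf_coe, pow_orderOf_eq_one]⟩
            rw [hb, Subgroup.mem_bot] at hz'
            exact hp.out.ne_one (hz ▸ orderOf_eq_one_iff.mpr (Subtype.ext hz'))
          intro z
          refine ⟨1, Subtype.ext ?_⟩
          have hz : (z : A) ∈ Ω := by rw [hΩM]; exact z.2
          rw [pow_one]
          exact hz.2
        have hXtriv : ∀ (m : M) (x : X), (m : A) • x = x := by
          intro m x
          obtain ⟨k, hk⟩ := hpgrp.card_orbit x
          have hdiv : Nat.card (orbit M x) ∣ Nat.card (orbit A x) := by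
            rw [card_orbit_eq_mul M x]; exact dvd_mul_left _ _
          rcases k with _ | k
          · rw [pow_zero] at hk
            haveI := (Nat.card_eq_one_iff_unique.mp hk).1
            exact congrArg Subtype.val
              (Subsingleton.elim (⟨m • x, mem_orbit x m⟩ : orbit M x) ⟨x, mem_orbit_self x⟩)
          · exact absurd ((hk ▸ dvd_pow_self p k.succ_ne_zero).trans hdiv) (hX x)
        have hYtriv : ∀ (m : M) (y : Y), (m : A) • y = y := by
          intro m y
          have h1 : Nat.card (fixedBy X (m : A)) = Nat.card X :=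
            Nat.card_congr (Equiv.subtypeUnivEquiv fun x => hXtriv m x)
          have h2 : Nat.card X = Nat.card Y := by
            rw [← Nat.card_congr (Equiv.subtypeUnivEquiv (p := fun x => x ∈ fixedBy X (1 : A))
              fun x => one_smul A x), ← Nat.card_congr (Equiv.subtypeUnivEquiv
              (p := fun y => y ∈ fixedBy Y (1 : A)) fun y => one_smul A y)]
            exact hfix 1
          by_contra hy
          have hlt : Nat.card (fixedBy Y (m : A)) < Nat.card Y :=
            Finite.card_subtype_lt (p := fun z => z ∈ fixedBy Y (m : A)) hy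
          rw [← hfix, h1, h2] at hlt
          exact lt_irrefl _ hlt
        constructor
        · intro x
          haveI : Subsingleton (orbit M x) := ⟨by
            rintro ⟨_, a, rfl⟩ ⟨_, b, rfl⟩
            exact Subtype.ext ((hXtriv a x).trans (hXtriv b x).symm)⟩
          rw [Nat.card_eq_one_iff_unique.mpr ⟨inferInstance, ⟨⟨x, mem_orbit_self x⟩⟩⟩, Nat.dvd_one]
          exact hp.out.ne_one
        · intro y
          haveI : Subsingleton (orbit M y) := ⟨by
            rintro ⟨_, a, rfl⟩ ⟨_, b, rfl⟩
            exact Subtype.ext ((hYtriv a y).trans (hYtriv b y).symm)⟩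
          rw [Nat.card_eq_one_iff_unique.mpr ⟨inferInstance, ⟨⟨y, mem_orbit_self y⟩⟩⟩, Nat.dvd_one]
          exact hp.out.ne_one
      · exact ⟨fun x h => hMp (h.trans (by
            rw [Nat.card_congr (orbitEquivQuotientStabilizer M x)]
            exact Subgroup.card_quotient_dvd_card _)),
          fun z h => hMp (h.trans (by
            rw [Nat.card_congr (orbitEquivQuotientStabilizer M z)]
            exact Subgroup.card_quotient_dvd_card _))⟩
    have hlt : Nat.card (A ⧸ M) < N := by
      rw [← hN, Subgroup.card_eq_card_quotient_mul_card_subgroup M]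
      exact lt_mul_of_one_lt_right Nat.card_pos (M.one_lt_card_iff_ne_bot.mpr hM1)
    have hsurj := QuotientGroup.mk'_surjective M
    have hsol' : Group.IsSolvable (primeClosure p (A ⧸ M)) := by
      rw [← map_primeClosure _ hsurj hp.out]
      exact solvable_of_surjective ((QuotientGroup.mk' M).subgroupMap_surjective _)
    intro hdvd
    rw [card_orbit_eq_mul M y] at hdvd
    rcases hp.out.dvd_mul.mp hdvd with h | h
    · refine ih _ hlt (A ⧸ M) rfl hsol' (orbitRel.Quotient M X) (orbitRel.Quotient M Y) ?_ ?_
        (Quotient.mk _ y) h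
      · intro q
        induction q using QuotientGroup.induction_on
        rename_i a
        refine Nat.eq_of_mul_eq_mul_left (Nat.card_pos (α := M)) ?_
        rw [card_mul_card_fixed_orbits, card_mul_card_fixed_orbits]
        exact Finset.sum_congr rfl fun m _ => hfix _
      · intro o
        induction o using Quotient.inductionOn with
        | h x =>
          intro hh
          exact hX x (by rw [card_orbit_eq_mul M x]; exact dvd_mul_of_dvd_left hh _)
    · exact hMorb.2 y h

end CfsgLib.RealChar
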