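import Cfsg.Agent.Lib.CharDeep.Extend
import Cfsg.Agent.Lib.CharDeep.Gallagher
import Cfsg.Agent.Lib.Char.CliffordOver
import Cfsg.Agent.Lib.CharTools.Basic
import Cfsg.Agent.Lib.Blk83.ItoMichler
import Cfsg.Agent.Lib.Transfer.ThompsonFactor

/-!
# Characters over an invariant character of a complemented normal subgroup
-/

set_option autoImplicit false
set_option linter.style.haveILetI false

namespace CfsgLib.RealChar.Palfy

open Cfsg CfsgLib.CharTwist

universe u

variable {G : Type u} [Group G] [Finite G]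

attribute [local instance high] Fintype.ofFinite

/-- The degree of a linear character is one. -/
theorem charDegree_linear {K : Type u} [Group K] (f : K →* ℂˣ) :
    Cfsg.charDegree (fun g => (f g : ℂ)) = 1 := by
  simp [Cfsg.charDegree]

/-- A character over `θ` for each character of the stabiliser of `θ` in a complement. -/
theorem exists_degree (N H : Subgroup G) [N.Normal] (hdisj : Disjoint N H) (hsup : N ⊔ H = ⊤)
    (θ : IrrCharacter N) (hcop : (Nat.card H).Coprime (charDegree (θ : N → ℂ)))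
    (β : IrrCharacter ((inertia N (θ : N → ℂ)).subgroupOf H)) :
    ∃ χ : IrrCharacter G, charDegree (χ : G → ℂ) =
      ((inertia N (θ : N → ℂ)).subgroupOf H).index * charDegree (θ : N → ℂ) *
        charDegree (β : (inertia N (θ : N → ℂ)).subgroupOf H → ℂ) := by
  revert β
  set T := inertia N (θ : N → ℂ) with hT
  intro β
  have hNT : N ≤ T := le_inertia N (Char.IsIrrCharacter.isClassFunction θ.2)
  -- the projection onto the complement
  have hex : ∀ g : G, ∃ h : H, g * (h : G)⁻¹ ∈ N := fun g => by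
    obtain ⟨v, hv, n, hn, rfl⟩ := Subgroup.mem_sup_of_normal_left.mp
      (show g ∈ N ⊔ H by rw [hsup]; exact Subgroup.mem_top g)
    exact ⟨⟨n, hn⟩, by simpa using hv⟩
  choose π hπ using hex
  have huniq : ∀ (g : G) (h : H), g * (h : G)⁻¹ ∈ N → π g = h := fun g h hg => by
    refine Subtype.ext ?_
    have h1 : (π g : G) * (h : G)⁻¹ ∈ N := by
      have := N.mul_mem (N.inv_mem (hπ g)) hg
      simpa [mul_assoc] using this
    exact mul_inv_eq_one.mp (Subgroup.disjoint_def.mp hdisj h1
      (H.mul_mem (π g).2 (H.inv_mem h.2)))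
  have hπmul : ∀ g g' : G, π (g * g') = π g * π g' := fun g g' => huniq _ _ (by
    have h1 := N.mul_mem (hπ g) ((inferInstance : N.Normal).conj_mem _ (hπ g') (π g : G))
    simpa [mul_assoc] using h1)
  have hπ1 : π 1 = 1 := huniq _ _ (by simp)
  have hπT : ∀ t ∈ T, (π t : G) ∈ T := fun t ht => by
    have := T.mul_mem (T.inv_mem (hNT (hπ t))) ht
    simpa [mul_assoc] using this
  let πT : T →* T.subgroupOf H :=
    { toFun := fun t => ⟨π t, hπT t t.2⟩
      map_one' := Subtype.ext (by simpa using hπ1)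
      map_mul' := fun a b => Subtype.ext (hπmul a b) }
  have hπTsurj : Function.Surjective πT := fun h => ⟨⟨((h : H) : G), h.2⟩,
    Subtype.ext (huniq _ _ (by simp))⟩
  set N' := N.subgroupOf T with hN'
  have hker : ∀ n ∈ N', πT n = 1 := fun n hn => Subtype.ext (huniq _ _ (by simpa [hN', Subgroup.mem_subgroupOf] using hn))
  -- the character of `N'`
  set θ' := CliffordOver.trans N T hNT (θ : N → ℂ) with hθ'
  have hθirr : IsIrrCharacter N' θ' := CliffordOver.isIrrCharacter_trans N T hNT θ.2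
  have hinv : ∀ (g : T) (n : N'),
      θ' ⟨g * n * g⁻¹, (inferInstance : N'.Normal).conj_mem (n : T) n.2 g⟩ = θ' n := by
    intro g n
    have h1 : g ∈ inertia N' θ' := by
      rw [hθ', CliffordOver.inertia_trans, Subgroup.mem_subgroupOf]
      exact g.2
    exact congrFun (mem_inertia.mp h1) n
  have hθ1 : θ' 1 = (charDegree (θ : N → ℂ) : ℂ) := by
    rw [CharTools.irr_degree_cast θ]
    rfl
  have hcard : N'.index ∣ Nat.card H := by
    have hle : N' ≤ πT.ker := fun n hn => MonoidHom.mem_ker.mpr (hker n hn)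
    have hge : πT.ker ≤ N' := fun n hn => by
      have h1 : (π (n : G) : G) = 1 := congrArg (fun z => (((z : T.subgroupOf H) : H) : G))
        (MonoidHom.mem_ker.mp hn)
      have h2 := hπ (n : G)
      rw [h1, inv_one, mul_one] at h2
      exact h2
    rw [le_antisymm hle hge, Subgroup.index_ker, MonoidHom.range_eq_top.mpr hπTsurj,
      Subgroup.card_top]
    exact Subgroup.card_subgroup_dvd_card _
  have hcop' : Nat.Coprime N'.index (charDegree (θ : N → ℂ)) := hcop.coprime_dvd_left hcard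
  obtain ⟨δ, hδ⟩ := CharDeep.Extend.exists_det_hom N' θ' hθirr
  have hδinv : ∀ (g : T) (n : N'),
      δ ⟨g * n * g⁻¹, (inferInstance : N'.Normal).conj_mem (n : T) n.2 g⟩ = δ n := fun g n => by
    have h1 := CharDeep.Extend.det_invariant N' θ' hinv hθirr g n
    rw [hδ] at h1
    exact Units.ext h1
  have hmem : ∀ t : T, t * (⟨π t, hπT t t.2⟩ : T)⁻¹ ∈ N' := fun t => hπ t
  let μ : T →* ℂˣ :=
    { toFun := fun t => δ ⟨_, hmem t⟩
      map_one' := by
        refine Eq.trans (congrArg δ (Subtype.ext (Subtype.ext ?_))) (map_one δ)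
        simp [hπ1]
      map_mul' := fun a b => by
        set pa : T := ⟨π a, hπT a a.2⟩ with hpa
        have h1 : (⟨_, hmem (a * b)⟩ : N') = ⟨_, hmem a⟩ *
            ⟨pa * (b * (⟨π b, hπT b b.2⟩ : T)⁻¹) * pa⁻¹,
              (inferInstance : N'.Normal).conj_mem _ (hmem b) pa⟩ := by
          refine Subtype.ext (Subtype.ext ?_)
          simp [hpa, hπmul, mul_assoc]
        rw [h1, map_mul]
        exact congrArg (_ * ·) (hδinv pa ⟨_, hmem b⟩) }
  obtain ⟨χ₀, hχ₀, hχ₀N⟩ := CharDeep.Extend.extends_of_det N' θ' hθirr hinv _ hθ1 hcop' μ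
    (fun n => by
      rw [hδ]
      refine congrArg (fun z => (δ z : ℂ)) (Subtype.ext (Subtype.ext ?_))
      have h1 : π ((n : T) : G) = 1 := huniq _ _ (by simpa using (show ((n : T) : G) ∈ N from n.2))
      simp [h1])
  have hres : (fun n : N' => χ₀ n) = θ' := funext hχ₀N
  obtain ⟨hGal, -, -⟩ := CharDeep.Gal.quotient_bijection N' hχ₀ (hres.symm ▸ hθirr)
  obtain ⟨ψ, hψ⟩ := CharTools.exists_descend N'
    (CharTools.isIrrCharacter_comp πT hπTsurj β.2) (fun n hn => by rw [hker n hn, map_one])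
  obtain ⟨hirrT, hover⟩ := hGal _ ψ.2
  set Ψ : T → ℂ := ((ψ : T ⧸ N' → ℂ) ∘ QuotientGroup.mk' N') * χ₀ with hΨ
  have hΨ1 : Ψ 1 = (β : T.subgroupOf H → ℂ) 1 * (θ : N → ℂ) 1 := by
    have h1 : χ₀ 1 = (θ : N → ℂ) 1 := by
      have := hχ₀N 1
      rw [Subgroup.coe_one] at this
      rw [this]
      rfl
    have h2 := hψ 1
    simp only [map_one] at h2
    show (ψ : T ⧸ N' → ℂ) (QuotientGroup.mk' N' 1) * χ₀ 1 = _
    rw [h1, map_one]
    exact congrArg (· * _) h2
  obtain ⟨hirr, -, -⟩ := CliffordOver.isIrrCharacter_indFun N T hNT θ.2 le_rfl hirrT (by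
    rw [← CliffordOver.classInner_trans N T hNT]
    rw [hres] at hover
    exact hover)
  refine ⟨⟨_, hirr⟩, ?_⟩
  have hidx : T.index = (T.subgroupOf H).index := by
    let f : H ⧸ T.subgroupOf H → G ⧸ T :=
      Quotient.map' (fun t : H => (t : G)) fun a b h => by
        rw [QuotientGroup.leftRel_apply] at h ⊢
        simpa [Subgroup.mem_subgroupOf] using h
    refine (Nat.card_congr (Equiv.ofBijective f ⟨?_, ?_⟩)).symm
    · rintro ⟨a⟩ ⟨b⟩ h
      refine QuotientGroup.eq.mpr ?_
      rw [Subgroup.mem_subgroupOf]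
      simpa using QuotientGroup.eq.mp h
    · rintro ⟨g⟩
      refine ⟨QuotientGroup.mk (π g), QuotientGroup.eq.mpr (hNT ?_)⟩
      have := (inferInstance : N.Normal).conj_mem _ (hπ g) (π g : G)⁻¹
      simpa [mul_assoc] using this
  refine Nat.cast_injective (R := ℂ) ?_
  show ((charDegree (Cfsg.indFun T Ψ) : ℕ) : ℂ) = _
  rw [CharTools.degree_cast (Char.IsIrrCharacter.isCharacter hirr), Char.indFun_apply_one,
    hidx, hΨ1]
  push_cast
  rw [CharTools.irr_degree_cast θ, CharTools.irr_degree_cast β]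
  ring

/-- The stabiliser of `θ` contains a unique Sylow `q`-subgroup of the complement, which is abelian,
as soon as `p` divides the degrees over `θ` and no degree is divisible by `p q`. -/
theorem sylow_in_inertia [Group.IsSolvable G] (N H : Subgroup G) [N.Normal] (hdisj : Disjoint N H)
    (hsup : N ⊔ H = ⊤) (θ : IrrCharacter N)
    (hcop : (Nat.card H).Coprime (charDegree (θ : N → ℂ))) {p q : ℕ} (hp : p.Prime)
    [hq : Fact q.Prime] (hpq : p ≠ q) (hno : ∀ χ : IrrCharacter G, ¬ p * q ∣ charDegree (χ : G → ℂ))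
    (hdvd : p ∣ ((inertia N (θ : N → ℂ)).subgroupOf H).index * charDegree (θ : N → ℂ)) :
    (∃! Q : Sylow q H, (Q : Subgroup H) ≤ (inertia N (θ : N → ℂ)).subgroupOf H) ∧
      ∀ Q : Sylow q H, (Q : Subgroup H) ≤ (inertia N (θ : N → ℂ)).subgroupOf H →
        IsMulCommutative (Q : Subgroup H) := by
  set T := (inertia N (θ : N → ℂ)).subgroupOf H with hT
  have hcp : Nat.Coprime p q := (Nat.coprime_primes hp hq.out).mpr hpq
  have hdeg : ∀ β : IrrCharacter T,
      ¬ q ∣ T.index * charDegree (β : T → ℂ) := by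
    intro β h
    obtain ⟨χ, hχ⟩ := exists_degree N H hdisj hsup θ hcop β
    refine hno χ (hcp.mul_dvd_of_dvd_of_dvd ?_ ?_)
    · rw [hχ]; exact hdvd.mul_right _
    · rw [hχ, mul_right_comm]; exact h.mul_right _
  have hidx : ¬ q ∣ T.index := fun h => hdeg Char.principalIrr (h.mul_right _)
  obtain ⟨Q0⟩ : Nonempty (Sylow q T) := inferInstance
  obtain ⟨hn, hc⟩ := Blk83.normal_abelian_sylow_of_degrees
    (ThompsonFactor.isPSolvable_of_isSolvable inferInstance) (fun β h => hdeg β (h.mul_left _)) Q0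
  haveI := hn
  have huniq : Subsingleton (Sylow q T) :=
    @Unique.instSubsingleton _ (Sylow.unique_of_normal Q0 hn)
  let Q1 : Sylow q H := IsPGroup.toSylow (P := (Q0 : Subgroup T).map T.subtype)
    (Q0.isPGroup'.map _) (by
      rw [← Subgroup.relIndex_mul_index (Subgroup.map_subtype_le _), hq.out.dvd_mul]
      rintro (h | h)
      · rw [Subgroup.relIndex, Subgroup.subgroupOf,
          Subgroup.comap_map_eq_self_of_injective T.subtype_injective] at h
        exact Q0.not_dvd_index h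
      · exact hidx h)
  have hQ1 : (Q1 : Subgroup H) ≤ T := Subgroup.map_subtype_le _
  have hall : ∀ Q : Sylow q H, (Q : Subgroup H) ≤ T → Q = Q1 := fun Q hQ => by
    refine Sylow.ext ?_
    have h1 := congrArg (fun S : Sylow q T => (S : Subgroup T).map T.subtype)
      (Subsingleton.elim (Q.subtype hQ) Q0)
    simp only [Sylow.coe_subtype, Subgroup.map_subgroupOf_eq_of_le hQ] at h1
    exact h1
  refine ⟨⟨Q1, hQ1, fun Q hQ => hall Q hQ⟩, fun Q hQ => ⟨⟨fun a b => Subtype.ext ?_⟩⟩⟩
  obtain ⟨a, ha⟩ := a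
  obtain ⟨b, hb⟩ := b
  rw [hall Q hQ] at ha hb
  obtain ⟨a', ha', rfl⟩ := ha
  obtain ⟨b', hb', rfl⟩ := hb
  exact congrArg (fun z : (Q0 : Subgroup T) => ((z : T) : H)) (hc.is_comm.comm ⟨a', ha'⟩ ⟨b', hb'⟩)

end CfsgLib.RealChar.Palfy
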