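import Cfsg.Agent.Lib.RealChar.PalfyEngine
import Cfsg.Agent.Lib.RealChar.PalfyExt
import Cfsg.Agent.S0169

/-!
# The action of a subgroup on the linear characters of a normal subgroup
-/

set_option autoImplicit false
set_option linter.style.haveILetI false

namespace CfsgLib.RealChar.Palfy

open Cfsg CfsgLib.CharTwist

universe u v

variable {G : Type u} [Group G] (N H : Subgroup G) [N.Normal]

/-- `H` permutes the linear characters of `N`. -/
noncomputable abbrev linAction : DistribMulAction H (Additive (N →* ℂˣ)) where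
  smul h l := Additive.ofMul
    (l.toMul.comp (MulAut.conjNormal (H := N) ((h : G))⁻¹).toMonoidHom)
  one_smul l := congrArg Additive.ofMul (MonoidHom.ext fun n =>
    congrArg l.toMul (Subtype.ext (by simp [MulAut.conjNormal_apply])))
  mul_smul a b l := congrArg Additive.ofMul (MonoidHom.ext fun n =>
    congrArg l.toMul (Subtype.ext (by simp [MulAut.conjNormal_apply, mul_assoc])))
  smul_zero h := rfl
  smul_add h a b := rfl

/-- A homomorphism as a function. -/
noncomputable abbrev linFun {N : Subgroup G} (l : N →* ℂˣ) : N → ℂ := fun n => (l n : ℂ)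

/-- A linear character as an irreducible character. -/
noncomputable abbrev linIrr {N : Subgroup G} (l : N →* ℂˣ) : IrrCharacter N :=
  ⟨fun n => (l n : ℂ), Char.isIrrCharacter_linear l⟩

theorem smul_eq_iff (h : H) (l : Additive (N →* ℂˣ)) :
    letI := linAction N H
    h • l = l ↔ (h : G) ∈ inertia N (linFun l.toMul) := by
  letI := linAction N H
  constructor
  · intro hh
    refine mem_inertia.mpr (funext fun n => ?_)
    have h1 : h⁻¹ • l = l := by rw [inv_smul_eq_iff, hh]
    refine congrArg Units.val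
      (Eq.trans ?_ (DFunLike.congr_fun (congrArg Additive.toMul h1) n))
    exact congrArg l.toMul (Subtype.ext (by simp [MulAut.conjNormal_apply]))
  · intro hh
    have h2 := mem_inertia.mp ((inertia N (linFun l.toMul)).inv_mem hh)
    exact congrArg Additive.ofMul (MonoidHom.ext fun n => Units.ext (congrFun h2 n))

theorem fixes_iff (S : Subgroup H) (l : Additive (N →* ℂˣ)) :
    letI := linAction N H
    (∀ g ∈ S, g • l = l) ↔ S ≤ (inertia N (linFun l.toMul)).subgroupOf H := by
  letI := linAction N H
  exact ⟨fun h g hg => Subgroup.mem_subgroupOf.mpr ((smul_eq_iff N H g l).mp (h g hg)),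
    fun h g hg => (smul_eq_iff N H g l).mpr (Subgroup.mem_subgroupOf.mp (h hg))⟩

theorem fixedByUnique_lin (q : ℕ)
    (h : ∀ l : N →* ℂˣ, l ≠ 1 →
      ∃! Q : Sylow q H, (Q : Subgroup H) ≤ (inertia N (linFun l)).subgroupOf H) :
    letI := linAction N H
    FixedByUnique q H (Additive (N →* ℂˣ)) := by
  letI := linAction N H
  intro w hw
  obtain ⟨Q, hQ, huniq⟩ := h w.toMul fun h1 => hw (congrArg Additive.ofMul h1)
  exact ⟨Q, (fixes_iff N H Q w).mpr hQ, fun R hR => huniq R ((fixes_iff N H R w).mp hR)⟩

variable {N H}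

theorem finite_linear [Finite G] : Finite (N →* ℂˣ) :=
  Finite.of_equiv (Abelianization N →* ℂˣ) Abelianization.lift.symm

theorem card_linear_abelian [Finite G] (hN : ∀ a ∈ N, ∀ b ∈ N, a * b = b * a) :
    Nat.card (N →* ℂˣ) = Nat.card N := by
  let _ : CommGroup N := { (inferInstance : Group N) with
    mul_comm := fun x y => Subtype.ext (hN x x.2 y y.2) }
  exact CommGroup.card_monoidHom_of_hasEnoughRootsOfUnity N ℂ

/-- If only the trivial conditions hold then the Sylow subgroups move something. -/
theorem moves_of_not_normal {K : Type u} [Group K] [Finite K] {q : ℕ} [Fact q.Prime] {V : Type v}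
    [AddCommGroup V] [DistribMulAction K V] [Nontrivial V] (hu : FixedByUnique q K V)
    (hn : ∀ Q : Sylow q K, ¬ (Q : Subgroup K).Normal) : Moves q K V := by
  by_contra h
  obtain ⟨w, hw⟩ := exists_ne (0 : V)
  obtain ⟨Q, -, huniq⟩ := hu w hw
  have hall : ∀ R : Sylow q K, ∀ g ∈ (R : Subgroup K), g • w = w := fun R g hg => by
    by_contra hg'
    exact h ⟨R, g, hg, w, hg'⟩
  haveI : Subsingleton (Sylow q K) :=
    ⟨fun a b => (huniq a (hall a)).trans (huniq b (hall b)).symm⟩
  exact hn Q (Sylow.normal_of_subsingleton Q)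

theorem subsingleton_of_normal {K : Type u} [Group K] [Finite K] {q : ℕ} [Fact q.Prime]
    (Q : Sylow q K) (hQ : (Q : Subgroup K).Normal) : Subsingleton (Sylow q K) :=
  @Unique.instSubsingleton _ (Sylow.unique_of_normal Q hQ)

theorem normal_sylow_le {K : Type u} [Group K] [Finite K] {q : ℕ} [hq : Fact q.Prime]
    (T : Subgroup K) (Q : Sylow q K) (hQ : (Q : Subgroup K).Normal) (hT : ¬ q ∣ T.index) :
    (Q : Subgroup K) ≤ T := by
  haveI := subsingleton_of_normal Q hQ
  obtain ⟨Q0⟩ : Nonempty (Sylow q T) := inferInstance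
  let Q1 : Sylow q K := IsPGroup.toSylow (P := (Q0 : Subgroup T).map T.subtype)
    (Q0.isPGroup'.map _) (by
      rw [← Subgroup.relIndex_mul_index (Subgroup.map_subtype_le _), hq.out.dvd_mul]
      rintro (h | h)
      · rw [Subgroup.relIndex, Subgroup.subgroupOf,
          Subgroup.comap_map_eq_self_of_injective T.subtype_injective] at h
        exact Q0.not_dvd_index h
      · exact hT h)
  rw [Subsingleton.elim Q Q1]
  exact Subgroup.map_subtype_le _

/-- No degree is divisible by a prime avoiding the index of an abelian normal subgroup. -/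
theorem not_dvd_degree_of_abelian_normal [Finite G] (M : Subgroup G) [M.Normal]
    (hc : ∀ a ∈ M, ∀ b ∈ M, a * b = b * a) {q : ℕ} (hq : ¬ q ∣ M.index) (χ : IrrCharacter G) :
    ¬ q ∣ charDegree (χ : G → ℂ) := by
  intro hd
  obtain ⟨n, ρ, hρ, he⟩ := χ.2
  have h1 := Cfsg.Agent.S0169.result ρ M hc
  have h2 : Cfsg.charDegree (χ : G → ℂ) = Module.finrank ℂ (Fin n → ℂ) := by
    apply Nat.cast_injective (R := ℂ)
    rw [← CfsgLib.Blk83.one_eq, ← he, Representation.char_one]
  exact hq (hd.trans (h2 ▸ h1))

/-- The projection onto a complement. -/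
theorem exists_projection (hdisj : Disjoint N H) (hsup : N ⊔ H = ⊤) :
    ∃ π : G →* H, Function.Surjective π := by
  have hbij : Function.Bijective ((QuotientGroup.mk' N).comp H.subtype) := by
    refine ⟨(injective_iff_map_eq_one _).mpr fun h hh => Subtype.ext ?_, fun x => ?_⟩
    · exact Subgroup.disjoint_def.mp hdisj ((QuotientGroup.eq_one_iff _).mp hh) h.2
    · obtain ⟨g, rfl⟩ := QuotientGroup.mk'_surjective N x
      obtain ⟨v, hv, h, hh, rfl⟩ := Subgroup.mem_sup_of_normal_left.mp
        (show g ∈ N ⊔ H by rw [hsup]; exact Subgroup.mem_top g)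
      refine ⟨⟨h, hh⟩, ?_⟩
      show QuotientGroup.mk' N h = _
      rw [map_mul, show QuotientGroup.mk' N v = 1 from (QuotientGroup.eq_one_iff v).mpr hv, one_mul]
  exact ⟨(MulEquiv.ofBijective _ hbij).symm.toMonoidHom.comp (QuotientGroup.mk' N),
    (MulEquiv.ofBijective _ hbij).symm.surjective.comp (QuotientGroup.mk'_surjective N)⟩

/-- A subgroup normalised by two subgroups generating the group is normal. -/
theorem normal_of_normalized {A B M : Subgroup G} (hsup : A ⊔ B = ⊤)
    (hA : A ≤ Subgroup.normalizer (M : Set G)) (hB : B ≤ Subgroup.normalizer (M : Set G)) :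
    M.Normal :=
  Subgroup.normalizer_eq_top_iff.mp (top_le_iff.mp (hsup ▸ sup_le hA hB))

/-- Inflation of degrees along a surjection. -/
theorem exists_degree_of_surjective {K : Type u} [Group K] [Finite K] [Finite G] (π : G →* K)
    (hπ : Function.Surjective π) {m : ℕ} (h : ∃ χ : IrrCharacter K, m ∣ charDegree (χ : K → ℂ)) :
    ∃ χ : IrrCharacter G, m ∣ charDegree (χ : G → ℂ) := by
  obtain ⟨χ, hχ⟩ := h
  refine ⟨⟨fun g => (χ : K → ℂ) (π g), CharTools.isIrrCharacter_comp π hπ χ.2⟩, ?_⟩
  show m ∣ charDegree (fun g => (χ : K → ℂ) (π g))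
  rw [show charDegree (fun g => (χ : K → ℂ) (π g)) = charDegree (χ : K → ℂ) by
    simp [Cfsg.charDegree]]
  exact hχ

end CfsgLib.RealChar.Palfy
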