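import Cfsg.Agent.Lib.RealChar.PalfyPrimitive
import Cfsg.Agent.Lib.RealChar.CrossPrincipal
import Cfsg.Agent.Lib.Zsigmondy.Basic
import Cfsg.Agent.Lib.Solvable.Hall
import Cfsg.Agent.Lib.Blk83.ItoMichler
import Cfsg.Agent.Lib.CharTools.Basic

/-!
# A degree divisible by two primes, each with a partition of a module by fixed points

Let a solvable group `H` act on a finite abelian `t`-group such that, for each of two primes `q`
and `r`, every non-zero vector is fixed by exactly one Sylow subgroup, while these Sylow subgroups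
move some vector. Then `H` has an irreducible character of degree divisible by `q r`.
-/

set_option autoImplicit false
set_option linter.style.haveILetI false

namespace CfsgLib.RealChar.Palfy

universe u v

/-- Every non-zero vector is fixed by exactly one Sylow `q`-subgroup. -/
def FixedByUnique (q : ℕ) (H : Type u) [Group H] (V : Type v) [AddCommGroup V]
    [DistribMulAction H V] : Prop :=
  ∀ w : V, w ≠ 0 → ∃! Q : Sylow q H, ∀ g ∈ (Q : Subgroup H), g • w = w

/-- Some Sylow `q`-subgroup moves some vector. -/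
def Moves (q : ℕ) (H : Type u) [Group H] (V : Type v) [AddCommGroup V]
    [DistribMulAction H V] : Prop :=
  ∃ Q : Sylow q H, ∃ g ∈ (Q : Subgroup H), ∃ w : V, g • w ≠ w

variable {H : Type u} [Group H] [Finite H] {V : Type v} [AddCommGroup V] [DistribMulAction H V]
  [Finite V] {t n : ℕ}

/-- The number of Sylow subgroups times the size of a fixed space. -/
theorem exists_fixed_count {q : ℕ} [Fact q.Prime] [ht : Fact t.Prime] (hn : 0 < n)
    (hV : Nat.card V = t ^ n) (hu : FixedByUnique q H V) :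
    ∃ b, 0 < b ∧ b ≤ n ∧ Nat.card (Sylow q H) * (t ^ b - 1) = t ^ n - 1 ∧
      (Moves q H V → b < n) := by
  classical
  haveI := Fintype.ofFinite V
  haveI := Fintype.ofFinite (Sylow q H)
  let F : Sylow q H → AddSubgroup V := fun Q =>
    { carrier := {w | ∀ g ∈ (Q : Subgroup H), g • w = w}
      zero_mem' := fun g _ => smul_zero g
      add_mem' := fun {a b} ha hb g hg => by rw [smul_add, ha g hg, hb g hg]
      neg_mem' := fun {a} ha g hg => by rw [smul_neg, ha g hg] }
  obtain ⟨Q₀⟩ : Nonempty (Sylow q H) := inferInstance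
  have hcard : ∀ Q, Nat.card (F Q) = Nat.card (F Q₀) := by
    intro Q
    obtain ⟨c, rfl⟩ := MulAction.exists_smul_eq H Q₀ Q
    refine Nat.card_congr
      { toFun := fun w => ⟨c⁻¹ • (w : V), fun g hg => ?_⟩
        invFun := fun w => ⟨c • (w : V), fun g hg => ?_⟩
        left_inv := fun w => Subtype.ext (smul_inv_smul c _)
        right_inv := fun w => Subtype.ext (inv_smul_smul c _) }
    · have h := w.2 (c * g * c⁻¹) (by
        rw [Sylow.smul_def, Sylow.pointwise_smul_def]
        exact ⟨g, hg, by simp⟩)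
      rw [eq_inv_smul_iff, ← mul_smul, ← mul_smul]
      rwa [mul_smul] at h ⊢
    · rw [Sylow.smul_def, Sylow.pointwise_smul_def] at hg
      obtain ⟨g', hg', rfl⟩ := hg
      have h := w.2 g' hg'
      simp only [MulDistribMulAction.toMonoidEnd_apply, MulDistribMulAction.toMonoidHom_apply,
        MulAut.smul_def, MulAut.conj_apply]
      rw [mul_smul, mul_smul, inv_smul_smul, h]
  obtain ⟨b, hbn, hb⟩ := card_addSubgroup_eq hV (F Q₀)
  let e : {w : V // w ≠ 0} ≃ Σ Q : Sylow q H, {w : F Q // w ≠ 0} :=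
    { toFun := fun w => ⟨(hu w.1 w.2).choose,
        ⟨⟨w.1, (hu w.1 w.2).choose_spec.1⟩, fun h => w.2 (congrArg Subtype.val h)⟩⟩
      invFun := fun p => ⟨(p.2.1 : V), fun h => p.2.2 (Subtype.ext h)⟩
      left_inv := fun w => rfl
      right_inv := fun ⟨Q, ⟨⟨w, hw⟩, hw0⟩⟩ => by
        have hne : w ≠ 0 := fun h => hw0 (Subtype.ext h)
        have hQ : (hu w hne).choose = Q := ((hu w hne).choose_spec.2 Q hw).symm
        subst hQ
        rfl }
  have hne : ∀ (A : Type v) [AddCommGroup A] [Finite A],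
      Nat.card {a : A // a ≠ 0} = Nat.card A - 1 := by
    intro A _ _
    haveI := Fintype.ofFinite A
    rw [Nat.card_eq_fintype_card, Nat.card_eq_fintype_card, Fintype.card_subtype_compl,
      Fintype.card_subtype_eq]
  have hc := Nat.card_congr e
  rw [hne V, Nat.card_sigma] at hc
  simp only [hne, hcard, hb, hV, Finset.sum_const, Finset.card_univ, smul_eq_mul] at hc
  rw [← Nat.card_eq_fintype_card] at hc
  refine ⟨b, Nat.pos_of_ne_zero fun h => ?_, hbn, hc.symm, ?_⟩
  · rw [h, pow_zero, Nat.sub_self, mul_zero] at hc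
    have := Nat.one_lt_pow hn.ne' ht.out.one_lt
    omega
  · rintro ⟨Q, g, hg, w, hw⟩
    refine lt_of_le_of_ne hbn fun hbeq => hw ?_
    have htop : F Q = ⊤ := AddSubgroup.eq_top_of_card_eq _ (by rw [hcard, hb, hV, hbeq])
    exact (show w ∈ F Q from htop ▸ AddSubgroup.mem_top w) g hg

/-- The exponent of the fixed space is determined by the number of Sylow subgroups. -/
theorem exponent_eq {t k b c n m : ℕ} (ht : t.Prime) (hk : 1 < k) (hb : 0 < b) (hc : 0 < c)
    (h1 : k * (t ^ b - 1) = t ^ n - 1) (h2 : k * (t ^ c - 1) = t ^ m - 1) : n = m := by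
  suffices H : ∀ b c n m : ℕ, 0 < b → b < c → k * (t ^ b - 1) = t ^ n - 1 →
      k * (t ^ c - 1) = t ^ m - 1 → False by
    rcases lt_trichotomy b c with h | h | h
    · exact (H b c n m hb h h1 h2).elim
    · subst h
      have hpow : t ^ n = t ^ m := by
        have := Nat.one_le_pow n t ht.pos
        have := Nat.one_le_pow m t ht.pos
        omega
      exact Nat.pow_right_injective ht.two_le hpow
    · exact (H c b m n hc h h2 h1).elim
  intro b c n m hb hbc h1 h2
  have key : ∀ e l, 0 < e → k * (t ^ e - 1) = t ^ l - 1 →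
      ∃ d, 0 < d ∧ (k : ℤ) - 1 = (t : ℤ) ^ e * ((k : ℤ) - (t : ℤ) ^ d) := by
    intro e l he hel
    have hlt : e < l := by
      by_contra hle
      push Not at hle
      have h3 : t ^ l ≤ t ^ e := Nat.pow_le_pow_right ht.pos hle
      have h4 : 1 < t ^ e := Nat.one_lt_pow he.ne' ht.one_lt
      have h5 : 2 * (t ^ e - 1) ≤ k * (t ^ e - 1) := Nat.mul_le_mul_right _ hk
      omega
    refine ⟨l - e, by omega, ?_⟩
    have h' : ((k * (t ^ e - 1) : ℕ) : ℤ) = ((t ^ l - 1 : ℕ) : ℤ) := by rw [hel]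
    rw [Nat.cast_mul, Nat.cast_sub (Nat.one_le_pow _ _ ht.pos),
      Nat.cast_sub (Nat.one_le_pow _ _ ht.pos)] at h'
    push_cast at h'
    rw [mul_sub (((t : ℤ)) ^ e), ← pow_add, Nat.add_sub_cancel' hlt.le]
    linarith
  obtain ⟨d, hd, e1⟩ := key b n hb h1
  obtain ⟨d', -, e2⟩ := key c m (by omega) h2
  obtain ⟨i, rfl⟩ : ∃ i, c = b + (i + 1) := ⟨c - b - 1, by omega⟩
  rw [e1, pow_add, mul_assoc] at e2
  have h3 := mul_left_cancel₀ (pow_ne_zero b (by exact_mod_cast ht.ne_zero)) e2
  have hA : (t : ℤ) ∣ (k : ℤ) - (t : ℤ) ^ d := h3 ▸ (dvd_pow_self _ i.succ_ne_zero).mul_right _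
  have hB : (t : ℤ) ∣ (k : ℤ) := (dvd_sub_left (dvd_pow_self _ hd.ne')).mp hA
  have hC : (t : ℤ) ∣ (k : ℤ) - 1 := by
    rw [e1]
    exact hA.mul_left _
  have : (t : ℤ) ∣ 1 := by simpa using dvd_sub hB hC
  exact ht.not_dvd_one (by exact_mod_cast this)

omit [Finite H] in
/-- The special parameters `2 ^ 6` leave no room for an odd prime. -/
theorem not_six {H : Type u} [Group H] [Finite H] [Group.IsSolvable H] {q b : ℕ} [hq : Fact q.Prime]
    (hq2 : q ≠ 2) (hb : 0 < b) (hb6 : b < 6)
    (hk : Nat.card (Sylow q H) * (2 ^ b - 1) = 2 ^ 6 - 1) : False := by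
  classical
  have hmod : Nat.card (Sylow q H) ≡ 1 [MOD q] := card_sylow_modEq_one q H
  set k := Nat.card (Sylow q H) with hkdef
  have hk1 : 1 ≤ k := Nat.card_pos
  have hdvd : q ∣ k - 1 := (Nat.modEq_iff_dvd' hk1).mp hmod.symm
  have hprimes : ∀ a : ℕ, q ∣ a → a ∈ [62, 20, 8] → q = 31 ∨ q = 5 := by
    intro a ha hmem
    fin_cases hmem
    · rcases (hq.out.dvd_mul.mp (show q ∣ 2 * 31 from ha)) with h | h
      · exact absurd ((Nat.prime_dvd_prime_iff_eq hq.out Nat.prime_two).mp h) hq2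
      · exact Or.inl ((Nat.prime_dvd_prime_iff_eq hq.out (by norm_num)).mp h)
    · rcases (hq.out.dvd_mul.mp (show q ∣ 2 ^ 2 * 5 from ha)) with h | h
      · exact absurd ((Nat.prime_dvd_prime_iff_eq hq.out Nat.prime_two).mp
          (hq.out.dvd_of_dvd_pow h)) hq2
      · exact Or.inr ((Nat.prime_dvd_prime_iff_eq hq.out (by norm_num)).mp h)
    · exact absurd ((Nat.prime_dvd_prime_iff_eq hq.out Nat.prime_two).mp
        (hq.out.dvd_of_dvd_pow (show q ∣ 2 ^ 3 from ha))) hq2
  have hkv : (k = 63 ∧ b = 1) ∨ (k = 21 ∧ b = 2) ∨ (k = 9 ∧ b = 3) := by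
    interval_cases b <;> norm_num at hk <;> omega
  have hcases : (k = 63 ∧ q = 31) ∨ (k = 21 ∧ q = 5) := by
    rcases hkv with ⟨hk', -⟩ | ⟨hk', -⟩ | ⟨hk', -⟩ <;> rw [hk'] at hdvd <;> norm_num at hdvd
    · rcases hprimes 62 hdvd (by simp) with h | h
      · exact Or.inl ⟨hk', h⟩
      · subst h; norm_num at hdvd
    · rcases hprimes 20 hdvd (by simp) with h | h
      · subst h; norm_num at hdvd
      · exact Or.inr ⟨hk', h⟩
    · rcases hprimes 8 hdvd (by simp) with h | h <;> subst h <;> norm_num at hdvd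
  have hk7 : 7 ∣ k := by rcases hcases with ⟨h, -⟩ | ⟨h, -⟩ <;> rw [h] <;> norm_num
  have hk63 : k ≤ 63 := by rcases hcases with ⟨h, -⟩ | ⟨h, -⟩ <;> omega
  -- a Hall subgroup for `{7, q}` containing a Sylow `q`-subgroup
  obtain ⟨D, hD, hdom⟩ := CfsgLib.Solvable.exists_isPiHall_dominant {7, q} _ H rfl
  obtain ⟨Q₀⟩ : Nonempty (Sylow q H) := inferInstance
  obtain ⟨g, hg⟩ := hdom (Q₀ : Subgroup H) fun p hp hpd => by
    obtain ⟨e, he⟩ := IsPGroup.iff_card.mp Q₀.isPGroup'
    exact Or.inr ((Nat.prime_dvd_prime_iff_eq hp hq.out).mp (hp.dvd_of_dvd_pow (he ▸ hpd)))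
  set Q : Sylow q H := g • Q₀ with hQdef
  have hQD : (Q : Subgroup H) ≤ D := hg
  let QD : Sylow q D := Q.subtype hQD
  choose F hF using fun R : Sylow q D => R.exists_comap_subtype_eq
  have hle : Nat.card (Sylow q D) ≤ k := Nat.card_le_card_of_injective F fun R S h => by
    refine Sylow.ext ?_
    rw [← hF R, ← hF S, h]
  obtain ⟨j, hj⟩ : ∃ j, Nat.card (Sylow q D) = 7 ^ j := by
    refine ⟨_, Nat.eq_prime_pow_of_unique_prime_dvd Nat.card_pos.ne' fun {d} hd hdd => ?_⟩
    have hdD : d ∣ Nat.card D := hdd.trans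
      (QD.card_eq_index_normalizer ▸ Subgroup.index_dvd_card _)
    rcases hD.1 d hd hdD with h | h
    · exact h
    · exfalso
      rw [Set.mem_singleton_iff] at h
      subst h
      exact not_dvd_card_sylow d D hdd
  have hjmod : 7 ^ j ≡ 1 [MOD q] := hj ▸ card_sylow_modEq_one q D
  have hj2 : j < 3 := by
    by_contra h
    have : 7 ^ 3 ≤ 7 ^ j := Nat.pow_le_pow_right (by norm_num) (by omega)
    omega
  have hj0 : j = 0 := by
    rcases hcases with ⟨-, rfl⟩ | ⟨-, rfl⟩ <;> interval_cases j <;> simp [Nat.ModEq] at hjmod ⊢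
  have hnorm : D ≤ Subgroup.normalizer ((Q : Subgroup H) : Set H) := by
    haveI : Subsingleton (Sylow q D) :=
      (Nat.card_eq_one_iff_unique.mp (by rw [hj, hj0, pow_zero])).1
    haveI : (QD : Subgroup D).Normal := Sylow.normal_of_subsingleton QD
    have := Subgroup.normal_subgroupOf_iff_le_normalizer hQD |>.mp this
    exact this
  have hidx : k ∣ D.index := by
    rw [hkdef, Q.card_eq_index_normalizer]
    exact Subgroup.index_dvd_of_le hnorm
  exact hD.2 7 (by norm_num) (Or.inl rfl) (hk7.trans hidx)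

/-- The faithful case. -/
theorem exists_irr_dvd_of_faithful [Group.IsSolvable H] [ht : Fact t.Prime] {q r : ℕ}
    [hq : Fact q.Prime] [hr : Fact r.Prime] (hqr : q ≠ r) (hV : Nat.card V = t ^ n)
    (hf : ∀ g : H, (∀ w : V, g • w = w) → g = 1)
    (huq : FixedByUnique q H V) (hmq : Moves q H V)
    (hur : FixedByUnique r H V) (hmr : Moves r H V) :
    ∃ χ : Cfsg.IrrCharacter H, q * r ∣ Cfsg.charDegree (χ : H → ℂ) := by
  classical
  have hn : 0 < n := Nat.pos_of_ne_zero fun h => by
    obtain ⟨-, g, -, w, hw⟩ := hmq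
    rw [h, pow_zero, Nat.card_eq_one_iff_unique] at hV
    haveI := hV.1
    exact hw (Subsingleton.elim _ _)
  obtain ⟨b, hb0, -, hkq, hbn⟩ := exists_fixed_count (t := t) hn hV huq
  obtain ⟨c, hc0, -, hkr, hcn⟩ := exists_fixed_count (t := t) hn hV hur
  replace hbn := hbn hmq
  replace hcn := hcn hmr
  have hn2 : 1 < n := by omega
  by_cases h6 : t = 2 ∧ n = 6
  · obtain ⟨rfl, rfl⟩ := h6
    exfalso
    rcases eq_or_ne q 2 with h | h
    · exact not_six (fun h' => hqr (h.trans h'.symm)) hc0 hcn hkr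
    · exact not_six h hb0 hbn hkq
  by_cases h2 : n = 2 ∧ ∃ m : ℕ, t + 1 = 2 ^ m
  · exfalso
    obtain ⟨rfl, -⟩ := h2
    have key : ∀ (p e : ℕ) [Fact p.Prime], 0 < e → e < 2 →
        Nat.card (Sylow p H) * (t ^ e - 1) = t ^ 2 - 1 → p = t := by
      intro p e hp he he2 h
      obtain rfl : e = 1 := by omega
      rw [pow_one, show t ^ 2 - 1 = (t + 1) * (t - 1) by simpa using Nat.sq_sub_sq t 1] at h
      have h1 : Nat.card (Sylow p H) = t + 1 :=
        Nat.eq_of_mul_eq_mul_right (by have := ht.out.two_le; omega) h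
      have h2 : p ∣ Nat.card (Sylow p H) - 1 :=
        (Nat.modEq_iff_dvd' Nat.card_pos).mp (card_sylow_modEq_one p H).symm
      rw [h1, Nat.add_sub_cancel] at h2
      exact (Nat.prime_dvd_prime_iff_eq hp.out ht.out).mp h2
    exact hqr ((key q b hb0 hbn hkq).trans (key r c hc0 hcn hkr).symm)
  obtain ⟨ℓ, hl, hldvd, hlprim⟩ :=
    CfsgLib.Zsigmondy.exists_primitive_prime_divisor ht.out.one_lt hn2 h6 h2
  haveI : Fact ℓ.Prime := ⟨hl⟩
  have hd : PrimDiv t n ℓ := by
    refine ⟨hl, ?_, hldvd, hlprim⟩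
    have h1 := (CfsgLib.Zsigmondy.dvd_sub_one_of_primitive (a := t) (n := n) (r := ℓ) ht.out.pos hn
      hldvd hlprim).2
    have := Nat.le_of_dvd (by have := hl.two_le; omega) h1
    omega
  have hlk : ∀ (p e : ℕ), 0 < e → e < n →
      Nat.card (Sylow p H) * (t ^ e - 1) = t ^ n - 1 → ℓ ∣ Nat.card (Sylow p H) :=
    fun p e he hen h => (hl.dvd_mul.mp (h ▸ hldvd)).resolve_right (hlprim e he hen)
  have hlH : ℓ ∣ Nat.card H := by
    obtain ⟨Q⟩ : Nonempty (Sylow q H) := inferInstance
    exact (hlk q b hb0 hbn hkq).trans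
      (Q.card_eq_index_normalizer ▸ Subgroup.index_dvd_card _)
  obtain ⟨K, _, π, x, hπ, hker, hx, hxn, hcomm⟩ := exists_quotient hd hn hV hf hlH
  haveI : Finite K := Finite.of_surjective π hπ
  haveI := hxn
  set C := Subgroup.centralizer ((Subgroup.zpowers x : Subgroup K) : Set K) with hC
  haveI hCn : C.Normal := Subgroup.normal_centralizer
  have hCx : ∀ a : K, a ∈ C ↔ a * x = x * a := fun a => by
    refine ⟨fun h => (Subgroup.mem_centralizer_iff.mp h x (Subgroup.mem_zpowers x)).symm,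
      fun h => Subgroup.mem_centralizer_iff.mpr fun y hy => ?_⟩
    obtain ⟨i, rfl⟩ := Subgroup.mem_zpowers_iff.mp hy
    exact ((show Commute a x from h).zpow_right i).symm
  -- each of the two primes divides the index of the centralizer
  have hidx : ∀ (p : ℕ) [Fact p.Prime], ℓ ∣ Nat.card (Sylow p H) → p ∣ C.index := by
    intro p hp hlp
    by_contra hpC
    obtain ⟨Q⟩ : Nonempty (Sylow p H) := inferInstance
    let Qb : Sylow p K := Q.mapSurjective hπ
    have hQbC : (Qb : Subgroup K) ≤ C :=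
      CfsgLib.RealChar.Cross.sylow_le_of_not_dvd_index C hpC Qb
    haveI : (Qb : Subgroup K).Normal := by
      refine ⟨fun a ha g => ?_⟩
      have hgC : g * a * g⁻¹ ∈ C := hCn.conj_mem a (hQbC ha) g
      have hab : ∀ y ∈ C, ∀ z ∈ C, y * z = z * y := fun y hy z hz =>
        hcomm y z ((hCx y).mp hy) ((hCx z).mp hz)
      let QC : Sylow p C := Qb.subtype hQbC
      haveI : (QC : Subgroup C).Normal := ⟨fun y hy z => by
        rw [show z * y * z⁻¹ = y from by
          rw [show z * y = y * z from Subtype.ext (hab z z.2 y y.2), mul_inv_cancel_right]]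
        exact hy⟩
      have := Sylow.smul_eq_of_normal (P := QC) (g := (1 : C))
      have huniq : Subsingleton (Sylow p C) := by
        have := Sylow.unique_of_normal QC inferInstance
        exact @Unique.instSubsingleton _ this
      have hgQ : (g • Qb : Sylow p K) = Qb := by
        have hle : ((g • Qb : Sylow p K) : Subgroup K) ≤ C := by
          rw [Sylow.coe_subgroup_smul]
          rintro _ ⟨y, hy, rfl⟩
          exact hCn.conj_mem y (hQbC hy) g
        have h1 := congrArg (fun S : Sylow p C => (S : Subgroup C).map C.subtype)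
          (Subsingleton.elim ((g • Qb).subtype hle) QC)
        simp only [QC, Sylow.coe_subtype, Subgroup.map_subgroupOf_eq_of_le hle,
          Subgroup.map_subgroupOf_eq_of_le hQbC] at h1
        exact Sylow.ext h1
      rw [← hgQ, Sylow.coe_subgroup_smul]
      exact ⟨a, ha, rfl⟩
    set M := (Qb : Subgroup K).comap π with hM
    haveI : M.Normal := Subgroup.Normal.comap inferInstance π
    have hQM : (Q : Subgroup H) ≤ M := fun y hy => ⟨y, hy, rfl⟩
    have hsup : Subgroup.normalizer ((Q : Subgroup H) : Set H) ⊔ M = ⊤ := by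
      have h1 := Sylow.normalizer_sup_eq_top (Q.subtype hQM)
      rwa [Sylow.coe_subtype, Subgroup.map_subgroupOf_eq_of_le hQM] at h1
    have h1 : Nat.card (Sylow p H) ∣ Nat.card M := by
      set Nz := Subgroup.normalizer ((Q : Subgroup H) : Set H) with hNz
      have hMi : M.index = M.relIndex Nz := by
        rw [← Subgroup.relIndex_top_right, ← Subgroup.relIndex_sup_right Nz M]
        exact congrArg M.relIndex hsup.symm
      have hNc : Nat.card (M.subgroupOf Nz) * M.relIndex Nz = Nat.card Nz :=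
        (M.subgroupOf Nz).card_mul_index
      have hQn : Nat.card (Sylow p H) * Nat.card Nz = Nat.card H := by
        rw [mul_comm]
        exact (congrArg (Nat.card Nz * ·) Q.card_eq_index_normalizer).trans Nz.card_mul_index
      refine ⟨Nat.card (M.subgroupOf Nz), Nat.eq_of_mul_eq_mul_right
        (m := M.index) (Nat.pos_of_ne_zero Subgroup.index_ne_zero_of_finite) ?_⟩
      rw [mul_assoc, hMi, hNc, hQn, ← hMi, M.card_mul_index]
    have h2 : Nat.card M = Nat.card π.ker * Nat.card (Qb : Subgroup K) := by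
      rw [← Subgroup.card_mul_index (π.ker.subgroupOf M),
        Nat.card_congr (Subgroup.subgroupOfEquivOfLe
          (Subgroup.ker_le_comap π (Qb : Subgroup K))).toEquiv]
      congr 1
      show π.ker.relIndex M = _
      rw [Subgroup.relIndex_ker, hM, Subgroup.map_comap_eq_self_of_surjective hπ]
    rw [h2] at h1
    rcases hl.dvd_mul.mp (hlp.trans h1) with h | h
    · exact hker h
    · obtain ⟨e, he⟩ := IsPGroup.iff_card.mp Qb.isPGroup'
      obtain rfl := (Nat.prime_dvd_prime_iff_eq hl hp.out).mp (hl.dvd_of_dvd_pow (he ▸ h))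
      exact not_dvd_card_sylow ℓ H hlp
  have hqr' : q * r ∣ C.index := ((Nat.coprime_primes hq.out hr.out).mpr hqr).mul_dvd_of_dvd_of_dvd
    (hidx q (hlk q b hb0 hbn hkq)) (hidx r (hlk r c hc0 hcn hkr))
  -- a character over a faithful linear character of `⟨x⟩`
  haveI := Fintype.ofFinite K
  haveI := Fintype.ofFinite (Subgroup.zpowers x)
  have hprime : (Nat.card (Subgroup.zpowers x)).Prime := by rw [Nat.card_zpowers, hx]; exact hl
  have hxne : (⟨x, Subgroup.mem_zpowers x⟩ : Subgroup.zpowers x) ≠ 1 := fun h => by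
    rw [show x = 1 from congrArg Subtype.val h, orderOf_one] at hx
    exact hl.one_lt.ne hx
  haveI : Nontrivial (Subgroup.zpowers x) := ⟨⟨_, 1, hxne⟩⟩
  obtain ⟨f, hf1⟩ := CfsgLib.RealChar.Cross.exists_linear_ne_one
    (P := Subgroup.zpowers x) (p := ℓ) (IsPGroup.of_card (n := 1) (by
      rw [Nat.card_zpowers, hx, pow_one]))
  have hfinj : Function.Injective f := by
    refine (MonoidHom.ker_eq_bot_iff f).mp ?_
    rcases hprime.eq_one_or_self_of_dvd _ (Subgroup.card_subgroup_dvd_card f.ker) with h | h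
    · exact Subgroup.card_eq_one.mp h
    · exact absurd (MonoidHom.ker_eq_top_iff.mp (Subgroup.eq_top_of_card_eq _ h)) hf1
  let θ : Cfsg.IrrCharacter (Subgroup.zpowers x) :=
    ⟨fun y => (f y : ℂ), CfsgLib.Char.isIrrCharacter_linear f⟩
  obtain ⟨χ, hχ⟩ := CfsgLib.Blk83.exists_over (Subgroup.zpowers x) θ
  have hI : CfsgLib.CharTwist.inertia (Subgroup.zpowers x) (θ : Subgroup.zpowers x → ℂ) ≤ C := by
    intro g hg
    have h1 := congrFun (CfsgLib.CharTwist.mem_inertia.mp hg) ⟨x, Subgroup.mem_zpowers x⟩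
    have h2 : MulAut.conjNormal (H := Subgroup.zpowers x) g ⟨x, Subgroup.mem_zpowers x⟩ =
        ⟨x, Subgroup.mem_zpowers x⟩ := hfinj (Units.ext h1)
    have h3 := congrArg Subtype.val h2
    rw [MulAut.conjNormal_apply] at h3
    exact (hCx g).mpr (mul_inv_eq_iff_eq_mul.mp h3)
  have h1 : C.index ∣ Cfsg.charDegree (χ : K → ℂ) :=
    ((Subgroup.index_dvd_of_le hI).trans (dvd_mul_left _ _)).trans
      (CfsgLib.Blk83.dvd_of_constituent (Subgroup.zpowers x) χ θ hχ)
  refine ⟨⟨fun g => (χ : K → ℂ) (π g), CfsgLib.CharTools.isIrrCharacter_comp π hπ χ.2⟩, ?_⟩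
  show q * r ∣ Cfsg.charDegree (fun g => (χ : K → ℂ) (π g))
  rw [show Cfsg.charDegree (fun g => (χ : K → ℂ) (π g)) = Cfsg.charDegree (χ : K → ℂ) by
    simp [Cfsg.charDegree]]
  exact hqr'.trans h1

/-- The general case. -/
theorem exists_irr_dvd [Group.IsSolvable H] [ht : Fact t.Prime] {q r : ℕ}
    [hq : Fact q.Prime] [hr : Fact r.Prime] (hqr : q ≠ r) (hV : Nat.card V = t ^ n)
    (huq : FixedByUnique q H V) (hmq : Moves q H V)
    (hur : FixedByUnique r H V) (hmr : Moves r H V) :
    ∃ χ : Cfsg.IrrCharacter H, q * r ∣ Cfsg.charDegree (χ : H → ℂ) := by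
  classical
  let Φ : H →* Equiv.Perm V := MulAction.toPermHom H V
  let K := Φ.range
  letI : DistribMulAction K V :=
    { smul := fun g w => (g : Equiv.Perm V) w
      one_smul := fun w => rfl
      mul_smul := fun g h w => rfl
      smul_zero := fun ⟨_, g, rfl⟩ => smul_zero g
      smul_add := fun ⟨_, g, rfl⟩ a b => smul_add g a b }
  have hsm : ∀ (g : H) (w : V), Φ.rangeRestrict g • w = g • w := fun _ _ => rfl
  have hf : ∀ g : K, (∀ w : V, g • w = w) → g = 1 := fun g hg => Subtype.ext (Equiv.ext hg)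
  haveI : Finite K := Finite.of_surjective _ Φ.rangeRestrict_surjective
  haveI : Group.IsSolvable K := Group.isSolvable_of_surjective Φ.rangeRestrict_surjective
  have hu : ∀ (p : ℕ) [Fact p.Prime], FixedByUnique p H V → FixedByUnique p K V := by
    intro p _ hu w hw
    obtain ⟨Q, hQ, huniq⟩ := hu w hw
    refine ⟨Q.mapSurjective Φ.rangeRestrict_surjective, ?_, fun R hR => ?_⟩
    · rintro _ ⟨g, hg, rfl⟩
      rw [hsm]
      exact hQ g hg
    · obtain ⟨R', rfl⟩ := Sylow.mapSurjective_surjective Φ.rangeRestrict_surjective p R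
      rw [huniq R' fun g hg => by rw [← hsm]; exact hR _ ⟨g, hg, rfl⟩]
  have hm : ∀ (p : ℕ) [Fact p.Prime], Moves p H V → Moves p K V := by
    rintro p _ ⟨Q, g, hg, w, hw⟩
    exact ⟨Q.mapSurjective Φ.rangeRestrict_surjective, Φ.rangeRestrict g, ⟨g, hg, rfl⟩, w, hw⟩
  obtain ⟨χ, hχ⟩ := exists_irr_dvd_of_faithful (t := t) (n := n) hqr hV hf (hu q huq) (hm q hmq)
    (hu r hur) (hm r hmr)
  refine ⟨⟨fun g => (χ : K → ℂ) (Φ.rangeRestrict g),
    CfsgLib.CharTools.isIrrCharacter_comp _ Φ.rangeRestrict_surjective χ.2⟩, ?_⟩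
  show q * r ∣ Cfsg.charDegree (fun g => (χ : K → ℂ) (Φ.rangeRestrict g))
  rw [show Cfsg.charDegree (fun g => (χ : K → ℂ) (Φ.rangeRestrict g)) =
    Cfsg.charDegree (χ : K → ℂ) by simp [Cfsg.charDegree]]
  exact hχ

end CfsgLib.RealChar.Palfy
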