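import Cfsg.Agent.Lib.Semilinear.TransitiveSolvable
import Cfsg.Agent.Lib.Semilinear.NormalAbelian

/-!
# Solvable linear groups containing an element of primitive prime order

If a solvable group acts faithfully on a group of order `t ^ n` and contains an element of order
`ℓ`, a primitive prime divisor of `t ^ n - 1`, then modulo a normal `ℓ'`-subgroup such an element
generates a normal subgroup with abelian centralizer.
-/

set_option autoImplicit false
set_option linter.style.haveILetI false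

namespace CfsgLib.RealChar.Palfy

universe u v

/-- `ℓ` is a primitive prime divisor of `t ^ n - 1`, larger than `n`. -/
structure PrimDiv (t n ℓ : ℕ) : Prop where
  prime : ℓ.Prime
  lt : n < ℓ
  dvd : ℓ ∣ t ^ n - 1
  prim : ∀ i, 0 < i → i < n → ¬ ℓ ∣ t ^ i - 1

variable {H : Type u} [Group H] {V : Type v} [AddCommGroup V] [DistribMulAction H V] [Finite V]
  {t n ℓ : ℕ}

theorem card_addSubgroup_eq [ht : Fact t.Prime] (hV : Nat.card V = t ^ n) (U : AddSubgroup V) :
    ∃ i, i ≤ n ∧ Nat.card U = t ^ i :=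
  (Nat.dvd_prime_pow ht.out).mp (hV ▸ U.card_addSubgroup_dvd_card)

theorem subgroup_trivial [Fact t.Prime] (hd : PrimDiv t n ℓ) (hV : Nat.card V = t ^ n)
    (U : AddSubgroup V) (h : ℓ ∣ Nat.card U - 1) : U = ⊥ ∨ U = ⊤ := by
  obtain ⟨i, hin, hi⟩ := card_addSubgroup_eq hV U
  rcases Nat.eq_zero_or_pos i with h0 | h0
  · exact Or.inl (AddSubgroup.card_eq_one.mp (by rw [hi, h0, pow_zero]))
  · rcases hin.lt_or_eq with hlt | heq
    · exact absurd (hi ▸ h) (hd.prim i h0 hlt)
    · exact Or.inr (AddSubgroup.eq_top_of_card_eq _ (by rw [hi, hV, heq]))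

theorem fixed_eq_zero [Fact t.Prime] (hd : PrimDiv t n ℓ) (hV : Nat.card V = t ^ n)
    (hf : ∀ g : H, (∀ v : V, g • v = v) → g = 1) {x : H} (hx : orderOf x = ℓ) {v : V}
    (hv : x • v = v) : v = 0 := by
  haveI : Fact ℓ.Prime := ⟨hd.prime⟩
  let U : AddSubgroup V :=
    { carrier := {w | x • w = w}
      zero_mem' := smul_zero x
      add_mem' := fun {a b} (ha : x • a = a) (hb : x • b = b) => by
        show x • (a + b) = a + b
        rw [smul_add, ha, hb]
      neg_mem' := fun {a} (ha : x • a = a) => by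
        show x • -a = -a
        rw [smul_neg, ha] }
  have hP : IsPGroup ℓ (Subgroup.zpowers x) :=
    IsPGroup.of_card (n := 1) (by rw [Nat.card_zpowers, hx, pow_one])
  have h := hP.card_modEq_card_fixedPoints V
  have he : Nat.card (MulAction.fixedPoints (Subgroup.zpowers x) V) = Nat.card U :=
    Nat.card_congr (Equiv.subtypeEquivRight fun w =>
      ⟨fun hw => hw ⟨x, Subgroup.mem_zpowers x⟩, fun (hw : x • w = w) g =>
        (show Subgroup.zpowers x ≤ MulAction.stabilizer H w by
          rw [Subgroup.zpowers_le]; exact hw) g.2⟩)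
  rw [he, hV] at h
  have h1 : 1 ≡ t ^ n [MOD ℓ] :=
    (Nat.modEq_iff_dvd' (Nat.one_le_pow _ _ (Fact.out : t.Prime).pos)).mpr hd.dvd
  have hU := subgroup_trivial hd hV U
    ((Nat.modEq_iff_dvd' Nat.card_pos).mp (h1.trans h))
  rcases hU with hU | hU
  · exact AddSubgroup.mem_bot.mp (hU ▸ (show v ∈ U from hv))
  · have hx1 : x = 1 := hf x fun w => show w ∈ U from hU ▸ AddSubgroup.mem_top w
    rw [hx1, orderOf_one] at hx
    exact absurd hx hd.prime.one_lt.ne

theorem invariant_trivial [Fact t.Prime] (hd : PrimDiv t n ℓ) (hV : Nat.card V = t ^ n)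
    (hf : ∀ g : H, (∀ v : V, g • v = v) → g = 1) {x : H} (hx : orderOf x = ℓ)
    (U : AddSubgroup V) (hU : ∀ u ∈ U, x • u ∈ U) : U = ⊥ ∨ U = ⊤ := by
  haveI : Fact ℓ.Prime := ⟨hd.prime⟩
  refine subgroup_trivial hd hV U ?_
  have hP : IsPGroup ℓ (Subgroup.zpowers x) :=
    IsPGroup.of_card (n := 1) (by rw [Nat.card_zpowers, hx, pow_one])
  have hfin : IsOfFinOrder x := orderOf_pos_iff.mp (hx ▸ hd.prime.pos)
  have hUg : ∀ (g : Subgroup.zpowers x) (u : U), (g : H) • (u : V) ∈ U := by
    intro g u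
    obtain ⟨k, hk⟩ := hfin.mem_powers_iff_mem_zpowers.mpr g.2
    rw [← show x ^ k = (g : H) from hk]
    clear hk
    induction k with
    | zero => simp
    | succ k ih => rw [pow_succ', mul_smul]; exact hU _ ih
  letI : MulAction (Subgroup.zpowers x) U :=
    { smul := fun g u => ⟨(g : H) • (u : V), hUg g u⟩
      one_smul := fun u => Subtype.ext (one_smul H (u : V))
      mul_smul := fun g g' u => Subtype.ext (mul_smul (g : H) g' (u : V)) }
  exact CfsgLib.Semilinear.dvd_card_sub_one hP (0 : U) fun b => ⟨fun hb =>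
    Subtype.ext (fixed_eq_zero hd hV hf hx
      (congrArg Subtype.val (hb ⟨x, Subgroup.mem_zpowers x⟩))),
    fun hb g => Subtype.ext (show (g : H) • (b : V) = b by rw [hb]; exact smul_zero _)⟩

theorem nontrivial_of_primDiv [ht : Fact t.Prime] (hn : 0 < n) (hV : Nat.card V = t ^ n) :
    Nontrivial V :=
  Finite.one_lt_card_iff_nontrivial.mp (hV ▸ Nat.one_lt_pow hn.ne' ht.out.one_lt)

/-- The centralizer of an element of primitive prime order is commutative. -/
theorem centralizer_comm [Fact t.Prime] (hd : PrimDiv t n ℓ) (hn : 0 < n)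
    (hV : Nat.card V = t ^ n) (hf : ∀ g : H, (∀ v : V, g • v = v) → g = 1) {x : H}
    (hx : orderOf x = ℓ) {a b : H} (ha : a * x = x * a) (hb : b * x = x * b) : a * b = b * a := by
  haveI := nontrivial_of_primDiv hn hV
  obtain ⟨v, hv⟩ := exists_ne (0 : V)
  let E := AddMonoid.End V
  let P : H →* E := DistribMulAction.toAddMonoidEnd H V
  let K : Subring E := Subring.closure {P x}
  haveI : IsMulCommutative K := Subring.isMulCommutative_closure (by
    rintro _ rfl _ rfl
    rfl)
  let S : AddSubgroup V :=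
    { carrier := Set.range fun k : K => k.1 v
      zero_mem' := ⟨0, rfl⟩
      add_mem' := by
        rintro _ _ ⟨k, rfl⟩ ⟨l, rfl⟩
        exact ⟨k + l, rfl⟩
      neg_mem' := by
        rintro _ ⟨k, rfl⟩
        exact ⟨-k, rfl⟩ }
  have hS : S = ⊤ := by
    refine (invariant_trivial hd hV hf hx S ?_).resolve_left fun h => hv ?_
    · rintro _ ⟨k, rfl⟩
      exact ⟨⟨P x, Subring.subset_closure rfl⟩ * k, rfl⟩
    · exact AddSubgroup.mem_bot.mp (h ▸ (show v ∈ S from ⟨1, rfl⟩))
  have hcomm : ∀ c : H, c * x = x * c → ∀ k ∈ K, P c * k = k * P c := by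
    intro c hc k hk
    induction hk using Subring.closure_induction with
    | mem y hy =>
      rw [Set.mem_singleton_iff.mp hy, ← map_mul, ← map_mul, hc]
    | zero => rw [mul_zero, zero_mul]
    | one => rw [mul_one, one_mul]
    | add y z _ _ hy hz => rw [mul_add, add_mul, hy, hz]
    | neg y _ hy => rw [mul_neg, neg_mul, hy]
    | mul y z _ _ hy hz => rw [← mul_assoc, hy, mul_assoc, hz, mul_assoc]
  have hmem : ∀ c : H, c * x = x * c → P c ∈ K := by
    intro c hc
    obtain ⟨k, hk⟩ := (show c • v ∈ S from hS ▸ AddSubgroup.mem_top _)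
    have : P c = k.1 := AddMonoidHom.ext fun w => by
      obtain ⟨l, rfl⟩ := (show w ∈ S from hS ▸ AddSubgroup.mem_top _)
      have h1 : (P c * l.1) v = (l.1 * P c) v := DFunLike.congr_fun (hcomm c hc l.1 l.2) v
      show (P c * l.1) v = (k.1 * l.1) v
      rw [h1, show k.1 * l.1 = l.1 * k.1 from congrArg Subtype.val (mul_comm' k l)]
      show l.1 (c • v) = l.1 (k.1 v)
      exact congrArg _ hk.symm
    rw [this]
    exact k.2
  have h := congrArg Subtype.val (mul_comm' (⟨P a, hmem a ha⟩ : K) ⟨P b, hmem b hb⟩)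
  refine eq_of_mul_inv_eq_one (hf _ fun w => ?_)
  have h' : a • b • (b * a)⁻¹ • w = b • a • (b * a)⁻¹ • w :=
    DFunLike.congr_fun h ((b * a)⁻¹ • w)
  rw [← mul_smul, ← mul_smul b a, smul_inv_smul, ← mul_smul] at h'
  exact h'

/-- The dichotomy at the bottom: an element of primitive order spans a normal subgroup, or it acts
on a symplectic layer of order `2 ^ (2 j)` with `ℓ = 2 ^ j + 1`. -/
theorem normal_or_layer [Finite H] [Group.IsSolvable H] [ht : Fact t.Prime] (hd : PrimDiv t n ℓ)
    (hn : 0 < n) (hV : Nat.card V = t ^ n) (hf : ∀ g : H, (∀ v : V, g • v = v) → g = 1)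
    {x : H} (hx : orderOf x = ℓ) :
    (Subgroup.zpowers x).Normal ∨
      t ≠ 2 ∧ ∃ (W : Type u) (_ : CommGroup W) (_ : Finite W) (Φ : H →* MulAut W) (j : ℕ),
        0 < j ∧ Nat.card W = 2 ^ (2 * j) ∧ ℓ = 2 ^ j + 1 ∧
        ∀ y : H, orderOf y = ℓ → Φ y ≠ 1 := by
  classical
  haveI := nontrivial_of_primDiv hn hV
  haveI : Fact ℓ.Prime := ⟨hd.prime⟩
  -- a maximal abelian normal subgroup
  let S : Finset (Subgroup H) := (Set.toFinite {A : Subgroup H | A.Normal ∧
    ∀ a ∈ A, ∀ b ∈ A, a * b = b * a}).toFinset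
  have hS : S.Nonempty := ⟨⊥, (Set.Finite.mem_toFinset _).mpr ⟨inferInstance, fun a ha b hb => by
    rw [Subgroup.mem_bot.mp ha, Subgroup.mem_bot.mp hb]⟩⟩
  obtain ⟨A, hA, hAmax⟩ := S.exists_max_image (fun A : Subgroup H => Nat.card A) hS
  obtain ⟨hAn, hAc⟩ := (Set.Finite.mem_toFinset _).mp hA
  haveI := hAn
  have hmax : ∀ B : Subgroup H, B.Normal → (∀ a ∈ B, ∀ b ∈ B, a * b = b * a) → A ≤ B → B = A :=
    fun B hB hBc hAB => (Subgroup.eq_of_le_of_card_ge hAB
      (hAmax B ((Set.Finite.mem_toFinset _).mpr ⟨hB, hBc⟩))).symm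
  -- the ring spanned by `A`
  let E := AddMonoid.End V
  haveI : Finite E := Finite.of_injective _ DFunLike.coe_injective
  let P : H →* E := DistribMulAction.toAddMonoidEnd H V
  let T : A →* E := P.comp A.subtype
  let K : Subring E := Subring.closure (Set.range T)
  haveI : IsMulCommutative K := Subring.isMulCommutative_closure (by
    rintro _ ⟨a, rfl⟩ _ ⟨b, rfl⟩
    rw [← map_mul, ← map_mul, show a * b = b * a from Subtype.ext (hAc a a.2 b b.2)])
  letI : CommRing K := open scoped IsMulCommutative in inferInstance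
  have hmulP : ∀ g h : H, P g * P h = P (g * h) := fun g h => (map_mul P g h).symm
  have hconj : ∀ g : H, ∀ k ∈ K, P g * k * P g⁻¹ ∈ K := by
    intro g k hk
    induction hk using Subring.closure_induction with
    | mem y hy =>
      obtain ⟨a, rfl⟩ := hy
      refine Subring.subset_closure
        ⟨⟨g * a * g⁻¹, Subgroup.Normal.conj_mem inferInstance _ a.2 g⟩, ?_⟩
      simp only [T, MonoidHom.comp_apply, Subgroup.coe_subtype, map_mul]
    | zero => simp [zero_mem]
    | one => rw [mul_one, hmulP, mul_inv_cancel, map_one]; exact one_mem _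
    | add y z _ _ hy hz => rw [mul_add, add_mul]; exact add_mem hy hz
    | neg y _ hy => rw [mul_neg, neg_mul]; exact neg_mem hy
    | mul y z _ _ hy hz =>
      have : P g * (y * z) * P g⁻¹ = P g * y * P g⁻¹ * (P g * z * P g⁻¹) := by
        rw [show P g * y * P g⁻¹ * (P g * z * P g⁻¹) = P g * y * (P g⁻¹ * P g) * z * P g⁻¹ by
          noncomm_ring, hmulP, inv_mul_cancel, map_one]
        noncomm_ring
      rw [this]; exact mul_mem hy hz
  let cHom : H →* (K ≃+* K) := MonoidHom.mk' (fun g =>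
    { toFun := fun k => ⟨P g * k.1 * P g⁻¹, hconj g k.1 k.2⟩
      invFun := fun k => ⟨P g⁻¹ * k.1 * P g, by simpa using hconj g⁻¹ k.1 k.2⟩
      left_inv := fun k => by
        refine Subtype.ext ?_
        show P g⁻¹ * (P g * k.1 * P g⁻¹) * P g = k.1
        rw [show P g⁻¹ * (P g * k.1 * P g⁻¹) * P g = (P g⁻¹ * P g) * k.1 * (P g⁻¹ * P g) by
          noncomm_ring, hmulP, inv_mul_cancel, map_one, one_mul, mul_one]
      right_inv := fun k => by
        refine Subtype.ext ?_
        show P g * (P g⁻¹ * k.1 * P g) * P g⁻¹ = k.1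
        rw [show P g * (P g⁻¹ * k.1 * P g) * P g⁻¹ = (P g * P g⁻¹) * k.1 * (P g * P g⁻¹) by
          noncomm_ring, hmulP, mul_inv_cancel, map_one, one_mul, mul_one]
      map_mul' := fun k l => by
        refine Subtype.ext ?_
        show P g * (k.1 * l.1) * P g⁻¹ = P g * k.1 * P g⁻¹ * (P g * l.1 * P g⁻¹)
        rw [show P g * k.1 * P g⁻¹ * (P g * l.1 * P g⁻¹) =
          P g * k.1 * (P g⁻¹ * P g) * l.1 * P g⁻¹ by noncomm_ring, hmulP, inv_mul_cancel, map_one]
        noncomm_ring
      map_add' := fun k l => by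
        refine Subtype.ext ?_
        show P g * (k.1 + l.1) * P g⁻¹ = P g * k.1 * P g⁻¹ + P g * l.1 * P g⁻¹
        noncomm_ring }) (fun g h => by
    refine RingEquiv.ext fun k => Subtype.ext ?_
    show P (g * h) * k.1 * P (g * h)⁻¹ = P g * (P h * k.1 * P h⁻¹) * P g⁻¹
    rw [mul_inv_rev, map_mul, map_mul]
    noncomm_ring)
  have hcx : ∀ (g : H) (k : K) (w : V), (cHom g k).1 (g • w) = g • k.1 w := fun g k w => by
    show g • k.1 (g⁻¹ • g • w) = g • k.1 w
    rw [inv_smul_smul]
  have hcmul : ∀ (g h : H) (k : K), cHom g (cHom h k) = cHom (g * h) k := fun g h k => by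
    rw [map_mul]; rfl
  letI : Fintype V := Fintype.ofFinite V
  -- a vector with a minimal orbit under `K`
  let Ord : V → ℕ := fun w => Nat.card (Set.range fun k : K => k.1 w)
  obtain ⟨v, hv, hvmin⟩ := (Finset.univ.filter fun w : V => w ≠ 0).exists_min_image Ord (h :=
    (exists_ne (0 : V)).elim fun w hw => ⟨w, Finset.mem_filter.mpr ⟨Finset.mem_univ _, hw⟩⟩)
  have hv0 : v ≠ 0 := (Finset.mem_filter.mp hv).2
  let Ann : Ideal K :=
    { carrier := {k | k.1 v = 0}
      zero_mem' := rfl
      add_mem' := fun {a b} (ha : a.1 v = 0) (hb : b.1 v = 0) => by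
        show a.1 v + b.1 v = 0
        rw [ha, hb, add_zero]
      smul_mem' := fun c a (ha : a.1 v = 0) => by
        show c.1 (a.1 v) = 0
        rw [ha, map_zero] }
  have hAnn : Ann.IsMaximal := by
    refine Ideal.isMaximal_iff.mpr ⟨fun h => hv0 h, fun J k hJ hk hkJ => ?_⟩
    have hk0 : k.1 v ≠ 0 := hk
    have hsub : (Set.range fun l : K => l.1 (k.1 v)) ⊆ Set.range fun l : K => l.1 v := by
      rintro _ ⟨l, rfl⟩
      exact ⟨l * k, rfl⟩
    have heq := Set.eq_of_subset_of_ncard_le hsub (by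
      have h := hvmin (k.1 v) (Finset.mem_filter.mpr ⟨Finset.mem_univ _, hk0⟩)
      simp only [Ord, Nat.card_coe_set_eq] at h
      exact h) (Set.toFinite _)
    obtain ⟨l, hl⟩ : v ∈ Set.range fun l : K => l.1 (k.1 v) := heq ▸ ⟨1, rfl⟩
    have h1 : (1 - l * k : K) ∈ Ann := by
      show v - l.1 (k.1 v) = 0
      rw [show l.1 (k.1 v) = v from hl, sub_self]
    have := J.add_mem (hJ h1) (J.mul_mem_left l hkJ)
    rwa [sub_add_cancel] at this
  let M : ℕ → Ideal K := fun i => Ann.comap (cHom (x ^ i)⁻¹ : K →+* K)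
  have hMmax : ∀ i, (M i).IsMaximal := fun i => by
    haveI := hAnn
    exact Ideal.comap_isMaximal_of_surjective _ (cHom (x ^ i)⁻¹).surjective
  have hMv : ∀ i, ∀ k ∈ M i, (k : K).1 (x ^ i • v) = 0 := fun i k hk => by
    have h1 : (cHom (x ^ i) (cHom (x ^ i)⁻¹ k)).1 (x ^ i • v) =
        x ^ i • (cHom (x ^ i)⁻¹ k).1 v := hcx _ _ _
    rw [hcmul, mul_inv_cancel, map_one] at h1
    have h2 : (cHom (x ^ i)⁻¹ k).1 v = 0 := hk
    rw [h2, smul_zero] at h1
    exact h1
  have hfix : ∀ k, k ∈ Ann → cHom x⁻¹ k ∈ Ann := by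
    by_contra hne
    have hne' : M 1 ≠ Ann := fun h => hne fun k hk => by
      have hk' : k ∈ M 1 := h.symm ▸ hk
      have : cHom (x ^ 1)⁻¹ k ∈ Ann := hk'
      rwa [pow_one] at this
    let st : ℕ → Ideal K → Ideal K := fun i J => J.comap (cHom (x ^ i)⁻¹ : K →+* K)
    have hinj : ∀ i j : Fin ℓ, i ≠ j → M i ≠ M j := by
      intro i j hij h
      apply hne'
      -- the stabiliser of `Ann` in the cyclic group is trivial or everything
      let Stab : Subgroup H :=
        { carrier := {g | ∀ k, k ∈ Ann ↔ cHom g k ∈ Ann}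
          one_mem' := fun k => by rw [map_one]; rfl
          mul_mem' := fun {a b} (ha : ∀ k, k ∈ Ann ↔ cHom a k ∈ Ann)
            (hb : ∀ k, k ∈ Ann ↔ cHom b k ∈ Ann) k => by
              rw [← hcmul, hb k, ha]
          inv_mem' := fun {a} (ha : ∀ k, k ∈ Ann ↔ cHom a k ∈ Ann) k => by
            rw [ha (cHom a⁻¹ k), hcmul, mul_inv_cancel, map_one]
            rfl }
      have hmem : (x ^ (j : ℕ))⁻¹ * x ^ (i : ℕ) ∈ Stab := by
        intro k
        have h1 := SetLike.ext_iff.mp h (cHom (x ^ (i : ℕ)) k)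
        simp only [M, Ideal.mem_comap, RingHom.coe_coe] at h1
        rw [hcmul, hcmul, inv_mul_cancel, map_one] at h1; simp only [RingAut.one_apply] at h1
        exact h1
      have hz : (x ^ (j : ℕ))⁻¹ * x ^ (i : ℕ) ≠ 1 := fun h1 =>
        hij (Fin.ext (pow_injOn_Iio_orderOf (by simp [hx]) (by simp [hx])
          (inv_mul_eq_one.mp h1).symm))
      have hzx : (x ^ (j : ℕ))⁻¹ * x ^ (i : ℕ) ∈ Subgroup.zpowers x :=
        mul_mem (inv_mem (pow_mem (Subgroup.mem_zpowers x) _))
          (pow_mem (Subgroup.mem_zpowers x) _)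
      have hle : Subgroup.zpowers x ≤ Stab := by
        have hprime : (Nat.card (Subgroup.zpowers x)).Prime := by
          rw [Nat.card_zpowers, hx]; exact hd.prime
        have h2 : Subgroup.zpowers ((x ^ (j : ℕ))⁻¹ * x ^ (i : ℕ)) = Subgroup.zpowers x := by
          refine Subgroup.eq_of_le_of_card_ge (Subgroup.zpowers_le.mpr hzx) ?_
          rcases hprime.eq_one_or_self_of_dvd _
            (Subgroup.card_dvd_of_le (Subgroup.zpowers_le.mpr hzx)) with h3 | h3
          · exact absurd (Subgroup.zpowers_eq_bot.mp (Subgroup.card_eq_one.mp h3)) hz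
          · exact h3.ge
        exact h2 ▸ Subgroup.zpowers_le.mpr hmem
      ext k
      have h4 := hle (inv_mem (Subgroup.mem_zpowers x)) k
      simp only [M, Ideal.mem_comap, RingHom.coe_coe, pow_one]
      exact h4.symm
    -- the vectors `x ^ i • v` give too large a subgroup
    let U : Fin ℓ → AddSubgroup V := fun i =>
      { carrier := {w | ∀ k ∈ M i, (k : K).1 w = 0}
        zero_mem' := fun k _ => map_zero _
        add_mem' := fun {a b} ha hb k hk => by rw [map_add, ha k hk, hb k hk, add_zero]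
        neg_mem' := fun {a} ha k hk => by rw [map_neg, ha k hk, neg_zero] }
    let f : (∀ i, U i) →+ V :=
      { toFun := fun w => ∑ i, (w i : V)
        map_zero' := by simp
        map_add' := fun a b => by simp [Finset.sum_add_distrib] }
    have hfinj : Function.Injective f := by
      refine (injective_iff_map_eq_zero f).mpr fun w hw => funext fun i => Subtype.ext ?_
      have hex : ∀ j, ∃ e : K, j ≠ i → e ∈ M j ∧ e ∉ M i := fun j => by
        by_cases hji : j = i
        · exact ⟨0, fun h => absurd hji h⟩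
        · obtain ⟨e, he, he'⟩ := SetLike.not_le_iff_exists.mp fun hle => hinj j i hji
            ((hMmax j).eq_of_le (hMmax i).ne_top hle)
          exact ⟨e, fun _ => ⟨he, he'⟩⟩
      choose e he using hex
      let e' : K := ∏ j ∈ Finset.univ.erase i, e j
      have he' : e' ∉ M i := fun h => by
        obtain ⟨j, hj, hje⟩ := ((hMmax i).isPrime.prod_mem_iff).mp h
        exact (he j (Finset.ne_of_mem_erase hj)).2 hje
      have h0 : e'.1 (w i : V) = 0 := by
        have h1 : e'.1 (∑ j, (w j : V)) = 0 := by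
          rw [show (∑ j, (w j : V)) = 0 from hw, map_zero]
        rw [map_sum, Finset.sum_eq_single i (fun j _ hji => ?_)
          (fun h => absurd (Finset.mem_univ i) h)] at h1
        · exact h1
        · exact (w j).2 e' (Ideal.mem_of_dvd _
            (Finset.dvd_prod_of_mem e (Finset.mem_erase.mpr ⟨hji, Finset.mem_univ j⟩))
            (he j hji).1) |> id
      obtain ⟨c, m, hm, hcm⟩ := (hMmax i).exists_inv he'
      have h2 : (w i : V) = c.1 (e'.1 (w i : V)) + m.1 (w i : V) :=
        (DFunLike.congr_fun (congrArg Subtype.val hcm) (w i : V)).symm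
      rw [h2, h0, map_zero, zero_add]
      exact (w i).2 m hm
    have h1 : Nat.card (∀ i, U i) ≤ Nat.card V := Nat.card_le_card_of_injective f hfinj
    rw [Nat.card_pi, hV] at h1
    have h2 : t ^ ℓ ≤ ∏ i, Nat.card (U i) := by
      calc t ^ ℓ = ∏ _i : Fin ℓ, t := by simp
        _ ≤ _ := Finset.prod_le_prod' fun i _ => by
          obtain ⟨j, -, hj⟩ := card_addSubgroup_eq hV (U i)
          rw [hj]
          refine Nat.le_self_pow (fun h0 => hv0 ?_) t
          have hbot := AddSubgroup.card_eq_one.mp (by rw [hj, h0, pow_zero] : Nat.card (U i) = 1)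
          have hmem : x ^ (i : ℕ) • v ∈ U i := fun k hk => hMv i k hk
          rw [hbot, AddSubgroup.mem_bot] at hmem
          rwa [smul_eq_zero_iff_eq] at hmem
    exact absurd ((Nat.pow_le_pow_iff_right ht.out.one_lt).mp (h2.trans h1)) (not_le.mpr hd.lt)
  have hAnnbot : Ann = ⊥ := by
    let Y : AddSubgroup V :=
      { carrier := {w | ∀ k ∈ Ann, (k : K).1 w = 0}
        zero_mem' := fun k _ => map_zero _
        add_mem' := fun {a b} ha hb k hk => by rw [map_add, ha k hk, hb k hk, add_zero]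
        neg_mem' := fun {a} ha k hk => by rw [map_neg, ha k hk, neg_zero] }
    have hY : Y = ⊤ := by
      refine (invariant_trivial hd hV hf hx Y fun w hw k hk => ?_).resolve_left fun h => hv0 ?_
      · have h1 := hcx x (cHom x⁻¹ k) w
        rw [hcmul, mul_inv_cancel, map_one] at h1; simp only [RingAut.one_apply] at h1
        rw [h1, hw _ (hfix k hk), smul_zero]
      · exact AddSubgroup.mem_bot.mp (h ▸ (show v ∈ Y from fun k hk => hk))
    refine eq_bot_iff.mpr fun k hk => Submodule.mem_bot K |>.mpr (Subtype.ext ?_)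
    exact AddMonoidHom.ext fun w => (show w ∈ Y from hY ▸ AddSubgroup.mem_top w) k hk
  haveI : IsDomain K := by
    haveI : (⊥ : Ideal K).IsPrime := hAnnbot ▸ hAnn.isPrime
    exact (Ideal.Quotient.isDomain_iff_prime ⊥).mpr inferInstance |>
      fun h => (RingEquiv.quotientBot K).toMulEquiv.isDomain_iff.mp h
  letI : Field K := (Finite.isDomain_to_isField K).toField
  letI : Fintype K := Fintype.ofFinite _
  -- its automorphisms are few
  let ev : K →+ V :=
    { toFun := fun k => k.1 v
      map_zero' := rfl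
      map_add' := fun _ _ => rfl }
  have hevinj : Function.Injective ev := (injective_iff_map_eq_zero ev).mpr fun k hk =>
    (Submodule.mem_bot K).mp (hAnnbot ▸ (show k ∈ Ann from hk))
  obtain ⟨d, hdn, hKd⟩ : ∃ d, d ≤ n ∧ Nat.card K = t ^ d := by
    obtain ⟨d, hdn, hd'⟩ := card_addSubgroup_eq hV ev.range
    exact ⟨d, hdn, (Nat.card_congr (AddMonoidHom.ofInjective hevinj).toEquiv).trans hd'⟩
  haveI : CharP K t := charP_of_card_eq_prime_pow (by rwa [← Nat.card_eq_fintype_card])
  obtain ⟨-, hAut⟩ := CfsgLib.Semilinear.isCyclic_ringEquiv_and_card (F := K) (q := t) (d := d)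
    (by rwa [← Nat.card_eq_fintype_card])
  have hd0 : d ≠ 0 := by
    rintro rfl
    have h1 : 1 < Nat.card K := Finite.one_lt_card
    rw [hKd, pow_zero] at h1
    exact lt_irrefl 1 h1
  have hcomm : ∀ y : H, orderOf y = ℓ → ∀ a ∈ A, y * a = a * y := by
    intro y hy a ha
    have h1 : orderOf (cHom y) ∣ ℓ := hy ▸ orderOf_map_dvd cHom y
    have h2 : orderOf (cHom y) ∣ d := hAut ▸ orderOf_dvd_natCard _
    have h3 : cHom y = 1 := orderOf_eq_one_iff.mp (Nat.eq_one_of_dvd_coprimes
      ((hd.prime.coprime_iff_not_dvd).mpr fun h =>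
        absurd (Nat.le_of_dvd (Nat.pos_of_ne_zero hd0) h) (not_le.mpr (hdn.trans_lt hd.lt))) h1 h2)
    have h4 : P y * P a * P y⁻¹ = P a := congrArg Subtype.val
      (RingEquiv.congr_fun h3 ⟨P a, Subring.subset_closure ⟨⟨a, ha⟩, rfl⟩⟩)
    rw [hmulP, hmulP] at h4
    have h5 : y * a * y⁻¹ * a⁻¹ = 1 := hf _ fun w => by
      rw [mul_smul]
      have h6 : (y * a * y⁻¹) • a⁻¹ • w = a • a⁻¹ • w := DFunLike.congr_fun h4 (a⁻¹ • w)
      rw [h6, smul_inv_smul]
    exact mul_inv_eq_iff_eq_mul.mp (mul_inv_eq_one.mp h5)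
  let ι : A →* K :=
    { toFun := fun a => ⟨T a, Subring.subset_closure ⟨a, rfl⟩⟩
      map_one' := Subtype.ext (map_one T)
      map_mul' := fun a b => Subtype.ext (map_mul T a b) }
  have hιi : Function.Injective ι := fun a b h => Subtype.ext (eq_of_mul_inv_eq_one (hf _
    fun w => by
      rw [mul_smul]
      have h1 : (a : H) • (b : H)⁻¹ • w = (b : H) • (b : H)⁻¹ • w :=
        DFunLike.congr_fun (congrArg Subtype.val h) ((b : H)⁻¹ • w)
      rw [h1, smul_inv_smul]))
  haveI hAcyc : IsCyclic A := isCyclic_of_subgroup_isDomain ι hιi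
  set C := Subgroup.centralizer (A : Set H) with hC
  have hxC : ∀ y : H, orderOf y = ℓ → y ∈ C := fun y hy =>
    Subgroup.mem_centralizer_iff.mpr fun a ha => (hcomm y hy a ha).symm
  by_cases hCA : C = A
  · refine Or.inl ⟨fun z hz g => ?_⟩
    have hxA : x ∈ A := hCA ▸ hxC x hx
    have hxi : IsPrimitiveRoot (ι ⟨x, hxA⟩) ℓ := by
      rw [← hx]
      have h0 : orderOf (ι ⟨x, hxA⟩) = orderOf x := by
        rw [orderOf_injective ι hιi, ← Subgroup.orderOf_coe]
      exact h0 ▸ IsPrimitiveRoot.orderOf _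
    haveI : NeZero ℓ := ⟨hd.prime.ne_zero⟩
    have hzA : z ∈ A := (Subgroup.zpowers_le.mpr hxA) hz
    have hgA : g * z * g⁻¹ ∈ A := hAn.conj_mem z hzA g
    have hz1 : (g * z * g⁻¹) ^ ℓ = 1 := by
      obtain ⟨i, rfl⟩ := Subgroup.mem_zpowers_iff.mp hz
      rw [conj_pow, ← zpow_natCast, ← zpow_mul, mul_comm, zpow_mul, zpow_natCast, ← hx,
        pow_orderOf_eq_one, one_zpow, mul_one, mul_inv_cancel]
    obtain ⟨i, -, hi⟩ := hxi.eq_pow_of_pow_eq_one (ξ := ι ⟨_, hgA⟩) (by
      rw [← map_pow, ← map_one ι]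
      exact congrArg ι (Subtype.ext hz1))
    rw [← map_pow] at hi
    have h1 : x ^ i = g * z * g⁻¹ := congrArg Subtype.val (hιi hi)
    rw [← h1]
    exact pow_mem (Subgroup.mem_zpowers x) i
  · right
    obtain ⟨B, s, hBn, hBC, L⟩ := CfsgLib.Semilinear.exists_layer A hAc hmax hCA
    haveI := hBn
    have hlin : ∀ g ∈ C, ∀ (k : K) (w : V), g • k • w = k • g • w := by
      intro g hg k w
      have h : ∀ y ∈ K, P g * y = y * P g := by
        intro y hy
        induction hy using Subring.closure_induction with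
        | mem y hy =>
          obtain ⟨a, rfl⟩ := hy
          show P g * P a = P a * P g
          rw [hmulP, hmulP, Subgroup.mem_centralizer_iff.mp hg a a.2]
        | zero => rw [mul_zero, zero_mul]
        | one => rw [mul_one, one_mul]
        | add y z _ _ hy hz => rw [mul_add, add_mul, hy, hz]
        | neg y _ hy => rw [mul_neg, neg_mul, hy]
        | mul y z _ _ hy hz => rw [← mul_assoc, hy, mul_assoc, hz, mul_assoc]
      exact DFunLike.congr_fun (h k.1 k.2) w
    have hι : ∀ (a : A) (w : V), ι a • w = (a : H) • w := fun _ _ => rfl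
    set m := Module.finrank K V with hm
    haveI : Module.Finite K V := Module.Finite.of_finite
    have hVK : Nat.card V = Nat.card K ^ m := Module.natCard_eq_pow_finrank
    have hnd : n = d * m := Nat.pow_right_injective ht.out.two_le
      (show t ^ n = t ^ (d * m) by rw [← hV, hVK, hKd, pow_mul])
    have hmn : m ≤ n := hnd ▸ Nat.le_mul_of_pos_left m (Nat.pos_of_ne_zero hd0)
    set πA := QuotientGroup.mk' A with hπA
    set W := B.map πA with hW
    obtain ⟨hWle, -⟩ := L.card_le hBC hlin ι hι hιi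
    haveI : Fact s.Prime := ⟨L.prime⟩
    -- the order of the layer
    have hWp : IsPGroup s W := by
      rintro ⟨_, b, hb, rfl⟩
      refine ⟨1, Subtype.ext ?_⟩
      show (πA b) ^ s ^ 1 = 1
      rw [pow_one, ← map_pow]
      exact (QuotientGroup.eq_one_iff _).mpr (L.pow b hb)
    obtain ⟨e, he⟩ := IsPGroup.iff_card.mp hWp
    obtain ⟨b, hb, hbA⟩ := SetLike.not_le_iff_exists.mp fun h => L.ne (le_antisymm h L.le)
    have he2 : 2 ≤ e := by
      by_contra hlt
      apply hbA
      refine L.center b hb fun c hc => ?_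
      have hbW : πA b ∈ W := Subgroup.mem_map_of_mem _ hb
      have hb1 : πA b ≠ 1 := fun h => hbA ((QuotientGroup.eq_one_iff b).mp h)
      have hWz : Subgroup.zpowers (πA b) = W := by
        refine Subgroup.eq_of_le_of_card_ge (Subgroup.zpowers_le.mpr hbW) ?_
        rw [he]
        refine le_trans (Nat.pow_le_pow_right L.prime.pos (show e ≤ 1 by omega)) ?_
        rw [pow_one]
        obtain ⟨i, hi, hi'⟩ := (Nat.dvd_prime_pow L.prime).mp
          (he ▸ Subgroup.card_dvd_of_le (Subgroup.zpowers_le.mpr hbW))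
        rcases i with _ | i
        · exact absurd (Subgroup.zpowers_eq_bot.mp (Subgroup.card_eq_one.mp (by simpa using hi')))
            hb1
        · rw [hi']; exact Nat.le_self_pow i.succ_ne_zero _
      obtain ⟨i, hi⟩ := Subgroup.mem_zpowers_iff.mp
        (show πA c ∈ Subgroup.zpowers (πA b) by rw [hWz]; exact Subgroup.mem_map_of_mem πA hc)
      rw [← map_zpow] at hi
      have hca : (b ^ i)⁻¹ * c ∈ A := (QuotientGroup.eq (s := A)).mp hi
      have h1 : Commute b ((b ^ i)⁻¹ * c) := (L.cent _ hca b hb).symm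
      have h2 : Commute b (b ^ i * ((b ^ i)⁻¹ * c)) :=
        ((Commute.refl b).zpow_right i).mul_right h1
      rwa [mul_inv_cancel_left] at h2
    -- `s` divides the order of `A`
    have hsA : s ∣ Nat.card A := by
      by_contra hsA
      refine hbA (L.center b hb fun c hc => ?_)
      set z := b * c * b⁻¹ * c⁻¹ with hz
      have hzA : z ∈ A := L.comm b hb c hc
      have hk : ∀ k : ℕ, b ^ k * c * (b ^ k)⁻¹ = z ^ k * c := by
        intro k
        induction k with
        | zero => simp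
        | succ k ih =>
          have hbz : b * z ^ k = z ^ k * b := (L.cent _ (pow_mem hzA k) b hb).symm
          calc b ^ (k + 1) * c * (b ^ (k + 1))⁻¹ = b * (b ^ k * c * (b ^ k)⁻¹) * b⁻¹ := by
                rw [pow_succ']; group
            _ = z ^ k * (b * c * b⁻¹) := by rw [ih, ← mul_assoc b, hbz]; group
            _ = z ^ (k + 1) * c := by rw [hz, pow_succ]; group
      have h1 := hk s
      rw [show b ^ s * c = c * b ^ s from L.cent _ (L.pow b hb) c hc, mul_inv_cancel_right] at h1
      have h2 : z ^ s = 1 := mul_eq_right.mp h1.symm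
      have h3 : orderOf z ∣ Nat.card A := by
        rw [show z = ((⟨z, hzA⟩ : A) : H) from rfl, Subgroup.orderOf_coe]
        exact orderOf_dvd_natCard _
      have h4 : z = 1 := orderOf_eq_one_iff.mp (Nat.eq_one_of_dvd_coprimes
        (L.prime.coprime_iff_not_dvd.mpr hsA) (orderOf_dvd_of_pow_eq_one h2) h3)
      rw [hz, mul_inv_eq_one, mul_inv_eq_iff_eq_mul] at h4
      exact h4
    have hst : s ≠ t := by
      rintro rfl
      obtain ⟨a, ha⟩ := exists_prime_orderOf_dvd_card' (G := A) s hsA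
      have h1 : (ι a - 1) ^ s = 0 := by
        rw [sub_pow_char, one_pow, ← map_pow, ← ha, pow_orderOf_eq_one, map_one, sub_self]
      have h2 : a = 1 := hιi ((sub_eq_zero.mp (eq_zero_of_pow_eq_zero h1)).trans (map_one ι).symm)
      rw [h2, orderOf_one] at ha
      exact L.prime.one_lt.ne ha
    have hsq : s ^ 2 ≤ Nat.card W := he ▸ Nat.pow_le_pow_right L.prime.pos he2
    have hsl : ℓ ≠ s := by
      rintro rfl
      have h1 : ℓ * ℓ ≤ m * m := by rw [← sq]; exact hsq.trans hWle
      have := Nat.mul_self_le_mul_self_iff.mp h1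
      have := hd.lt
      omega
    have key : ∀ y : H, orderOf y = ℓ → ∃ j, 0 < j ∧ s = 2 ∧ ℓ = 2 ^ j + 1 ∧
        Nat.card W = 2 ^ (2 * j) ∧ ∀ b ∈ B, y * b * y⁻¹ * b⁻¹ ∈ A → b ∈ A := by
      intro y hy
      obtain ⟨j, hj0, hjd, hjW, hjeq⟩ := L.exists_square (F := K) hBC hAcyc
        (fun g hg a ha => (Subgroup.mem_centralizer_iff.mp hg a ha).symm) hlin hf hd.prime hsl
        (hxC y hy) hy (by rw [← hm, hKd, ← pow_mul, ← hnd]; exact hd.dvd)
        (fun i hi him h => hd.prim (d * i) (Nat.mul_pos (Nat.pos_of_ne_zero hd0) hi)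
          (hnd ▸ Nat.mul_lt_mul_of_pos_left him (Nat.pos_of_ne_zero hd0))
          (by rwa [pow_mul, ← hKd]))
      have hjm : s ^ j ≤ m := by
        refine Nat.mul_self_le_mul_self_iff.mp ?_
        rw [← pow_add, ← two_mul]
        exact hjW.trans hWle
      have hspos : 1 < s ^ j := Nat.one_lt_pow hj0.ne' L.prime.one_lt
      have hfac : s ^ (2 * j) - 1 = (s ^ j + 1) * (s ^ j - 1) := by
        rw [← Nat.sq_sub_sq, one_pow, ← pow_mul, mul_comm]
      rw [hfac] at hjd
      have hle : ℓ ≤ s ^ j + 1 := by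
        rcases hd.prime.dvd_mul.mp hjd with h | h
        · exact Nat.le_of_dvd (by omega) h
        · exact (Nat.le_of_dvd (by omega) h).trans (by omega)
      have hlt := hd.lt
      have heq : s ^ j + 1 = ℓ ∧ m = s ^ j := by omega
      have hWeq : s ^ (2 * j) = Nat.card W := by
        refine le_antisymm hjW (hWle.trans ?_)
        rw [← hm, heq.2, ← pow_add, ← two_mul]
      have hs2 : s = 2 := by
        rcases L.prime.eq_two_or_odd' with h | h
        · exact h
        · exfalso
          have h1 : Odd (s ^ j) := h.pow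
          rcases hd.prime.eq_two_or_odd' with h2 | h2
          · omega
          · rw [← heq.1, Nat.odd_add_one] at h2
            exact h2 h1
      subst hs2
      exact ⟨j, hj0, rfl, heq.1.symm, hWeq.symm, hjeq hWeq⟩
    obtain ⟨j, hj0, hs2, hl, hWc, -⟩ := key x hx
    haveI : W.Normal := Subgroup.Normal.map inferInstance πA (QuotientGroup.mk'_surjective A)
    have hWcomm : ∀ u w : W, u * w = w * u := by
      rintro ⟨_, b, hb, rfl⟩ ⟨_, c, hc, rfl⟩
      refine Subtype.ext ?_
      show πA b * πA c = πA c * πA b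
      rw [← map_mul, ← map_mul]
      refine (QuotientGroup.eq (s := A)).mpr ?_
      rw [show (b * c)⁻¹ * (c * b) = c⁻¹ * b⁻¹ * c * b by group]
      simpa using L.comm _ (inv_mem hc) _ (inv_mem hb)
    refine ⟨hs2 ▸ hst.symm, W, { (inferInstance : Group W) with mul_comm := hWcomm },
      Subtype.finite, MulAut.conjNormal.comp πA, j, hj0, hWc, hl, fun y hy h1 => ?_⟩
    obtain ⟨j', -, -, -, -, hy'⟩ := key y hy
    refine hbA (hy' b hb ((QuotientGroup.eq_one_iff _).mp ?_))
    show πA (y * b * y⁻¹ * b⁻¹) = 1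
    have h2 : (((MulAut.conjNormal.comp πA) y ⟨πA b, Subgroup.mem_map_of_mem _ hb⟩ : W) :
        H ⧸ A) = πA b := by rw [h1]; rfl
    rw [MonoidHom.comp_apply, MulAut.conjNormal_apply] at h2
    rw [map_mul, map_mul, map_mul, map_inv, map_inv, mul_inv_eq_one]
    exact h2

theorem primDiv_two {j : ℕ} (hj : 0 < j) (hp : (2 ^ j + 1).Prime) :
    PrimDiv 2 (2 * j) (2 ^ j + 1) := by
  have hlt : j < 2 ^ j := Nat.lt_two_pow_self
  refine ⟨hp, ?_, ⟨2 ^ j - 1, ?_⟩, fun i hi hij h => ?_⟩
  · rcases Nat.lt_or_ge j 2 with h | h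
    · interval_cases j; norm_num
    · obtain ⟨k, rfl⟩ := Nat.exists_eq_add_of_le' h
      have : k < 2 ^ k := Nat.lt_two_pow_self
      rw [pow_add]
      omega
  · rw [← Nat.sq_sub_sq, one_pow, ← pow_mul, mul_comm]
  · have hd : 2 ^ j + 1 ∣ 2 ^ (Nat.gcd i (2 * j)) - 1 := by
      rw [← Nat.pow_sub_one_gcd_pow_sub_one]
      exact Nat.dvd_gcd h ⟨2 ^ j - 1, by rw [← Nat.sq_sub_sq, one_pow, ← pow_mul, mul_comm]⟩
    set g := Nat.gcd i (2 * j) with hg
    have hg0 : 0 < g := Nat.gcd_pos_of_pos_left _ hi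
    have hgi : g ≤ i := Nat.gcd_le_left _ hi
    have hgj : g ≤ j := by
      obtain ⟨c, hc⟩ := Nat.gcd_dvd_right i (2 * j)
      rw [← hg] at hc
      rcases c with _ | _ | c <;> nlinarith
    have h1 : 1 < 2 ^ g := Nat.one_lt_pow hg0.ne' (by norm_num)
    have h2 : 2 ^ g ≤ 2 ^ j := Nat.pow_le_pow_right (by norm_num) hgj
    have := Nat.le_of_dvd (by omega) hd
    omega

/-- Modulo a normal subgroup of order prime to `ℓ`, an element of primitive order spans a normal
subgroup with commutative centralizer. -/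
theorem exists_quotient [Finite H] [Group.IsSolvable H] [Fact t.Prime] (hd : PrimDiv t n ℓ)
    (hn : 0 < n) (hV : Nat.card V = t ^ n) (hf : ∀ g : H, (∀ v : V, g • v = v) → g = 1)
    (hl : ℓ ∣ Nat.card H) :
    ∃ (K : Type u) (_ : Group K) (π : H →* K) (x : K), Function.Surjective π ∧
      ¬ ℓ ∣ Nat.card π.ker ∧ orderOf x = ℓ ∧ (Subgroup.zpowers x).Normal ∧
      ∀ a b : K, a * x = x * a → b * x = x * b → a * b = b * a := by
  haveI : Fact ℓ.Prime := ⟨hd.prime⟩
  obtain ⟨x, hx⟩ := exists_prime_orderOf_dvd_card' (G := H) ℓ hl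
  rcases normal_or_layer hd hn hV hf hx with h | ⟨-, W, _, _, Φ, j, hj, hW, hlj, hΦ⟩
  · refine ⟨H, inferInstance, MonoidHom.id H, x, Function.surjective_id, ?_, hx, h,
      fun a b => centralizer_comm hd hn hV hf hx⟩
    rw [MonoidHom.ker_id, Subgroup.card_bot]
    exact hd.prime.not_dvd_one
  · let K := Φ.range
    letI : DistribMulAction K (Additive W) :=
      { smul := fun g w => Additive.ofMul ((g : MulAut W) w.toMul)
        one_smul := fun w => rfl
        mul_smul := fun g h w => rfl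
        smul_zero := fun g => congrArg Additive.ofMul (map_one (g : MulAut W))
        smul_add := fun g a b => congrArg Additive.ofMul (map_mul (g : MulAut W) a.toMul b.toMul) }
    have hfK : ∀ g : K, (∀ w : Additive W, g • w = w) → g = 1 := fun g hg =>
      Subtype.ext (MulEquiv.ext fun w => congrArg Additive.toMul (hg (Additive.ofMul w)))
    haveI : Group.IsSolvable K := Group.isSolvable_of_surjective Φ.rangeRestrict_surjective
    haveI : Finite K := Finite.of_surjective _ Φ.rangeRestrict_surjective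
    haveI : Fact (Nat.Prime 2) := ⟨Nat.prime_two⟩
    have hd2 : PrimDiv 2 (2 * j) ℓ := hlj ▸ primDiv_two hj (hlj ▸ hd.prime)
    have hcard : Nat.card (Additive W) = 2 ^ (2 * j) := hW
    have hxK : orderOf (Φ.rangeRestrict x) = ℓ := by
      refine orderOf_eq_prime ?_ fun h => hΦ x hx (congrArg Subtype.val h)
      rw [← map_pow, ← hx, pow_orderOf_eq_one, map_one]
    have hn2 : 0 < 2 * j := by omega
    have hnorm := (normal_or_layer hd2 hn2 hcard hfK hxK).resolve_right fun h => h.1 rfl
    refine ⟨K, inferInstance, Φ.rangeRestrict, Φ.rangeRestrict x, Φ.rangeRestrict_surjective,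
      fun h => ?_, hxK, hnorm, fun a b => centralizer_comm hd2 hn2 hcard hfK hxK⟩
    obtain ⟨y, hy⟩ := exists_prime_orderOf_dvd_card' (G := Φ.rangeRestrict.ker) ℓ h
    refine hΦ (y : H) ((Subgroup.orderOf_coe y).trans hy) ?_
    exact congrArg Subtype.val (MonoidHom.mem_ker.mp y.2)

end CfsgLib.RealChar.Palfy
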