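import Cfsg.Agent.Lib.RealChar.PalfyDual
import Cfsg.Agent.Lib.Glauberman.Relative
import Cfsg.Agent.Lib.TwoGroupInvol.Basic

/-!
# Of three prime divisors of degrees of a solvable group, two divide one degree
-/

set_option autoImplicit false
set_option linter.style.haveILetI false

namespace CfsgLib.RealChar.Palfy

open Cfsg CfsgLib.CharTwist
open scoped ComplexConjugate commutatorElement

universe u

/-- `m` divides some degree. -/
def Deg (G : Type u) [Group G] (m : ℕ) : Prop :=
  ∃ χ : IrrCharacter G, m ∣ charDegree (χ : G → ℂ)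

/-- Three primes dividing degrees, no degree divisible by two of them. -/
structure Bad (G : Type u) [Group G] (p q r : ℕ) : Prop where
  hp : p.Prime
  hq : q.Prime
  hr : r.Prime
  hpq : p ≠ q
  hqr : q ≠ r
  hpr : p ≠ r
  dp : Deg G p
  dq : Deg G q
  dr : Deg G r
  npq : ¬ Deg G (p * q)
  nqr : ¬ Deg G (q * r)
  npr : ¬ Deg G (p * r)

theorem Bad.rotate {G : Type u} [Group G] {p q r : ℕ} (h : Bad G p q r) : Bad G q r p :=
  ⟨h.hq, h.hr, h.hp, h.hqr, h.hpr.symm, h.hpq.symm, h.dq, h.dr, h.dp, h.nqr,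
    mul_comm p r ▸ h.npr, mul_comm p q ▸ h.npq⟩

theorem Bad.swap {G : Type u} [Group G] {p q r : ℕ} (h : Bad G p q r) : Bad G p r q :=
  ⟨h.hp, h.hr, h.hq, h.hpr, h.hqr.symm, h.hpq, h.dp, h.dr, h.dq, h.npr,
    mul_comm q r ▸ h.nqr, h.npq⟩

variable {G : Type u} [Group G] [Finite G] [Group.IsSolvable G]

/-- The minimal normal subgroup has order prime to `p`. -/
theorem caseCoprime {p q r t n : ℕ} [hp : Fact p.Prime] [ht : Fact t.Prime] (hb : Bad G p q r)
    (htp : t ≠ p) (hn : 0 < n) (V : Subgroup G) [V.Normal]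
    (hVc : ∀ x ∈ V, ∀ y ∈ V, x * y = y * x) (hVt : Nat.card V = t ^ n)
    (hVmin : ∀ M : Subgroup G, M.Normal → M ≤ V → M = ⊥ ∨ M = V) (P : Sylow p G)
    (hPV : ((P : Subgroup G) ⊔ V).Normal)
    (hPc : ∀ a ∈ (P : Subgroup G), ∀ b ∈ (P : Subgroup G), a * b * a⁻¹ * b⁻¹ ∈ V) : False := by
  classical
  haveI : Fact q.Prime := ⟨hb.hq⟩
  haveI : Fact r.Prime := ⟨hb.hr⟩
  haveI := Fintype.ofFinite V
  obtain ⟨a, ha⟩ := IsPGroup.iff_card.mp P.isPGroup'
  have hcop : (Nat.card V).Coprime (Nat.card (P : Subgroup G)) := by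
    rw [hVt, ha]
    exact ((Nat.coprime_primes ht.out hp.out).mpr htp).pow n a
  have hdPV : Disjoint V (P : Subgroup G) := Subgroup.disjoint_of_coprime_natCard hcop
  have hPab : ∀ a ∈ (P : Subgroup G), ∀ b ∈ (P : Subgroup G), a * b = b * a := fun a ha b hb' => by
    have h := Subgroup.disjoint_def.mp hdPV (hPc a ha b hb') (mul_mem (mul_mem (mul_mem ha hb')
      (inv_mem ha)) (inv_mem hb'))
    exact mul_inv_eq_iff_eq_mul.mp (mul_inv_eq_one.mp h)
  have hPn : ¬ (P : Subgroup G).Normal := fun h => by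
    haveI := h
    obtain ⟨χ, hχ⟩ := hb.dp
    exact not_dvd_degree_of_abelian_normal (P : Subgroup G) hPab P.not_dvd_index χ hχ
  set H := Subgroup.normalizer ((P : Subgroup G) : Set G) with hH
  have hPH : (P : Subgroup G) ≤ H := Subgroup.le_normalizer
  have hsup : V ⊔ H = ⊤ := by
    have h1 := Sylow.normalizer_sup_eq_top (P.subtype (le_sup_left : (P : Subgroup G) ≤ _ ⊔ V))
    rw [Sylow.coe_subtype, Subgroup.map_subgroupOf_eq_of_le le_sup_left] at h1
    refine top_le_iff.mp (h1 ▸ sup_le le_sup_right (sup_le (hPH.trans le_sup_right) le_sup_left))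
  have hdisj : Disjoint V H := by
    rw [disjoint_iff]
    set D := V ⊓ H with hD
    have hDn : D.Normal := by
      refine normal_of_normalized hsup ?_ ?_
      · refine Subgroup.le_normalizer_iff.mpr fun x hx y hy => ?_
        rw [hVc x hx y hy.1, mul_inv_cancel_right]
        exact hy
      · refine Subgroup.le_normalizer_iff.mpr fun x hx y hy => ?_
        exact ⟨(inferInstance : V.Normal).conj_mem y hy.1 x,
          H.mul_mem (H.mul_mem hx hy.2) (H.inv_mem hx)⟩
    refine (hVmin D hDn inf_le_left).resolve_right fun h => hPn ?_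
    refine Subgroup.normalizer_eq_top_iff.mp ?_
    rw [← hsup]
    exact (sup_eq_right.mpr (h ▸ inf_le_right)).symm
  obtain ⟨π, hπ⟩ := exists_projection hdisj hsup
  let P' : Sylow p H := P.subtype hPH
  have hP'n : (P' : Subgroup H).Normal := by
    rw [Sylow.coe_subtype]
    exact (Subgroup.normal_subgroupOf_iff_le_normalizer hPH).mpr le_rfl
  let _ : CommGroup V := { (inferInstance : Group V) with
    mul_comm := fun x y => Subtype.ext (hVc x x.2 y y.2) }
  letI := linAction V H
  have hcard : Nat.card (Additive (V →* ℂˣ)) = t ^ n := (card_linear_abelian hVc).trans hVt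
  haveI : Finite (Additive (V →* ℂˣ)) := finite_linear (N := V)
  haveI hnt : Nontrivial (Additive (V →* ℂˣ)) :=
    Finite.one_lt_card_iff_nontrivial.mp (hcard ▸ Nat.one_lt_pow hn.ne' ht.out.one_lt)
  have hone : ∀ l : V →* ℂˣ, charDegree ((linIrr l : IrrCharacter V) : V → ℂ) = 1 :=
    fun l => charDegree_linear l
  have hdvd : ∀ l : V →* ℂˣ, l ≠ 1 → p ∣ ((inertia V (linFun l)).subgroupOf H).index := by
    intro l hl
    by_contra h
    have hle := normal_sylow_le _ P' hP'n h
    haveI := Fintype.ofFinite (P : Subgroup G)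
    apply hl
    refine MonoidHom.ext fun v => ?_
    rw [MonoidHom.one_apply]
    have hfix : ∀ b : (P : Subgroup G), l (MulAut.conjNormal (H := V) (b : G) v) = l v := fun b => by
      have hb' : (b : G) ∈ inertia V (linFun l) :=
        Subgroup.mem_subgroupOf.mp (hle (show (⟨b, hPH b.2⟩ : H) ∈ (P' : Subgroup H) from b.2))
      exact Units.ext (congrFun (mem_inertia.mp hb') v)
    have h1 : (∏ b : (P : Subgroup G), MulAut.conjNormal (H := V) (b : G) v) = 1 := by
      set z := ∏ b : (P : Subgroup G), MulAut.conjNormal (H := V) (b : G) v with hz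
      have hzf : ∀ c : (P : Subgroup G), MulAut.conjNormal (H := V) (c : G) z = z := fun c => by
        rw [hz, map_prod]
        refine Fintype.prod_equiv (Equiv.mulLeft c) _ _ fun b => ?_
        simp [map_mul]
      have hzH : (z : G) ∈ H := by
        have hc : ∀ c ∈ (P : Subgroup G), (z : G) * c = c * z := fun c hc => by
          have := congrArg Subtype.val (hzf ⟨c, hc⟩)
          rw [MulAut.conjNormal_apply] at this
          exact (mul_inv_eq_iff_eq_mul.mp this).symm
        rw [hH, Subgroup.mem_normalizer_iff]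
        intro c
        constructor
        · intro hc'
          rw [hc c hc', mul_inv_cancel_right]
          exact hc'
        · intro hc'
          have h2 := hc _ hc'
          rw [show (z : G) * c * (z : G)⁻¹ * z = z * c by group] at h2
          rwa [← mul_left_cancel h2]
      exact Subtype.ext (Subgroup.disjoint_def.mp hdisj z.2 hzH)
    have h2 : l v ^ Nat.card (P : Subgroup G) = 1 := by
      have := congrArg l h1
      rw [map_prod, Finset.prod_congr rfl fun b _ => hfix b, Finset.prod_const, Finset.card_univ,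
        map_one, ← Nat.card_eq_fintype_card] at this
      exact this
    have h3 : l v ^ Nat.card V = 1 := by rw [← map_pow, pow_card_eq_one', map_one]
    exact orderOf_eq_one_iff.mp (Nat.eq_one_of_dvd_coprimes hcop (orderOf_dvd_of_pow_eq_one h3)
      (orderOf_dvd_of_pow_eq_one h2))
  have hprop : ∀ (s : ℕ) [Fact s.Prime], p ≠ s → ¬ Deg G (p * s) → Deg G s →
      FixedByUnique s H (Additive (V →* ℂˣ)) ∧ Moves s H (Additive (V →* ℂˣ)) := by
    intro s hs hps hno hds
    have hno' : ∀ χ : IrrCharacter G, ¬ p * s ∣ charDegree (χ : G → ℂ) := fun χ h => hno ⟨χ, h⟩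
    have key : ∀ l : V →* ℂˣ, l ≠ 1 → _ := fun l hl =>
      sylow_in_inertia V H hdisj hsup (linIrr l) (by rw [hone]; exact Nat.coprime_one_right _)
        hp.out hps hno' ((hdvd l hl).mul_right _)
    have hu := fixedByUnique_lin V H s fun l hl => (key l hl).1
    refine ⟨hu, ?_⟩
    by_contra hm
    obtain ⟨w, hw⟩ := exists_ne (0 : Additive (V →* ℂˣ))
    obtain ⟨Q, -, huniq⟩ := hu w hw
    have hall : ∀ R : Sylow s H, ∀ g ∈ (R : Subgroup H), ∀ x : Additive (V →* ℂˣ), g • x = x :=
      fun R g hg x => by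
        by_contra hg'
        exact hm ⟨R, g, hg, x, hg'⟩
    haveI : Subsingleton (Sylow s H) := ⟨fun a b => (huniq a fun g hg => hall a g hg w).trans
      (huniq b fun g hg => hall b g hg w).symm⟩
    have hQn := Sylow.normal_of_subsingleton Q
    have hQab := (key w.toMul fun h => hw (congrArg Additive.ofMul h)).2 Q
      ((fixes_iff V H Q w).mp fun g hg => hall Q g hg w)
    set Q' := (Q : Subgroup H).map H.subtype with hQ'
    have hQV : ∀ g ∈ Q', ∀ v ∈ V, g * v = v * g := by
      rintro _ ⟨g, hg, rfl⟩ v hv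
      by_contra hne
      have hne' : MulAut.conjNormal (H := V) (g : G) ⟨v, hv⟩ * (⟨v, hv⟩ : V)⁻¹ ≠ 1 := by
        intro h
        rw [mul_inv_eq_one] at h
        have := congrArg Subtype.val h
        rw [MulAut.conjNormal_apply] at this
        exact hne (mul_inv_eq_iff_eq_mul.mp this)
      obtain ⟨f, hf⟩ := CommGroup.exists_apply_ne_one_of_hasEnoughRootsOfUnity V ℂ hne'
      apply hf
      have h1 := mem_inertia.mp ((smul_eq_iff V H g (Additive.ofMul f)).mp (hall Q g hg _))
      rw [map_mul, map_inv, mul_inv_eq_one]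
      exact Units.ext (congrFun h1 ⟨v, hv⟩)
    set M := V ⊔ Q' with hM
    haveI hMn : M.Normal := by
      refine normal_of_normalized hsup (le_sup_left.trans Subgroup.le_normalizer) ?_
      refine Subgroup.le_normalizer_iff.mpr fun x hx y hy => ?_
      rw [hM, Subgroup.mem_sup_of_normal_left] at hy ⊢
      obtain ⟨v, hv, _, ⟨g, hg, rfl⟩, rfl⟩ := hy
      refine ⟨x * v * x⁻¹, (inferInstance : V.Normal).conj_mem v hv x, x * g * x⁻¹,
        ⟨⟨x, hx⟩ * g * ⟨x, hx⟩⁻¹, hQn.conj_mem g hg _, rfl⟩, ?_⟩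
      simp [mul_assoc]
    obtain ⟨χ, hχ⟩ := hds
    refine not_dvd_degree_of_abelian_normal M (fun x hx y hy => ?_) ?_ χ hχ
    · have hgen : ∀ x ∈ Q', ∀ y ∈ Q', x * y = y * x := by
        rintro _ ⟨g, hg, rfl⟩ _ ⟨g', hg', rfl⟩
        exact congrArg (fun z : (Q : Subgroup H) => ((z : H) : G))
          (hQab.is_comm.comm ⟨g, hg⟩ ⟨g', hg'⟩)
      rw [hM, Subgroup.mem_sup_of_normal_left] at hx hy
      obtain ⟨v, hv, g, hg, rfl⟩ := hx
      obtain ⟨v', hv', g', hg', rfl⟩ := hy
      calc v * g * (v' * g') = v * (g * v') * g' := by group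
        _ = v * v' * (g * g') := by rw [hQV g hg v' hv']; group
        _ = v' * v * (g' * g) := by rw [hVc v hv v' hv', hgen g hg g' hg']
        _ = v' * (v * g') * g := by group
        _ = v' * g' * (v * g) := by rw [← hQV g' hg' v hv]; group
    · rw [← Cross.index_subgroupOf_of_sup hsup (le_sup_left : V ≤ M)]
      refine fun h => Q.not_dvd_index (h.trans (Subgroup.index_dvd_of_le ?_))
      exact fun g hg => Subgroup.mem_subgroupOf.mpr
        ((le_sup_right : Q' ≤ M) ⟨g, hg, rfl⟩)
  obtain ⟨huq, hmq⟩ := hprop q hb.hpq hb.npq hb.dq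
  obtain ⟨hur, hmr⟩ := hprop r hb.hpr hb.npr hb.dr
  exact hb.nqr (exists_degree_of_surjective π hπ
    (exists_irr_dvd (t := t) (n := n) hb.hqr hcard huq hmq hur hmr))

/-- A subgroup of a `p`-group moved trivially by a `p'`-automorphism on two layers. -/
theorem eq_one_of_pow {K : Type u} [Group K] [Finite K] {c : K} {k : ℕ} (h : c ^ k = 1)
    (hk : (Nat.card K).Coprime k) : c = 1 :=
  orderOf_eq_one_iff.mp
    (Nat.eq_one_of_dvd_coprimes hk (orderOf_dvd_natCard c) (orderOf_dvd_of_pow_eq_one h))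

/-- The minimal normal subgroup is the derived subgroup of a normal Sylow `p`-subgroup. -/
theorem caseNormal {p q r n : ℕ} [hp : Fact p.Prime] (hb : Bad G p q r) (hn : 0 < n)
    (V : Subgroup G) [V.Normal] (hVc : ∀ x ∈ V, ∀ y ∈ V, x * y = y * x)
    (hVt : Nat.card V = p ^ n) (hVmin : ∀ M : Subgroup G, M.Normal → M ≤ V → M = ⊥ ∨ M = V)
    (P : Sylow p G) [hPn : (P : Subgroup G).Normal] (hVP : V ≤ (P : Subgroup G))
    (hPc : ∀ a ∈ (P : Subgroup G), ∀ b ∈ (P : Subgroup G), a * b * a⁻¹ * b⁻¹ ∈ V) : False := by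
  classical
  haveI hqf : Fact q.Prime := ⟨hb.hq⟩
  haveI hrf : Fact r.Prime := ⟨hb.hr⟩
  obtain ⟨a, ha⟩ := IsPGroup.iff_card.mp P.isPGroup'
  -- `V` is central in `P`
  have hcent : ∀ v ∈ V, ∀ x ∈ (P : Subgroup G), v * x = x * v := by
    set D := V ⊓ Subgroup.centralizer ((P : Subgroup G) : Set G) with hD
    have hDn : D.Normal := inferInstance
    have hDV : D = V := by
      refine (hVmin D hDn inf_le_left).resolve_left fun h => ?_
      letI : MulAction (P : Subgroup G) V :=
        MulAction.compHom V (MulAut.conjNormal.comp (P : Subgroup G).subtype :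
          (P : Subgroup G) →* MulAut V)
      obtain ⟨v, hv, hv1⟩ := P.isPGroup'.exists_fixed_point_of_prime_dvd_card_of_fixed_point V
        (hVt ▸ dvd_pow_self p hn.ne') (a := 1)
        (fun g => show MulAut.conjNormal (H := V) (g : G) 1 = 1 from map_one _)
      apply hv1
      symm
      refine Subtype.ext ?_
      have : (v : G) ∈ D := ⟨v.2, Subgroup.mem_centralizer_iff.mpr fun x hx => by
        have h1 : MulAut.conjNormal (H := V) x v = v := hv ⟨x, hx⟩
        have h2 := congrArg Subtype.val h1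
        rw [MulAut.conjNormal_apply] at h2
        exact mul_inv_eq_iff_eq_mul.mp h2⟩
      rw [h] at this
      exact Subgroup.mem_bot.mp this
    intro v hv x hx
    exact (Subgroup.mem_centralizer_iff.mp (hDV.symm ▸ hv : v ∈ D).2 x hx).symm
  -- `P` is not abelian
  have hPnab : ¬ ∀ a ∈ (P : Subgroup G), ∀ b ∈ (P : Subgroup G), a * b = b * a := fun h => by
    obtain ⟨χ, hχ⟩ := hb.dp
    exact not_dvd_degree_of_abelian_normal (P : Subgroup G) h P.not_dvd_index χ hχ
  set V' := V.subgroupOf (P : Subgroup G) with hV'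
  have hV'mem : ∀ x : (P : Subgroup G), x ∈ V' ↔ (x : G) ∈ V := fun x => Subgroup.mem_subgroupOf
  have hcomm' : commutator (P : Subgroup G) = V' := by
    have hle : commutator (P : Subgroup G) ≤ V' :=
      Subgroup.commutator_le.mpr fun x _ y _ => (hV'mem _).mpr (hPc x x.2 y y.2)
    haveI : ((commutator (P : Subgroup G)).map (P : Subgroup G).subtype).Normal :=
      CfsgLib.Solvable.normal_map_subtype_of_characteristic _ _
    have hmap : (commutator (P : Subgroup G)).map (P : Subgroup G).subtype ≤ V := by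
      rintro _ ⟨x, hx, rfl⟩
      exact (hV'mem x).mp (hle hx)
    have heq := (hVmin _ inferInstance hmap).resolve_left fun h => hPnab fun a ha b hb' => by
      have h1 : ⁅(⟨a, ha⟩ : (P : Subgroup G)), ⟨b, hb'⟩⁆ ∈ commutator (P : Subgroup G) :=
        Subgroup.commutator_mem_commutator (Subgroup.mem_top _) (Subgroup.mem_top _)
      have h2 := Subgroup.mem_map_of_mem (P : Subgroup G).subtype h1
      rw [h, Subgroup.mem_bot] at h2
      exact mul_inv_eq_iff_eq_mul.mp (mul_inv_eq_one.mp h2)
    refine le_antisymm hle fun x hx => ?_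
    obtain ⟨y, hy, hyx⟩ := heq.symm ▸ (hV'mem x).mp hx
    rwa [← Subtype.ext hyx]
  -- the complement
  obtain ⟨H, hH⟩ := Subgroup.exists_right_complement'_of_coprime (N := (P : Subgroup G))
    P.card_coprime_index
  have hdisj : Disjoint (P : Subgroup G) H := hH.disjoint
  have hsup : (P : Subgroup G) ⊔ H = ⊤ := hH.sup_eq_top
  have hHcard : Nat.card H = (P : Subgroup G).index := hH.symm.index_eq_card.symm
  have hcopH : (Nat.card (P : Subgroup G)).Coprime (Nat.card H) := hHcard ▸ P.card_coprime_index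
  obtain ⟨π, hπ⟩ := exists_projection hdisj hsup
  haveI := Fintype.ofFinite (P : Subgroup G)
  haveI := Fintype.ofFinite V'
  let c := fun h : G => MulAut.conjNormal (H := (P : Subgroup G)) h
  have hcV : ∀ (g : G) (x : (P : Subgroup G)), x ∈ V' → c g x ∈ V' := fun g x hx => by
    rw [hV'mem] at hx ⊢
    simpa [c, MulAut.conjNormal_apply] using (inferInstance : V.Normal).conj_mem _ hx g
  have hθcop : ∀ θ : IrrCharacter (P : Subgroup G),
      (Nat.card H).Coprime (charDegree (θ : ↥(P : Subgroup G) → ℂ)) := fun θ =>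
    hcopH.symm.coprime_dvd_right (CharTools.degree_dvd_card θ)
  have hpdeg : ∀ θ : IrrCharacter (P : Subgroup G),
      charDegree (θ : ↥(P : Subgroup G) → ℂ) ≠ 1 → p ∣ charDegree (θ : ↥(P : Subgroup G) → ℂ) := by
    intro θ hθ
    obtain ⟨k, -, hk⟩ := (Nat.dvd_prime_pow hp.out).mp (ha ▸ CharTools.degree_dvd_card θ)
    rcases k with _ | k
    · exact absurd (by simpa using hk) hθ
    · rw [hk]; exact dvd_pow_self p k.succ_ne_zero
  have prop : ∀ (s : ℕ) [Fact s.Prime], p ≠ s → ¬ Deg G (p * s) →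
      ∀ θ : IrrCharacter (P : Subgroup G), charDegree (θ : ↥(P : Subgroup G) → ℂ) ≠ 1 →
      (∃! Q : Sylow s H,
        (Q : Subgroup H) ≤ (inertia (P : Subgroup G) (θ : ↥(P : Subgroup G) → ℂ)).subgroupOf H) ∧
      ∀ Q : Sylow s H,
        (Q : Subgroup H) ≤ (inertia (P : Subgroup G) (θ : ↥(P : Subgroup G) → ℂ)).subgroupOf H →
          IsMulCommutative (Q : Subgroup H) := fun s _ hps hno θ hθ =>
    sylow_in_inertia (P : Subgroup G) H hdisj hsup θ (hθcop θ) hp.out hps
      (fun χ h => hno ⟨χ, h⟩) ((hpdeg θ hθ).mul_left _)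
  -- every non-trivial linear character of `V` lies below a character with the same stabiliser
  haveI : Fintype V := Fintype.ofFinite V
  have hover : ∀ l : V →* ℂˣ, l ≠ 1 → ∃ θ : IrrCharacter (P : Subgroup G),
      charDegree (θ : ↥(P : Subgroup G) → ℂ) ≠ 1 ∧
      (inertia (P : Subgroup G) (θ : ↥(P : Subgroup G) → ℂ)).subgroupOf H =
        (inertia V (linFun l)).subgroupOf H := by
    intro l hl
    set S := (inertia V (linFun l)).subgroupOf H with hS
    let φ : S →* MulAut (P : Subgroup G) :=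
      (MulAut.conjNormal (H := (P : Subgroup G))).comp (H.subtype.comp S.subtype)
    let e : V' ≃* V := Subgroup.subgroupOfEquivOfLe hVP
    let l' : V' →* ℂˣ := l.comp e.toMonoidHom
    have hN : ∀ (s : S), ∀ x ∈ V', φ s x ∈ V' := fun s x hx => hcV _ x hx
    haveI : Group.IsSolvable S := inferInstance
    obtain ⟨θ, hθ, hθinv⟩ := Glauberman.exists_inv_over (Nat.card S) φ V' hN rfl inferInstance
      (hcopH.coprime_dvd_right (Subgroup.card_subgroup_dvd_card S)) (linIrr l') (fun s x => by
        have h1 := congrFun (mem_inertia.mp (Subgroup.mem_subgroupOf.mp s.2)) (e x)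
        refine Eq.trans ?_ h1
        exact congrArg (fun z => (l z : ℂ)) (Subtype.ext rfl))
    have horb : Clifford.orbit V' (linFun l') = {linFun l'} := by
      ext f
      rw [Clifford.mem_orbit, Finset.mem_singleton]
      constructor
      · rintro ⟨g, rfl⟩
        funext v
        refine congrArg (fun z => (l' z : ℂ)) (Subtype.ext (Subtype.ext ?_))
        have h1 := hcent _ ((hV'mem _).mp v.2) _ g.2
        show (g : G) * ((v : (P : Subgroup G)) : G) * (g : G)⁻¹ = _
        rw [← h1, mul_inv_cancel_right]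
      · rintro rfl
        exact ⟨1, conjFun_one _ _⟩
    have hres := Clifford.res_eq V' θ.2 (Char.isIrrCharacter_linear l') hθ
    rw [horb, Finset.sum_singleton] at hres
    refine ⟨θ, fun h1 => hl ?_, le_antisymm ?_ ?_⟩
    · obtain ⟨f, hf⟩ := Char.IsCharacter.exists_linear (Char.IsIrrCharacter.isCharacter θ.2)
        (by rw [← CharTools.irr_degree_cast θ, h1, Nat.cast_one])
      refine MonoidHom.ext fun v => ?_
      rw [MonoidHom.one_apply]
      have hf1 : ∀ w : V', (f (w : (P : Subgroup G)) : ℂ) = 1 := fun w => by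
        have hw : (w : (P : Subgroup G)) ∈ f.ker :=
          Abelianization.commutator_subset_ker f (hcomm'.symm ▸ w.2)
        rw [MonoidHom.mem_ker.mp hw, Units.val_one]
      have h2 := congrFun hres 1
      have h3 := congrFun hres (e.symm v)
      simp only [OneMemClass.coe_one, Pi.smul_apply, smul_eq_mul, linFun, map_one, Units.val_one,
        mul_one, hf, hf1] at h2 h3
      rw [← h2, one_mul] at h3
      refine Units.ext ?_
      rw [Units.val_one]
      refine Eq.trans ?_ h3.symm
      simp [linFun, l']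
    · intro g hg
      rw [Subgroup.mem_subgroupOf] at hg
      rw [hS, Subgroup.mem_subgroupOf]
      refine mem_inertia.mpr (funext fun v => ?_)
      let w : V' := ⟨c (g : G) ((e.symm v : V') : (P : Subgroup G)), hcV _ _ (e.symm v).2⟩
      have h1 := congrFun (mem_inertia.mp hg) ((e.symm v : V') : (P : Subgroup G))
      have h2 : (θ : ↥(P : Subgroup G) → ℂ) ((w : V') : (P : Subgroup G)) =
          (θ : ↥(P : Subgroup G) → ℂ) ((e.symm v : V') : (P : Subgroup G)) := h1
      have hw := congrFun hres w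
      have hv := congrFun hres (e.symm v)
      simp only [Pi.smul_apply, smul_eq_mul] at hw hv
      rw [hw, hv] at h2
      have h4 := mul_left_cancel₀ hθ h2
      refine Eq.trans ?_ (h4.trans ?_)
      · exact congrArg (fun z => (l z : ℂ)) (Subtype.ext rfl)
      · simp [linFun, l']
    · intro g hg
      exact Subgroup.mem_subgroupOf.mpr (mem_inertia.mpr (funext fun x => hθinv ⟨g, hg⟩ x))
  letI := linAction V H
  have hcard : Nat.card (Additive (V →* ℂˣ)) = p ^ n := (card_linear_abelian hVc).trans hVt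
  haveI : Finite (Additive (V →* ℂˣ)) := finite_linear (N := V)
  haveI hnt : Nontrivial (Additive (V →* ℂˣ)) :=
    Finite.one_lt_card_iff_nontrivial.mp (hcard ▸ Nat.one_lt_pow hn.ne' hp.out.one_lt)
  have hfix : ∀ (s : ℕ) [Fact s.Prime], p ≠ s → ¬ Deg G (p * s) →
      FixedByUnique s H (Additive (V →* ℂˣ)) := fun s _ hps hno =>
    fixedByUnique_lin V H s fun l hl => by
      obtain ⟨θ, hθ, hST⟩ := hover l hl
      rw [← hST]
      exact (prop s hps hno θ hθ).1
  -- a linear character of `V` exists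
  obtain ⟨l₀, hl₀⟩ : ∃ l : V →* ℂˣ, l ≠ 1 := by
    obtain ⟨w, hw⟩ := exists_ne (0 : Additive (V →* ℂˣ))
    exact ⟨w.toMul, fun h => hw (congrArg Additive.ofMul h)⟩
  -- a normal Sylow subgroup of `H` centralises `V` and moves some linear character of `P`
  let π' := QuotientGroup.mk' V'
  have hV'comm : ∀ x y : (P : Subgroup G), π' (x * y) = π' (y * x) := fun x y => by
    refine (QuotientGroup.eq (s := V')).mpr ?_
    rw [show (x * y)⁻¹ * (y * x) = y⁻¹ * x⁻¹ * y * x by group]
    rw [hV'mem]
    simpa using hPc _ (inv_mem y.2) _ (inv_mem x.2)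
  let _ : CommGroup ((P : Subgroup G) ⧸ V') := { (inferInstance : Group ((P : Subgroup G) ⧸ V')) with
    mul_comm := fun u v => by
      obtain ⟨x, rfl⟩ := QuotientGroup.mk'_surjective V' u
      obtain ⟨y, rfl⟩ := QuotientGroup.mk'_surjective V' v
      show π' x * π' y = π' y * π' x
      rw [← map_mul, ← map_mul, hV'comm] }
  have hnormal : ∀ (s : ℕ) [Fact s.Prime], p ≠ s → ¬ Deg G (p * s) → Deg G s →
      ∀ Q : Sylow s H, (Q : Subgroup H).Normal →
      (∀ θ : IrrCharacter (P : Subgroup G), charDegree (θ : ↥(P : Subgroup G) → ℂ) ≠ 1 →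
        (Q : Subgroup H) ≤ (inertia (P : Subgroup G) (θ : ↥(P : Subgroup G) → ℂ)).subgroupOf H) ∧
      (∀ a ∈ (Q : Subgroup H), ∀ v ∈ V, (a : G) * v = v * (a : G)) ∧
      (∃ x : (P : Subgroup G), ∃ a ∈ (Q : Subgroup H), π' (c (a : G) x) ≠ π' x) ∧
      ∃ μ : (P : Subgroup G) →* ℂˣ,
        ¬ (Q : Subgroup H) ≤ (inertia (P : Subgroup G) (linFun μ)).subgroupOf H := by
    intro s hs hps hno hds Q hQn
    haveI := subsingleton_of_normal Q hQn
    have hall : ∀ θ : IrrCharacter (P : Subgroup G), charDegree (θ : ↥(P : Subgroup G) → ℂ) ≠ 1 →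
        (Q : Subgroup H) ≤ (inertia (P : Subgroup G) (θ : ↥(P : Subgroup G) → ℂ)).subgroupOf H :=
      fun θ hθ => by
        obtain ⟨Q1, hQ1, -⟩ := (prop s hps hno θ hθ).1
        rwa [Subsingleton.elim Q Q1]
    have hQV : ∀ a ∈ (Q : Subgroup H), ∀ v ∈ V, (a : G) * v = v * (a : G) := by
      intro g hg v hv
      let _ : CommGroup V := { (inferInstance : Group V) with
        mul_comm := fun x y => Subtype.ext (hVc x x.2 y y.2) }
      by_contra hne
      have hne' : MulAut.conjNormal (H := V) (g : G) ⟨v, hv⟩ * (⟨v, hv⟩ : V)⁻¹ ≠ 1 := by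
        intro h
        rw [mul_inv_eq_one] at h
        have := congrArg Subtype.val h
        rw [MulAut.conjNormal_apply] at this
        exact hne (mul_inv_eq_iff_eq_mul.mp this)
      obtain ⟨f, hf⟩ := CommGroup.exists_apply_ne_one_of_hasEnoughRootsOfUnity V ℂ hne'
      apply hf
      rw [map_mul, map_inv, mul_inv_eq_one]
      by_cases hf1 : f = 1
      · simp [hf1]
      obtain ⟨θ, hθ, hST⟩ := hover f hf1
      have h1 := mem_inertia.mp (Subgroup.mem_subgroupOf.mp (hST ▸ hall θ hθ hg))
      exact Units.ext (congrFun h1 ⟨v, hv⟩)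
    obtain ⟨θ₀, hθ₀, -⟩ := hover l₀ hl₀
    have hQab := (prop s hps hno θ₀ hθ₀).2 Q (hall θ₀ hθ₀)
    have hmove : ∃ x : (P : Subgroup G), ∃ a ∈ (Q : Subgroup H), π' (c (a : G) x) ≠ π' x := by
      by_contra hcon
      push Not at hcon
      -- then `Q` centralises `P`
      have hQP : ∀ a ∈ (Q : Subgroup H), ∀ x ∈ (P : Subgroup G), (a : G) * x = x * (a : G) := by
        intro a ha x hx
        have hw : (a : G) * x * (a : G)⁻¹ * x⁻¹ ∈ V := by
          have h1 : (c (a : G) ⟨x, hx⟩) * (⟨x, hx⟩ : (P : Subgroup G))⁻¹ ∈ V' := by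
            rw [← QuotientGroup.eq_one_iff (N := V')]
            show π' _ = 1
            rw [map_mul, hcon ⟨x, hx⟩ a ha, map_inv, mul_inv_cancel]
          simpa [c, hV'mem, MulAut.conjNormal_apply] using h1
        set w := (a : G) * x * (a : G)⁻¹ * x⁻¹ with hwdef
        have hk : ∀ k : ℕ, (a : G) ^ k * x * ((a : G) ^ k)⁻¹ = w ^ k * x := by
          intro k
          induction k with
          | zero => simp
          | succ k ih =>
            have hak : (a : G) * w ^ k = w ^ k * (a : G) := hQV a ha _ (pow_mem hw k)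
            calc (a : G) ^ (k + 1) * x * ((a : G) ^ (k + 1))⁻¹
                = (a : G) * ((a : G) ^ k * x * ((a : G) ^ k)⁻¹) * (a : G)⁻¹ := by
                  rw [pow_succ']; group
              _ = w ^ k * ((a : G) * x * (a : G)⁻¹) := by rw [ih, ← mul_assoc (a : G), hak]; group
              _ = w ^ (k + 1) * x := by rw [hwdef, pow_succ]; group
        have h1 := hk (orderOf a)
        rw [← Subgroup.coe_pow, pow_orderOf_eq_one, OneMemClass.coe_one, one_mul, inv_one,
          mul_one] at h1
        have h2 : (⟨w, hVP hw⟩ : (P : Subgroup G)) ^ orderOf a = 1 :=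
          Subtype.ext (by simpa using mul_eq_right.mp h1.symm)
        have h3 := congrArg Subtype.val
          (eq_one_of_pow h2 (hcopH.coprime_dvd_right (orderOf_dvd_natCard a)))
        exact mul_inv_eq_iff_eq_mul.mp (mul_inv_eq_one.mp h3)
      set Q' := (Q : Subgroup H).map H.subtype with hQ'
      haveI : Q'.Normal := by
        refine normal_of_normalized hsup ?_ ?_
        · refine Subgroup.le_normalizer_iff.mpr ?_
          rintro x hx _ ⟨g, hg, rfl⟩
          show x * (g : G) * x⁻¹ ∈ Q'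
          rw [← hQP g hg x hx, mul_inv_cancel_right]
          exact ⟨g, hg, rfl⟩
        · refine Subgroup.le_normalizer_iff.mpr ?_
          rintro x hx _ ⟨g, hg, rfl⟩
          exact ⟨⟨x, hx⟩ * g * ⟨x, hx⟩⁻¹, hQn.conj_mem g hg _, rfl⟩
      obtain ⟨χ, hχ⟩ := hds
      refine not_dvd_degree_of_abelian_normal Q' ?_ ?_ χ hχ
      · rintro _ ⟨g, hg, rfl⟩ _ ⟨g', hg', rfl⟩
        exact congrArg (fun z : (Q : Subgroup H) => ((z : H) : G))
          (hQab.is_comm.comm ⟨g, hg⟩ ⟨g', hg'⟩)
      · rw [hQ', Subgroup.index_map_subtype, hs.out.dvd_mul, not_or]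
        refine ⟨Q.not_dvd_index, fun h => hps.symm ?_⟩
        rw [hH.index_eq_card, ha] at h
        exact (Nat.prime_dvd_prime_iff_eq hs.out hp.out).mp (hs.out.dvd_of_dvd_pow h)
    obtain ⟨x, a, ha', hxa⟩ := hmove
    refine ⟨hall, hQV, ⟨x, a, ha', hxa⟩, ?_⟩
    obtain ⟨f, hf⟩ := CommGroup.exists_apply_ne_one_of_hasEnoughRootsOfUnity
      ((P : Subgroup G) ⧸ V') ℂ (show π' (c (a : G) x) * (π' x)⁻¹ ≠ 1 by
        rwa [ne_eq, mul_inv_eq_one])
    refine ⟨f.comp π', fun hle => hf ?_⟩
    rw [map_mul, map_inv, mul_inv_eq_one]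
    exact Units.ext (congrFun (mem_inertia.mp (Subgroup.mem_subgroupOf.mp (hle ha'))) x)
  have hlindeg : ∀ μ : (P : Subgroup G) →* ℂˣ, ∀ β : IrrCharacter
      ((inertia (P : Subgroup G) (linFun μ)).subgroupOf H), ∃ χ : IrrCharacter G,
      charDegree (χ : G → ℂ) = ((inertia (P : Subgroup G) (linFun μ)).subgroupOf H).index *
        charDegree (β : (inertia (P : Subgroup G) (linFun μ)).subgroupOf H → ℂ) := by
    intro μ β
    obtain ⟨χ, hχ⟩ := exists_degree (P : Subgroup G) H hdisj hsup (linIrr μ)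
      (by rw [charDegree_linear]; exact Nat.coprime_one_right _) β
    exact ⟨χ, by rw [hχ, charDegree_linear, mul_one]⟩
  -- the two primes
  by_cases hQ : (∀ Q : Sylow q H, ¬ (Q : Subgroup H).Normal) ∧
      ∀ R : Sylow r H, ¬ (R : Subgroup H).Normal
  · have huq := hfix q hb.hpq hb.npq
    have hur := hfix r hb.hpr hb.npr
    exact hb.nqr (exists_degree_of_surjective π hπ (exists_irr_dvd (t := p) (n := n) hb.hqr hcard
      huq (moves_of_not_normal huq hQ.1) hur (moves_of_not_normal hur hQ.2)))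
  -- both normal
  have hboth : ∀ (Q : Sylow q H) (R : Sylow r H), (Q : Subgroup H).Normal →
      (R : Subgroup H).Normal → False := by
    intro Q R hQn hRn
    obtain ⟨-, -, -, μ, hμ⟩ := hnormal q hb.hpq hb.npq hb.dq Q hQn
    obtain ⟨-, -, -, ν, hν⟩ := hnormal r hb.hpr hb.npr hb.dr R hRn
    have hmul : ∀ (S : Subgroup H) (f g : (P : Subgroup G) →* ℂˣ),
        S ≤ (inertia (P : Subgroup G) (linFun f)).subgroupOf H →
        S ≤ (inertia (P : Subgroup G) (linFun (f * g))).subgroupOf H →
        S ≤ (inertia (P : Subgroup G) (linFun g)).subgroupOf H := by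
      intro S f g hf hfg a ha'
      refine Subgroup.mem_subgroupOf.mpr (mem_inertia.mpr (funext fun x => ?_))
      have h1 := congrFun (mem_inertia.mp (Subgroup.mem_subgroupOf.mp (hf ha'))) x
      have h2 := congrFun (mem_inertia.mp (Subgroup.mem_subgroupOf.mp (hfg ha'))) x
      simp only [conjFun, linFun, MonoidHom.mul_apply, Units.val_mul] at h1 h2 ⊢
      rw [h1] at h2
      exact mul_left_cancel₀ (Units.ne_zero _) h2
    obtain ⟨ρ, hρq, hρr⟩ : ∃ ρ : (P : Subgroup G) →* ℂˣ,
        ¬ (Q : Subgroup H) ≤ (inertia (P : Subgroup G) (linFun ρ)).subgroupOf H ∧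
        ¬ (R : Subgroup H) ≤ (inertia (P : Subgroup G) (linFun ρ)).subgroupOf H := by
      by_cases h1 : (R : Subgroup H) ≤ (inertia (P : Subgroup G) (linFun μ)).subgroupOf H
      · by_cases h2 : (Q : Subgroup H) ≤ (inertia (P : Subgroup G) (linFun ν)).subgroupOf H
        · refine ⟨μ * ν, fun h => hμ (hmul _ ν μ h2 (mul_comm μ ν ▸ h)),
            fun h => hν (hmul _ μ ν h1 h)⟩
        · exact ⟨ν, h2, hν⟩
      · exact ⟨μ, hμ, h1⟩
    obtain ⟨χ, hχ⟩ := hlindeg ρ Char.principalIrr
    refine hb.nqr ⟨χ, hχ ▸ Dvd.dvd.mul_right ?_ _⟩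
    exact ((Nat.coprime_primes hb.hq hb.hr).mpr hb.hqr).mul_dvd_of_dvd_of_dvd
      (by_contra fun h => hρq (normal_sylow_le _ Q hQn h))
      (by_contra fun h => hρr (normal_sylow_le _ R hRn h))
  -- exactly one normal
  have hone : ∀ (x y : ℕ) [Fact x.Prime] [Fact y.Prime], p ≠ x → p ≠ y → x ≠ y →
      ¬ Deg G (p * x) → ¬ Deg G (p * y) → ¬ Deg G (x * y) → Deg G x →
      ∀ Q : Sylow x H, (Q : Subgroup H).Normal →
      (∀ R : Sylow y H, ¬ (R : Subgroup H).Normal) → False := by
    intro x y hx hy hpx hpy hxy hnpx hnpy hnxy hdx Q hQn hRn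
    obtain ⟨hall, hQV, ⟨x₁, a₁, ha₁, hx₁⟩, -⟩ := hnormal x hpx hnpx hdx Q hQn
    haveI := Fintype.ofFinite (Q : Subgroup H)
    -- the fixed points modulo `V`
    let P1 : Subgroup (P : Subgroup G) :=
      { carrier := {z | ∀ b ∈ (Q : Subgroup H), π' (c (b : G) z) = π' z}
        one_mem' := fun b _ => by simp
        mul_mem' := fun {u v} hu hv b hb' => by
          simp only [map_mul, hu b hb', hv b hb']
        inv_mem' := fun {u} hu b hb' => by
          simp only [map_inv, hu b hb'] }
    have hV'P1 : V' ≤ P1 := fun z hz b _ => by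
      have h1 : π' z = 1 := (QuotientGroup.eq_one_iff z).mpr hz
      have h2 : π' (c (b : G) z) = 1 := (QuotientGroup.eq_one_iff _).mpr (hcV _ z hz)
      rw [h1, h2]
    haveI hP1n : P1.Normal := ⟨fun z hz g => by
      have h1 : g * z * g⁻¹ * z⁻¹ ∈ V' := (hV'mem _).mpr (hPc g g.2 z z.2)
      have := mul_mem (hV'P1 h1) hz
      rwa [inv_mul_cancel_right] at this⟩
    -- characters of degree greater than one vanish outside `P1`
    have hvan : ∀ θ : IrrCharacter (P : Subgroup G), charDegree (θ : ↥(P : Subgroup G) → ℂ) ≠ 1 →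
        ∀ z, z ∉ P1 → (θ : ↥(P : Subgroup G) → ℂ) z = 0 := by
      intro θ hθ z hz
      obtain ⟨b, hb', hzb⟩ : ∃ b ∈ (Q : Subgroup H), π' (c (b : G) z) ≠ π' z := by
        by_contra h
        push Not at h
        exact hz h
      obtain ⟨f, hf⟩ := CommGroup.exists_apply_ne_one_of_hasEnoughRootsOfUnity
        ((P : Subgroup G) ⧸ V') ℂ (show π' (c (b : G) z) * (π' z)⁻¹ ≠ 1 by
          rwa [ne_eq, mul_inv_eq_one])
      let θ' : IrrCharacter (P : Subgroup G) :=
        ⟨_, Char.IsIrrCharacter.linear_mul θ.2 (f.comp π')⟩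
      have hθ' : charDegree (θ' : ↥(P : Subgroup G) → ℂ) ≠ 1 := by
        intro h
        apply hθ
        refine Nat.cast_injective (R := ℂ) ?_
        rw [CharTools.irr_degree_cast θ, ← h, CharTools.irr_degree_cast θ']
        simp [θ']
      have h1 := congrFun (mem_inertia.mp (Subgroup.mem_subgroupOf.mp (hall θ hθ hb'))) z
      have h2 := congrFun (mem_inertia.mp (Subgroup.mem_subgroupOf.mp (hall θ' hθ' hb'))) z
      by_contra h0
      apply hf
      rw [map_mul, map_inv, mul_inv_eq_one]
      refine Units.ext (mul_right_cancel₀ h0 ?_)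
      have h1' : (θ : ↥(P : Subgroup G) → ℂ) (c (b : G) z) = (θ : ↥(P : Subgroup G) → ℂ) z := h1
      have h2' : (f (π' (c (b : G) z)) : ℂ) * (θ : ↥(P : Subgroup G) → ℂ) (c (b : G) z) =
        (f (π' z) : ℂ) * (θ : ↥(P : Subgroup G) → ℂ) z := h2
      rwa [h1'] at h2'
    have hcentralizer : ∀ z, z ∉ P1 →
        Nat.card (Subgroup.centralizer ({z} : Set (P : Subgroup G))) = V'.index := by
      intro z hz
      have h1 := Char.sum_mul_conj z z
      rw [if_pos (IsConj.refl z)] at h1
      refine Nat.cast_injective (R := ℂ) ?_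
      rw [← h1, ← hcomm', ← CfsgLib.TwoGroupInvol.card_linear]
      haveI : Finite ((P : Subgroup G) →* ℂˣ) := finite_linear (N := (P : Subgroup G))
      haveI := Fintype.ofFinite ((P : Subgroup G) →* ℂˣ)
      rw [← Finset.sum_filter_add_sum_filter_not Finset.univ
        (fun χ : IrrCharacter (P : Subgroup G) => (χ : ↥(P : Subgroup G) → ℂ) 1 = 1),
        Finset.sum_eq_zero (s := Finset.univ.filter _) (fun χ hχ => ?_) |> fun e => (congrArg
          (HAdd.hAdd _) e), add_zero]
      · rw [Finset.sum_congr rfl (g := fun _ => (1 : ℂ)) (fun χ hχ => ?_), Finset.sum_const,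
          nsmul_eq_mul, mul_one, Nat.card_congr Char.linearCharEquiv, Nat.card_eq_fintype_card,
          Fintype.card_subtype]
        obtain ⟨f, hf⟩ := Char.IsCharacter.exists_linear (Char.IsIrrCharacter.isCharacter χ.2)
          (Finset.mem_filter.mp hχ).2
        rw [hf, CfsgLib.TwoGroupInvol.conj_linear, ← Units.val_mul, ← map_mul, mul_inv_cancel,
          map_one, Units.val_one]
      · rw [hvan χ (fun h => (Finset.mem_filter.mp hχ).2 (by
          rw [← CharTools.irr_degree_cast χ, h, Nat.cast_one])) z hz, zero_mul]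
    -- an element outside `P1` commuting with `P1`
    obtain ⟨g₀, hg₀, hg₀c⟩ : ∃ g₀, g₀ ∉ P1 ∧ ∀ z ∈ P1, g₀ * z = z * g₀ := by
      have hcom : ∀ (g : (P : Subgroup G)) (b : H), b ∈ (Q : Subgroup H) → ∀ z ∈ P1,
          g⁻¹ * c (b : G) g * z = z * (g⁻¹ * c (b : G) g) := by
        intro g b hb' z hz
        have hcentral : ∀ w ∈ V', ∀ u : (P : Subgroup G), w * u = u * w := fun w hw u =>
          Subtype.ext (hcent _ ((hV'mem w).mp hw) _ u.2)
        set w := g * z * g⁻¹ * z⁻¹ with hwdef
        have hw : w ∈ V' := (hV'mem _).mpr (hPc g g.2 z z.2)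
        set u := c (b : G) z * z⁻¹ with hudef
        have hu : u ∈ V' := by
          rw [← QuotientGroup.eq_one_iff (N := V')]
          show π' _ = 1
          rw [hudef, map_mul, hz b hb', map_inv, mul_inv_cancel]
        have hwfix : c (b : G) w = w := by
          refine Subtype.ext ?_
          simp only [c, MulAut.conjNormal_apply]
          rw [hQV b hb' _ ((hV'mem w).mp hw), mul_inv_cancel_right]
        have h1 : c (b : G) (g * z * g⁻¹) = c (b : G) (w * z) := by rw [hwdef]; group
        rw [map_mul, map_mul, map_inv, map_mul, hwfix,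
          show c (b : G) z = u * z by rw [hudef, inv_mul_cancel_right]] at h1
        have h2 : c (b : G) g * z * (c (b : G) g)⁻¹ = g * z * g⁻¹ := by
          rw [← mul_assoc (c (b : G) g), ← hcentral u hu (c (b : G) g)] at h1
          have h3 : u * (c (b : G) g * z * (c (b : G) g)⁻¹) = u * (w * z) := by
            rw [← mul_assoc w u, hcentral w hw u, mul_assoc u w] at h1
            rw [← h1]; group
          rw [mul_left_cancel h3, hwdef]; group
        calc g⁻¹ * c (b : G) g * z
            = g⁻¹ * (c (b : G) g * z * (c (b : G) g)⁻¹) * c (b : G) g := by group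
          _ = g⁻¹ * (g * z * g⁻¹) * c (b : G) g := by rw [h2]
          _ = z * (g⁻¹ * c (b : G) g) := by group
      by_contra hne
      push Not at hne
      have hd : ∀ g : (P : Subgroup G), g⁻¹ * c (a₁ : G) g ∈ P1 := fun g => by
        by_contra h
        obtain ⟨z, hz, hzne⟩ := hne _ h
        exact hzne (hcom g a₁ ha₁ z hz)
      set d := x₁⁻¹ * c (a₁ : G) x₁ with hddef
      apply hx₁
      have hk : ∀ k : ℕ, π' (c ((a₁ : G) ^ k) x₁) = π' x₁ * π' d ^ k := by
        intro k
        induction k with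
        | zero => simp [c]
        | succ k ih =>
          have h1 : c ((a₁ : G) ^ (k + 1)) x₁ = c ((a₁ : G) ^ k) (x₁ * d) := by
            rw [hddef, mul_inv_cancel_left]
            simp only [c, pow_succ, map_mul, MulAut.mul_apply]
          rw [h1, map_mul, map_mul, ih, pow_succ, ← mul_assoc]
          congr 1
          have hmem : a₁ ^ k ∈ (Q : Subgroup H) := pow_mem ha₁ k
          have := hd x₁ (a₁ ^ k) hmem
          rwa [Subgroup.coe_pow] at this
      have h1 := hk (orderOf a₁)
      rw [← Subgroup.coe_pow, pow_orderOf_eq_one, OneMemClass.coe_one] at h1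
      have h2 : π' d ^ orderOf a₁ = 1 := by
        rw [show c (1 : G) x₁ = x₁ by simp [c]] at h1
        exact mul_eq_left.mp h1.symm
      have h3 : π' d = 1 := eq_one_of_pow h2 ((hcopH.coprime_dvd_right
        (orderOf_dvd_natCard a₁)).coprime_dvd_left (Subgroup.card_quotient_dvd_card V'))
      rw [hddef, map_mul, map_inv, inv_mul_eq_one] at h3
      exact h3.symm
    have hlt : Nat.card V' < P1.index := by
      set C := Subgroup.centralizer ({g₀} : Set (P : Subgroup G)) with hC
      have hP1C : P1 ≤ C := fun z hz => Subgroup.mem_centralizer_iff.mpr fun w hw => by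
        rw [Set.mem_singleton_iff.mp hw]; exact hg₀c z hz
      have hg₀C : g₀ ∈ C := Subgroup.mem_centralizer_iff.mpr fun w hw => by
        rw [Set.mem_singleton_iff.mp hw]
      have hCi : C.index = Nat.card V' := Nat.eq_of_mul_eq_mul_left (Nat.card_pos (α := C))
        (by rw [C.card_mul_index, hcentralizer g₀ hg₀, mul_comm, V'.card_mul_index])
      have hne : P1.relIndex C ≠ 1 := fun h => hg₀ (Subgroup.relIndex_eq_one.mp h hg₀C)
      rw [← Subgroup.relIndex_mul_index hP1C, ← hCi]
      have h0 : P1.relIndex C ≠ 0 := Subgroup.index_ne_zero_of_finite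
      exact lt_mul_of_one_lt_left (Nat.pos_of_ne_zero Subgroup.index_ne_zero_of_finite) (by omega)
    -- the linear characters trivial on `P1`
    letI := linAction (P : Subgroup G) H
    let U : AddSubgroup (Additive ((P : Subgroup G) →* ℂˣ)) :=
      { carrier := {l | ∀ z ∈ P1, l.toMul z = 1}
        zero_mem' := fun z _ => rfl
        add_mem' := fun {u v} hu hv z hz => by
          show u.toMul z * v.toMul z = 1
          rw [hu z hz, hv z hz, one_mul]
        neg_mem' := fun {u} hu z hz => by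
          show (u.toMul z)⁻¹ = 1
          rw [hu z hz, inv_one] }
    have hP1inv : ∀ (h : H) (z : (P : Subgroup G)), z ∈ P1 → c (h : G) z ∈ P1 := by
      intro h z hz b hb'
      have hb'' : h⁻¹ * b * h⁻¹⁻¹ ∈ (Q : Subgroup H) := hQn.conj_mem b hb' h⁻¹
      have h1 : c (b : G) (c (h : G) z) = c (h : G) (c ((h⁻¹ * b * h⁻¹⁻¹ : H) : G) z) := by
        refine Subtype.ext ?_
        simp [c, MulAut.conjNormal_apply, mul_assoc]
      rw [h1]
      have h2 := hz _ hb''
      refine (QuotientGroup.eq (s := V')).mpr ?_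
      rw [← map_inv, ← map_mul]
      exact hcV _ _ ((QuotientGroup.eq (s := V')).mp h2)
    have hUinv : ∀ (h : H), ∀ l ∈ U, h • l ∈ U := fun h l hl z hz => by
      refine hl _ ?_
      exact (Subgroup.coe_inv H h) ▸ hP1inv h⁻¹ z hz
    letI : DistribMulAction H U :=
      { smul := fun h l => ⟨h • l.1, hUinv h l.1 l.2⟩
        one_smul := fun l => Subtype.ext (one_smul H l.1)
        mul_smul := fun g h l => Subtype.ext (mul_smul g h l.1)
        smul_zero := fun h => Subtype.ext rfl
        smul_add := fun h u v => Subtype.ext rfl }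
    haveI : Finite (Additive ((P : Subgroup G) →* ℂˣ)) := finite_linear (N := (P : Subgroup G))
    let _ : CommGroup ((P : Subgroup G) ⧸ P1) :=
      { (inferInstance : Group ((P : Subgroup G) ⧸ P1)) with
        mul_comm := fun u v => by
          obtain ⟨s, rfl⟩ := QuotientGroup.mk'_surjective P1 u
          obtain ⟨t, rfl⟩ := QuotientGroup.mk'_surjective P1 v
          rw [← map_mul, ← map_mul]
          exact (QuotientGroup.eq (s := P1)).mpr
            (hV'P1 ((QuotientGroup.eq (s := V')).mp (hV'comm s t))) }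
    have hUcard : Nat.card U = P1.index := by
      let e : U ≃ ((P : Subgroup G) ⧸ P1 →* ℂˣ) :=
        { toFun := fun l => QuotientGroup.lift P1 l.1.toMul fun z hz =>
            MonoidHom.mem_ker.mpr (l.2 z hz)
          invFun := fun m => ⟨Additive.ofMul (m.comp (QuotientGroup.mk' P1)), fun z hz => by
            show m (QuotientGroup.mk' P1 z) = 1
            rw [QuotientGroup.mk'_apply, (QuotientGroup.eq_one_iff z).mpr hz, map_one]⟩
          left_inv := fun l => Subtype.ext rfl
          right_inv := fun m => MonoidHom.ext fun v => by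
            induction v using QuotientGroup.induction_on with
            | H v => rfl }
      rw [Nat.card_congr e, CommGroup.card_monoidHom_of_hasEnoughRootsOfUnity, Subgroup.index]
    obtain ⟨m, -, hm⟩ : ∃ m, m ≤ a ∧ Nat.card U = p ^ m :=
      (Nat.dvd_prime_pow hp.out).mp (hUcard ▸ ha ▸ P1.index_dvd_card)
    have hVn : Nat.card V' = p ^ n :=
      (Nat.card_congr (Subgroup.subgroupOfEquivOfLe hVP).toEquiv).trans hVt
    have hm0 : 0 < m := Nat.pos_of_ne_zero fun h => by
      rw [← hUcard, hm, h, pow_zero] at hlt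
      have := Nat.card_pos (α := V')
      omega
    -- non-trivial ones are moved by `Q`
    have hUmove : ∀ l : U, l ≠ 0 → ¬ (Q : Subgroup H) ≤
        (inertia (P : Subgroup G) (linFun l.1.toMul)).subgroupOf H := by
      intro l hl hle
      apply hl
      suffices h1 : ∀ z, l.1.toMul z = 1 from Subtype.ext
        (congrArg Additive.ofMul (MonoidHom.ext h1 : l.1.toMul = 1))
      intro z
      let lb : (P : Subgroup G) ⧸ V' →* ℂˣ := QuotientGroup.lift V' l.1.toMul fun w hw =>
        MonoidHom.mem_ker.mpr (l.2 w (hV'P1 hw))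
      set w := ∏ b : (Q : Subgroup H), π' (c ((b : H) : G) z) with hw
      obtain ⟨y, hy⟩ := QuotientGroup.mk'_surjective V' w
      have hyP1 : y ∈ P1 := by
        intro b hb'
        let ψ : (P : Subgroup G) ⧸ V' →* (P : Subgroup G) ⧸ V' :=
          QuotientGroup.map V' V' (c (b : G)).toMonoidHom fun u hu => hcV _ u hu
        have h1 : ψ w = w := by
          rw [hw, map_prod]
          refine Fintype.prod_equiv (Equiv.mulLeft (⟨b, hb'⟩ : (Q : Subgroup H))) _ _ fun u => ?_
          show π' (c (b : G) (c ((u : H) : G) z)) = π' (c (((b * u : H)) : G) z)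
          simp [c, map_mul]
        rw [← hy] at h1
        exact h1
      have h2 : lb w = 1 := by rw [← hy]; exact l.2 y hyP1
      rw [hw, map_prod, Finset.prod_congr rfl (g := fun _ => l.1.toMul z) (fun b _ => ?_),
        Finset.prod_const, Finset.card_univ, ← Nat.card_eq_fintype_card] at h2
      · have h3 : l.1.toMul z ^ Nat.card (P : Subgroup G) = 1 := by
          rw [← map_pow, pow_card_eq_one', map_one]
        exact orderOf_eq_one_iff.mp (Nat.eq_one_of_dvd_coprimes
          (hcopH.coprime_dvd_right (Subgroup.card_subgroup_dvd_card (Q : Subgroup H)))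
          (orderOf_dvd_of_pow_eq_one h3) (orderOf_dvd_of_pow_eq_one h2))
      · exact Units.ext (congrFun (mem_inertia.mp (Subgroup.mem_subgroupOf.mp (hle b.2))) z)
    have hu : FixedByUnique y H U := by
      intro w hw
      have hxi : x ∣ ((inertia (P : Subgroup G) (linFun w.1.toMul)).subgroupOf H).index := by
        by_contra h
        exact hUmove w hw (normal_sylow_le _ Q hQn h)
      obtain ⟨R, hR, huniq⟩ := (sylow_in_inertia (P : Subgroup G) H hdisj hsup (linIrr w.1.toMul)
        (hθcop _) hx.out hxy (fun χ h => hnxy ⟨χ, h⟩) (hxi.mul_right _)).1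
      exact ⟨R, fun g hg => Subtype.ext ((fixes_iff (P : Subgroup G) H R w.1).mpr hR g hg),
        fun R' hR' => huniq R' ((fixes_iff (P : Subgroup G) H R' w.1).mp
          fun g hg => congrArg Subtype.val (hR' g hg))⟩
    obtain ⟨b, hb0, -, hbk, -⟩ := exists_fixed_count (t := p) hn hcard (hfix y hpy hnpy)
    obtain ⟨b', hb0', -, hbk', -⟩ := exists_fixed_count (t := p) hm0 hm hu
    have hk1 : 1 < Nat.card (Sylow y H) := by
      rw [Finite.one_lt_card_iff_nontrivial, ← not_subsingleton_iff_nontrivial]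
      intro hs
      obtain ⟨R⟩ : Nonempty (Sylow y H) := inferInstance
      exact hRn R (Sylow.normal_of_subsingleton R)
    have hnm := exponent_eq hp.out hk1 hb0 hb0' hbk hbk'
    rw [← hUcard, hm, hVn, hnm] at hlt
    exact lt_irrefl _ hlt
  push Not at hQ
  by_cases hQn : ∃ Q : Sylow q H, (Q : Subgroup H).Normal
  · obtain ⟨Q, hQn⟩ := hQn
    by_cases hRn : ∃ R : Sylow r H, (R : Subgroup H).Normal
    · obtain ⟨R, hRn⟩ := hRn
      exact hboth Q R hQn hRn
    · push Not at hRn
      exact hone q r hb.hpq hb.hpr hb.hqr hb.npq hb.npr hb.nqr hb.dq Q hQn hRn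
  · push Not at hQn
    obtain ⟨R, hRn⟩ := hQ hQn
    exact hone r q hb.hpr hb.hpq hb.hqr.symm hb.npr hb.npq
      (mul_comm q r ▸ hb.nqr) hb.dr R hRn hQn

/-- The reduction to a minimal normal subgroup and a prime missing in the quotient. -/
theorem false_of_quotient {p q r : ℕ} (hb : Bad G p q r) (V : Subgroup G) [V.Normal]
    (hV0 : V ≠ ⊥) (hVmin : ∀ M : Subgroup G, M.Normal → M ≤ V → M = ⊥ ∨ M = V)
    (hq : ¬ Deg (G ⧸ V) p) : False := by
  classical
  haveI hp : Fact p.Prime := ⟨hb.hp⟩
  obtain ⟨hc, t, ht, hVt⟩ := CfsgLib.Solvable.minimal_normal_elementary_abelian V hV0 hVmin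
  haveI : Fact t.Prime := ⟨ht⟩
  have hVp : IsPGroup t V := fun v => ⟨1, Subtype.ext (by simpa using hVt v v.2)⟩
  obtain ⟨n, hn⟩ := IsPGroup.iff_card.mp hVp
  have hn0 : 0 < n := Nat.pos_of_ne_zero fun h =>
    hV0 (Subgroup.eq_bot_of_card_eq _ (by rw [hn, h, pow_zero]))
  have hVc : ∀ x ∈ V, ∀ y ∈ V, x * y = y * x := fun x hx y hy =>
    congrArg Subtype.val (hc.is_comm.comm (⟨x, hx⟩ : V) ⟨y, hy⟩)
  obtain ⟨P⟩ : Nonempty (Sylow p G) := inferInstance
  let π := QuotientGroup.mk' V
  have hπ : Function.Surjective π := QuotientGroup.mk'_surjective V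
  haveI : Group.IsSolvable (G ⧸ V) := Group.isSolvable_of_surjective hπ
  obtain ⟨hPbn, hPbc⟩ := Blk83.normal_abelian_sylow_of_degrees
    (ThompsonFactor.isPSolvable_of_isSolvable inferInstance) (fun χ h => hq ⟨χ, h⟩)
    (P.mapSurjective hπ)
  have hPV : ((P : Subgroup G) ⊔ V).Normal := by
    have h1 := Subgroup.Normal.comap hPbn π
    rwa [Sylow.coe_mapSurjective, Subgroup.comap_map_eq, QuotientGroup.ker_mk'] at h1
  have hPc : ∀ a ∈ (P : Subgroup G), ∀ b ∈ (P : Subgroup G), a * b * a⁻¹ * b⁻¹ ∈ V := by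
    intro a ha b hb'
    rw [← QuotientGroup.eq_one_iff]
    show π (a * b * a⁻¹ * b⁻¹) = 1
    have h1 : π a * π b = π b * π a := congrArg Subtype.val
      (hPbc.is_comm.comm ⟨π a, ⟨a, ha, rfl⟩⟩ ⟨π b, ⟨b, hb', rfl⟩⟩)
    rw [map_mul, map_mul, map_mul, map_inv, map_inv, h1]
    group
  rcases eq_or_ne t p with rfl | htp
  · have hVP : V ≤ (P : Subgroup G) :=
      (CfsgLib.Solvable.le_pCore inferInstance hVp).trans (CfsgLib.Solvable.pCore_le_sylow P)
    rw [sup_eq_left.mpr hVP] at hPV
    haveI := hPV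
    exact caseNormal hb hn0 V hVc hn hVmin P hVP hPc
  · exact caseCoprime hb htp hn0 V hVc hn hVmin P hPV hPc

omit [Group G] [Finite G] [Group.IsSolvable G] in
/-- No finite solvable group is bad. -/
theorem not_bad (n : ℕ) : ∀ (G : Type u) [Group G] [Finite G] [Group.IsSolvable G] (p q r : ℕ),
    Nat.card G = n → ¬ Bad G p q r := by
  induction n using Nat.strong_induction_on with
  | _ n ih =>
  intro G _ _ _ p q r hn hb
  have hne : (⊤ : Subgroup G) ≠ ⊥ := by
    intro h
    obtain ⟨χ, hχ⟩ := hb.dp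
    have h1 := hχ.trans (CharTools.degree_dvd_card χ)
    rw [← Subgroup.card_top, h, Subgroup.card_bot] at h1
    exact hb.hp.not_dvd_one h1
  obtain ⟨V, hVn, hV0, -, hVmin⟩ := CfsgLib.Solvable.exists_minimal_normal_le ⊤ hne
  haveI := hVn
  haveI : Group.IsSolvable (G ⧸ V) :=
    Group.isSolvable_of_surjective (QuotientGroup.mk'_surjective V)
  have hlift : ∀ m, Deg (G ⧸ V) m → Deg G m := fun m h =>
    exists_degree_of_surjective _ (QuotientGroup.mk'_surjective V) h
  have hlt : Nat.card (G ⧸ V) < n := by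
    rw [← hn, Subgroup.card_eq_card_quotient_mul_card_subgroup V]
    exact lt_mul_right Nat.card_pos (Finite.one_lt_card_iff_nontrivial.mpr
      ((Subgroup.nontrivial_iff_ne_bot V).mpr hV0))
  by_cases h1 : Deg (G ⧸ V) p
  · by_cases h2 : Deg (G ⧸ V) q
    · by_cases h3 : Deg (G ⧸ V) r
      · exact ih _ hlt (G ⧸ V) p q r rfl ⟨hb.hp, hb.hq, hb.hr, hb.hpq, hb.hqr, hb.hpr, h1, h2, h3,
          fun h => hb.npq (hlift _ h), fun h => hb.nqr (hlift _ h), fun h => hb.npr (hlift _ h)⟩
      · exact false_of_quotient hb.rotate.rotate V hV0 hVmin h3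
    · exact false_of_quotient hb.rotate V hV0 hVmin h2
  · exact false_of_quotient hb V hV0 hVmin h1

end CfsgLib.RealChar.Palfy
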