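import Cfsg.Agent.Lib.Blk83.PrincipalKernel
import Cfsg.Agent.Lib.BlockReg.Height
import Cfsg.Agent.Lib.Char.Linear
import Cfsg.Agent.Lib.Char.Virtual
import Cfsg.Agent.Lib.Char.Integral
import Cfsg.Agent.Lib.Char.Complete
import Cfsg.Agent.Lib.Transfer.Tate
import Mathlib.GroupTheory.FiniteAbelian.Duality

/-!
# Characters of `p'`-degree in the principal block above linear characters of a Sylow subgroup
-/

set_option linter.style.haveILetI false

namespace CfsgLib.RealChar

open Cfsg
open scoped ComplexConjugate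

attribute [local instance high] Fintype.ofFinite

variable {G : Type*} [Group G] [Finite G] {p : ℕ} [hp : Fact p.Prime] {M : Ideal AlgInt}

theorem minExp_principal (hM : IsPModular p M) :
    CfsgLib.BlockReg.minExp p (principalBlock M G) = 0 := by
  refine Nat.eq_zero_of_le_zero (Nat.sInf_le ⟨_, CfsgLib.Blk83.principal_mem hM, ?_⟩)
  simp [charDegree, CfsgLib.Char.principalIrr_apply]

/-- Every linear character of a Sylow subgroup lies below some character of degree prime to `p` in
the principal block. -/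
theorem exists_pdeg_above (hM : IsPModular p M) (P : Sylow p G) (lam : (P : Subgroup G) →* ℂˣ) :
    ∃ χ : IrrCharacter G, χ ∈ principalBlock M G ∧ ¬ p ∣ charDegree (χ : G → ℂ) ∧
      classInner (fun u : (P : Subgroup G) => (χ : G → ℂ) u) (fun u => (lam u : ℂ)) ≠ 0 := by
  classical
  set B := principalBlock M G with hB
  have hB' : IsPBlock M B := CfsgLib.Blk83.principalBlock_isPBlock
  have hnat : ∀ χ : IrrCharacter G, ∃ k : ℕ,
      classInner (fun u : (P : Subgroup G) => (χ : G → ℂ) u) (fun u => (lam u : ℂ)) = k := fun χ =>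
    CfsgLib.Char.IsCharacter.exists_nat_classInner
      (CfsgLib.Char.IsCharacter.restrict (CfsgLib.Char.IsIrrCharacter.isCharacter χ.2) _)
      (CfsgLib.Char.isIrrCharacter_linear lam)
  choose k hk using hnat
  set S : ℕ := ∑ χ ∈ B.toFinset, charDegree (χ : G → ℂ) * k χ with hS
  set T : ℕ := ∑ χ ∈ B.toFinset, charDegree (χ : G → ℂ) ^ 2 with hT
  have hTf : T.factorization p = (Nat.card G).factorization p := by
    have h := CfsgLib.BlockReg.factorization_sum_sq hM hB'
    rw [finsum_mem_eq_toFinset_sum, hB, minExp_principal hM, add_zero] at h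
    exact h
  have hprod : (S : ℂ) * (Nat.card (P : Subgroup G) : ℂ) = (T : ℂ) := by
    rw [hS, hT, Nat.cast_sum, Nat.cast_sum, Finset.sum_mul]
    calc ∑ χ ∈ B.toFinset, ((charDegree (χ : G → ℂ) * k χ : ℕ) : ℂ) * (Nat.card (P : Subgroup G) : ℂ)
        = ∑ χ ∈ B.toFinset, ∑ u : (P : Subgroup G),
            (charDegree (χ : G → ℂ) : ℂ) * ((χ : G → ℂ) u * conj ((lam u : ℂ))) := by
          refine Finset.sum_congr rfl fun χ _ => ?_
          rw [Nat.cast_mul, ← hk, ← Finset.mul_sum, classInner, mul_assoc]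
          congr 1
          rw [mul_comm (Nat.card _ : ℂ)⁻¹, mul_assoc, inv_mul_cancel₀
            (Nat.cast_ne_zero.mpr Nat.card_pos.ne'), mul_one]
      _ = ∑ u : (P : Subgroup G), (∑ χ ∈ B.toFinset,
            (charDegree (χ : G → ℂ) : ℂ) * (χ : G → ℂ) u) * conj ((lam u : ℂ)) := by
          rw [Finset.sum_comm]
          refine Finset.sum_congr rfl fun u _ => ?_
          rw [Finset.sum_mul]
          exact Finset.sum_congr rfl fun χ _ => by ring
      _ = _ := by
          rw [Finset.sum_eq_single (1 : (P : Subgroup G))]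
          · rw [map_one, Units.val_one, map_one, mul_one, OneMemClass.coe_one]
            exact Finset.sum_congr rfl fun χ _ => by rw [CfsgLib.Blk83.one_eq, sq, Nat.cast_mul]
          · intro u _ hu
            have hord : p ∣ orderOf ((u : G)⁻¹) := by
              rw [orderOf_inv, Subgroup.orderOf_coe]
              obtain ⟨i, hi⟩ := IsPGroup.iff_orderOf.mp P.isPGroup' u
              rcases i with _ | i
              · rw [pow_zero, orderOf_eq_one_iff] at hi
                exact absurd hi hu
              · exact hi ▸ dvd_pow_self p i.succ_ne_zero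
            have h0 := CfsgLib.BlockReg.block_orthogonality hM hB' 1 ((u : G)⁻¹)
              (by simp [hp.out.ne_one]) hord
            rw [finsum_mem_eq_toFinset_sum] at h0
            rw [Finset.sum_congr rfl fun (χ : IrrCharacter G) _ => show (charDegree (χ : G → ℂ) : ℂ) * (χ : G → ℂ) u =
              (χ : G → ℂ) 1 * conj ((χ : G → ℂ) (u : G)⁻¹) by
                rw [CfsgLib.Blk83.one_eq, CfsgLib.Char.IsIrrCharacter.apply_inv χ.2,
                  Complex.conj_conj], h0, zero_mul]
          · exact fun h => absurd (Finset.mem_univ _) h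
  have hprod' : S * Nat.card (P : Subgroup G) = T := by exact_mod_cast hprod
  have hT0 : T ≠ 0 := by
    rw [hT]
    refine (Finset.sum_pos (fun χ _ => pow_pos (CfsgLib.Blk83.deg_pos χ) 2)
      ⟨_, Set.mem_toFinset.mpr (CfsgLib.Blk83.principal_mem hM)⟩).ne'
  have hSnd : ¬ p ∣ S := by
    intro hd
    obtain ⟨s, hs'⟩ := hd
    rw [hs'] at hprod'
    have hs : s ≠ 0 := by
      rintro rfl
      rw [mul_zero, zero_mul] at hprod'
      exact hT0 hprod'.symm
    rw [← hprod', P.card_eq_multiplicity, Nat.factorization_mul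
      (mul_ne_zero hp.out.ne_zero hs) (pow_ne_zero _ hp.out.ne_zero),
      Nat.factorization_mul hp.out.ne_zero hs, hp.out.factorization_pow, hp.out.factorization] at hTf
    simp only [Finsupp.add_apply, Finsupp.single_eq_same] at hTf
    omega
  obtain ⟨χ, hχ, hχd⟩ : ∃ χ ∈ B.toFinset, ¬ p ∣ charDegree (χ : G → ℂ) * k χ := by
    by_contra hcon
    push Not at hcon
    exact hSnd (Finset.dvd_sum hcon)
  refine ⟨χ, Set.mem_toFinset.mp hχ, fun h => hχd (h.mul_right _), ?_⟩
  rw [hk χ]
  intro h0
  rw [Nat.cast_eq_zero.mp h0, mul_zero] at hχd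
  exact hχd (dvd_zero p)

/-- If a linear character of a Sylow subgroup lies below a linear character, it extends to it. -/
theorem eq_of_classInner_linear_ne_zero (P : Subgroup G) (lam : P →* ℂˣ) (μ : G →* ℂˣ)
    (h : classInner (fun u : P => (μ (u : G) : ℂ)) (fun u => (lam u : ℂ)) ≠ 0) (u : P) :
    μ (u : G) = lam u :=
  Units.ext (congrFun (CfsgLib.Char.eq_of_classInner_ne_zero
    (CfsgLib.Char.isIrrCharacter_linear (μ.comp P.subtype))
    (CfsgLib.Char.isIrrCharacter_linear lam) h) u)

/-- An element killed by every linear character lies in the derived subgroup. -/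
theorem mem_commutator_of_forall_linear {H : Type*} [Group H] [Finite H] {u : H}
    (h : ∀ f : H →* ℂˣ, f u = 1) : u ∈ commutator H := by
  by_contra hu
  have hne : Abelianization.of u ≠ 1 := fun h1 => hu (by
    rw [← Abelianization.ker_of]
    exact h1)
  obtain ⟨φ, hφ⟩ := CommGroup.exists_apply_ne_one_of_hasEnoughRootsOfUnity (Abelianization H) ℂ hne
  exact hφ (h (φ.comp Abelianization.of))

/-- Only the principal character has `p'`-degree in the principal block iff `p ∤ |G|`. -/
theorem principal_only_pdeg_iff (hM : IsPModular p M) :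
    (∀ χ : IrrCharacter G, χ ∈ principalBlock M G → ¬ p ∣ charDegree (χ : G → ℂ) →
      (χ : G → ℂ) = fun _ => (1 : ℂ)) ↔ ¬ p ∣ Nat.card G := by
  classical
  constructor
  · intro h hd
    obtain ⟨P⟩ : Nonempty (Sylow p G) := inferInstance
    obtain ⟨g, hg⟩ := exists_prime_orderOf_dvd_card' p (G := (P : Subgroup G))
      (P.dvd_card_of_dvd_card hd)
    haveI : Nontrivial (P : Subgroup G) := ⟨⟨g, 1, fun he => hp.out.ne_one
      (hg ▸ orderOf_eq_one_iff.mpr he)⟩⟩
    haveI : Group.IsNilpotent (P : Subgroup G) := P.isPGroup'.isNilpotent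
    obtain ⟨u, hu⟩ : ∃ u : (P : Subgroup G), u ∉ commutator (P : Subgroup G) := by
      by_contra hc
      push Not at hc
      exact (IsSolvable.commutator_lt_top_of_nontrivial (P : Subgroup G)).ne
        ((Subgroup.eq_top_iff' _).mpr hc)
    obtain ⟨lam, hlam⟩ : ∃ lam : (P : Subgroup G) →* ℂˣ, lam u ≠ 1 := by
      by_contra hc
      push Not at hc
      exact hu (mem_commutator_of_forall_linear hc)
    obtain ⟨χ, hχ, hχd, hne⟩ := exists_pdeg_above hM P lam
    rw [h χ hχ hχd] at hne
    refine hlam ?_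
    rw [← eq_of_classInner_linear_ne_zero _ lam 1 hne u, MonoidHom.one_apply]
  · intro hd χ hχ _
    have h := (CfsgLib.Blk83.mem_principalBlock_iff p hM χ).mp hχ
    by_contra hne
    apply h
    rw [CfsgLib.Blk83.regMult]
    have h0 := CfsgLib.Char.classInner_irr_of_ne χ.2 CfsgLib.Char.isIrrCharacter_principal
      (fun he => hne he)
    rw [classInner] at h0
    simp only [map_one, mul_one] at h0
    rw [mul_assoc, Finset.sum_congr rfl fun g _ => show pRegularPart p (χ : G → ℂ) g = (χ : G → ℂ) g
      from by simp [pRegularPart, IsPRegular, show ¬ p ∣ orderOf g from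
        fun h' => hd (h'.trans (orderOf_dvd_natCard g))], h0, mul_zero]

/-- All height zero characters of the principal block have one degree iff the group is
`p`-nilpotent. -/
theorem principal_equal_degrees_iff (hM : IsPModular p M) :
    (∃ d : ℕ, ∀ χ : IrrCharacter G, χ ∈ principalBlock M G →
      blockHeight p (principalBlock M G) (χ : G → ℂ) = 0 → charDegree (χ : G → ℂ) = d) ↔
      HasNormalPComplement p G := by
  classical
  have hheight : ∀ χ : IrrCharacter G, blockHeight p (principalBlock M G) (χ : G → ℂ) = 0 ↔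
      ¬ p ∣ charDegree (χ : G → ℂ) := fun χ => by
    rw [blockHeight, show sInf _ = CfsgLib.BlockReg.minExp p (principalBlock M G) from rfl,
      minExp_principal hM, Nat.sub_zero]
    refine ⟨fun h hd => ?_, Nat.factorization_eq_zero_of_not_dvd⟩
    exact (hp.out.factorization_pos_of_dvd (CfsgLib.Blk83.deg_pos χ).ne' hd).ne' h
  constructor
  · rintro ⟨d, hd⟩
    have hd1 : d = 1 := by
      rw [← hd _ (CfsgLib.Blk83.principal_mem hM) ((hheight _).mpr
        (by simp [charDegree, hp.out.ne_one]))]
      simp [charDegree]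
    subst hd1
    obtain ⟨P⟩ : Nonempty (Sylow p G) := inferInstance
    let N : Subgroup G :=
      { carrier := {g | ∃ k : ℕ, ¬ p ∣ k ∧ Abelianization.of g ^ k = 1}
        one_mem' := ⟨1, by simp [hp.out.ne_one], by simp⟩
        mul_mem' := fun {a b} ⟨k, hk, ha⟩ ⟨l, hl, hb⟩ => ⟨k * l,
          fun h => (hp.out.dvd_mul.mp h).elim hk hl, by
            rw [map_mul, mul_pow, pow_mul, ha, one_pow, one_mul, mul_comm k l, pow_mul, hb,
              one_pow]⟩
        inv_mem' := fun {a} ⟨k, hk, ha⟩ => ⟨k, hk, by rw [map_inv, inv_pow, ha, inv_one]⟩ }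
    haveI hNn : N.Normal := ⟨fun a ⟨k, hk, ha⟩ g => ⟨k, hk, by
      rw [map_mul, map_mul, map_inv, mul_comm (Abelianization.of g), mul_inv_cancel_right, ha]⟩⟩
    have hNP : N ⊓ (P : Subgroup G) ≤
        (commutator (P : Subgroup G)).map (P : Subgroup G).subtype := by
      rintro u ⟨⟨k, hk, hu⟩, huP⟩
      refine ⟨⟨u, huP⟩, mem_commutator_of_forall_linear fun lam => ?_, rfl⟩
      obtain ⟨χ, hχ, hχd, hne⟩ := exists_pdeg_above hM P lam
      have h1 : (χ : G → ℂ) 1 = 1 := by
        rw [CfsgLib.Blk83.one_eq, hd χ hχ ((hheight χ).mpr hχd), Nat.cast_one]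
      obtain ⟨μ, hμ⟩ := CfsgLib.Char.IsCharacter.exists_linear
        (CfsgLib.Char.IsIrrCharacter.isCharacter χ.2) h1
      rw [show (χ : G → ℂ) = fun g => (μ g : ℂ) from funext hμ] at hne
      rw [← eq_of_classInner_linear_ne_zero _ lam μ hne ⟨u, huP⟩]
      have hμu : μ u ^ k = 1 := by
        have := congrArg (Abelianization.lift μ) hu
        rwa [map_pow, Abelianization.lift_apply_of, map_one] at this
      obtain ⟨i, hi⟩ := IsPGroup.iff_orderOf.mp P.isPGroup' ⟨u, huP⟩
      have hμp : μ u ^ p ^ i = 1 := by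
        rw [← map_pow, ← hi, ← Subgroup.orderOf_coe, pow_orderOf_eq_one, map_one]
      have := Nat.dvd_gcd (orderOf_dvd_of_pow_eq_one hμu) (orderOf_dvd_of_pow_eq_one hμp)
      rw [((hp.out.coprime_iff_not_dvd.mpr hk).symm.pow_right i).gcd_eq_one, Nat.dvd_one] at this
      exact orderOf_eq_one_iff.mp this
    have hfrat : commutator (P : Subgroup G) ≤ frattini (P : Subgroup G) := by
      haveI : Group.IsNilpotent (P : Subgroup G) := P.isPGroup'.isNilpotent
      refine le_iInf₂ fun Mx hMx => ?_
      haveI : Mx.Normal := Subgroup.NormalizerCondition.normal_of_coatom _ Group.normalizerCondition_of_isNilpotent hMx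
      obtain ⟨a, ha⟩ : ∃ a, a ∉ Mx := by
        by_contra hc
        push Not at hc
        exact hMx.1 ((Subgroup.eq_top_iff' _).mpr hc)
      have hgen : ∀ g : (P : Subgroup G), g ∈ Mx ⊔ Subgroup.zpowers a := fun g => by
        rw [hMx.2 _ (lt_of_le_of_ne le_sup_left fun h => ha (h ▸
          (le_sup_right : Subgroup.zpowers a ≤ _) (Subgroup.mem_zpowers a)))]
        exact Subgroup.mem_top g
      haveI : IsCyclic ((P : Subgroup G) ⧸ Mx) := ⟨⟨QuotientGroup.mk a, fun q => by
        obtain ⟨g, rfl⟩ := QuotientGroup.mk_surjective q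
        have : g ∈ ((Mx ⊔ Subgroup.zpowers a : Subgroup _) : Set (P : Subgroup G)) := hgen g
        rw [Subgroup.normal_mul] at this
        obtain ⟨m, hm, z, ⟨j, rfl⟩, rfl⟩ := this
        refine ⟨j, ?_⟩
        change (QuotientGroup.mk a : _ ⧸ Mx) ^ j = QuotientGroup.mk (m * a ^ j)
        rw [QuotientGroup.mk_mul, (QuotientGroup.eq_one_iff m).mpr hm, one_mul,
          QuotientGroup.mk_zpow]⟩⟩
      letI : CommGroup ((P : Subgroup G) ⧸ Mx) := IsCyclic.commGroup
      intro x hx
      have := Abelianization.commutator_subset_ker (QuotientGroup.mk' Mx) hx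
      rwa [QuotientGroup.ker_mk'] at this
    obtain ⟨S, K, hKn, hKc⟩ := CfsgLib.Transfer.hasNormalPComplement_of_inf_le_frattini P N
      (hNP.trans (Subgroup.map_mono hfrat))
    haveI := hKn
    have hKp : ¬ p ∣ Nat.card K := by
      rw [← hKc.index_eq_card]
      exact S.not_dvd_index
    obtain ⟨i, hi⟩ := IsPGroup.iff_card.mp S.isPGroup'
    have hKidx : K.index = p ^ i := hKc.symm.index_eq_card.trans hi
    have hKiff := CfsgLib.Blk83.isPRegular_iff_mem K hKp hKidx
    let K₁ : Subgroup G := K.map N.subtype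
    haveI hK₁ : K₁.Normal := ⟨by
      rintro _ ⟨x, hx, rfl⟩ g
      refine ⟨⟨g * (x : G) * g⁻¹, hNn.conj_mem x x.2 g⟩, (hKiff _).mp ?_, rfl⟩
      have hx' := (hKiff x).mpr hx
      rw [IsPRegular, ← Subgroup.orderOf_coe] at hx' ⊢
      rwa [show orderOf (g * (x : G) * g⁻¹) = orderOf (x : G) from
        orderOf_injective (MulAut.conj g).toMonoidHom (MulAut.conj g).injective _]⟩
    have hcardK : Nat.card K₁ = Nat.card K :=
      Subgroup.card_map_of_injective N.subtype_injective
    refine ⟨P, K₁, hK₁, Subgroup.isComplement'_of_coprime ?_ ?_⟩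
    · -- the index is a power of `p`
      have hpg : IsPGroup p (G ⧸ K₁) := by
        refine IsPGroup.iff_orderOf.mpr fun q => ?_
        obtain ⟨g, rfl⟩ := QuotientGroup.mk_surjective q
        set n := orderOf (QuotientGroup.mk g : G ⧸ K₁) with hn
        obtain ⟨e, r, hr, he⟩ := Nat.exists_eq_pow_mul_and_not_dvd
          (orderOf_pos (QuotientGroup.mk g : G ⧸ K₁)).ne' p hp.out.ne_one
        rw [← hn] at he
        have hyr : (g ^ p ^ e) ^ r ∈ K₁ := by
          rw [← QuotientGroup.eq_one_iff, QuotientGroup.mk_pow, QuotientGroup.mk_pow, ← pow_mul,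
            ← he]
          exact pow_orderOf_eq_one _
        obtain ⟨x, hxK, hx⟩ := hyr
        change (x : G) = (g ^ p ^ e) ^ r at hx
        have hgN : g ^ p ^ e ∈ N := by
          obtain ⟨k, hk, hxk⟩ := x.2
          rw [hx, map_pow, ← pow_mul] at hxk
          exact ⟨r * k, fun h => (hp.out.dvd_mul.mp h).elim hr hk, hxk⟩
        set y : N := ⟨g ^ p ^ e, hgN⟩ with hy
        have h1 : (QuotientGroup.mk y : N ⧸ K) ^ r = 1 := by
          rw [← QuotientGroup.mk_pow, show y ^ r = x from Subtype.ext hx.symm,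
            QuotientGroup.eq_one_iff]
          exact hxK
        have h2 : (QuotientGroup.mk y : N ⧸ K) ^ p ^ i = 1 := by
          rw [← hKidx, Subgroup.index_eq_card, pow_card_eq_one']
        have h3 := Nat.dvd_gcd (orderOf_dvd_of_pow_eq_one h1) (orderOf_dvd_of_pow_eq_one h2)
        rw [((hp.out.coprime_iff_not_dvd.mpr hr).symm.pow_right i).gcd_eq_one, Nat.dvd_one,
          orderOf_eq_one_iff, QuotientGroup.eq_one_iff] at h3
        have h4 : (QuotientGroup.mk g : G ⧸ K₁) ^ p ^ e = 1 := by
          rw [← QuotientGroup.mk_pow, QuotientGroup.eq_one_iff]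
          exact ⟨y, h3, rfl⟩
        obtain ⟨j, -, hj⟩ := (Nat.dvd_prime_pow hp.out).mp (orderOf_dvd_of_pow_eq_one h4)
        exact ⟨j, hj⟩
      obtain ⟨b, hb⟩ := IsPGroup.iff_card.mp hpg
      have h1 : Nat.card G = p ^ b * Nat.card K₁ := by
        rw [← hb, ← Subgroup.index_eq_card, Subgroup.index_mul_card]
      rw [h1, P.card_eq_multiplicity, h1, Nat.factorization_mul (pow_ne_zero _ hp.out.ne_zero)
        Nat.card_pos.ne', hp.out.factorization_pow, Finsupp.add_apply, Finsupp.single_eq_same,
        Nat.factorization_eq_zero_of_not_dvd (hcardK ▸ hKp), add_zero, mul_comm]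
    · rw [P.card_eq_multiplicity, hcardK]
      exact ((hp.out.coprime_iff_not_dvd.mpr hKp).symm.pow_right _)
  · intro h
    obtain ⟨P, K, hKn, hKc⟩ := h
    haveI := hKn
    have hKp : ¬ p ∣ Nat.card K := by
      rw [← hKc.index_eq_card]
      exact P.not_dvd_index
    refine ⟨1, fun χ hχ hh => ?_⟩
    have hker := CfsgLib.Blk83.principal_trivial_on hM K hKp hχ
    obtain ⟨η, hη, he⟩ := CfsgLib.CharTwist.exists_irr_quotient χ.2 K hker
    obtain ⟨m, ρ, hρ, rfl⟩ := hη
    haveI := hρ
    have hdvd := CfsgLib.Char.finrank_dvd_card ρ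
    rw [Module.finrank_fin_fun, ← Subgroup.index_eq_card, hKc.symm.index_eq_card,
      P.card_eq_multiplicity] at hdvd
    have hdeg : charDegree (χ : G → ℂ) = m := by
      rw [charDegree, he, Function.comp_apply, map_one, Representation.char_one,
        Module.finrank_fin_fun, Complex.natCast_re, Nat.floor_natCast]
    have hnd : ¬ p ∣ m := hdeg ▸ (hheight χ).mp hh
    rw [hdeg]
    exact Nat.dvd_one.mp ((((hp.out.coprime_iff_not_dvd.mpr hnd).symm.pow_right _).dvd_of_dvd_mul_right
      (by rwa [one_mul])))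

end CfsgLib.RealChar
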