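import Cfsg.Agent.Lib.Blk83.PrincipalKernel
import Cfsg.Agent.Lib.RealChar.Trichotomy

/-!
# Two orbits of nonprincipal real characters in a principal block

For odd `p` a `p`-regular element has only `p`-regular square roots, so the regular multiplicities
weighted by the indicators sum to the regular multiplicity of the principal character.
-/

namespace CfsgLib.RealChar

open Cfsg CfsgLib.Blk83
open scoped ComplexConjugate

variable {G : Type*} [Group G] [Fintype G] {p : ℕ} [hp : Fact p.Prime]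

theorem isPRegular_mul_self (hodd : p ≠ 2) (h : G) : IsPRegular p (h * h) ↔ IsPRegular p h := by
  refine not_congr ⟨fun hd => hd.trans (by rw [← sq]; exact orderOf_pow_dvd 2), fun hd => ?_⟩
  rw [← sq, orderOf_pow' _ two_ne_zero]
  refine (Nat.Coprime.dvd_of_dvd_mul_right (n := Nat.gcd (orderOf h) 2) ?_ ?_)
  · exact (((Nat.coprime_primes hp.out Nat.prime_two).mpr hodd).coprime_dvd_right
      (Nat.gcd_dvd_right _ _))
  · rwa [Nat.div_mul_cancel (Nat.gcd_dvd_left _ _)]

/-- The indicators weighted by the regular multiplicities. -/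
theorem sum_fsInd_mul_regMult (hodd : p ≠ 2) :
    ∑ χ : IrrCharacter G, fsInd (χ : G → ℂ) * regMult p (χ : G → ℂ) =
      regMult p (fun _ : G => (1 : ℂ)) := by
  classical
  have h1 : ∀ g : G, ∑ χ : IrrCharacter G, fsInd (χ : G → ℂ) * pRegularPart p (χ : G → ℂ) g =
      if IsPRegular p g then (Nat.card {x : G // x * x = g} : ℂ) else 0 := by
    intro g
    by_cases hg : IsPRegular p g
    · simp only [pRegularPart, if_pos hg, sum_fsInd_mul_apply]
    · simp only [pRegularPart, if_neg hg, mul_zero, Finset.sum_const_zero]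
  have h2 : ∑ g : G, (if IsPRegular p g then (Nat.card {x : G // x * x = g} : ℂ) else 0) =
      ∑ g : G, pRegularPart p (fun _ : G => (1 : ℂ)) g := by
    calc ∑ g : G, (if IsPRegular p g then (Nat.card {x : G // x * x = g} : ℂ) else 0)
        = ∑ g : G, ∑ x ∈ Finset.univ.filter (fun x : G => x * x = g),
            (if IsPRegular p (x * x) then (1 : ℂ) else 0) := by
          refine Finset.sum_congr rfl fun g _ => ?_
          rw [Finset.sum_congr rfl (g := fun _ => if IsPRegular p g then (1 : ℂ) else 0)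
            fun x hx => by rw [(Finset.mem_filter.mp hx).2], Finset.sum_const, nsmul_eq_mul,
            Nat.card_eq_fintype_card, Fintype.card_subtype]
          split_ifs <;> simp
      _ = ∑ x : G, (if IsPRegular p (x * x) then (1 : ℂ) else 0) :=
          Finset.sum_fiberwise Finset.univ (fun x : G => x * x) _
      _ = _ := Finset.sum_congr rfl fun x _ => by
          simp only [pRegularPart, isPRegular_mul_self hodd]
  simp only [regMult, ← h2, ← h1, Finset.mul_sum]
  rw [Finset.sum_comm]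
  exact Finset.sum_congr rfl fun g _ => Finset.sum_congr rfl fun χ _ => by ring

theorem fsInd_comp_ringEquiv (σ : ℂ ≃+* ℂ) (χ : G → ℂ) :
    fsInd ((σ : ℂ → ℂ) ∘ χ) = σ (fsInd χ) := by
  simp [fsInd, map_sum]

theorem regMult_comp_ringEquiv (σ : ℂ ≃+* ℂ) (χ : G → ℂ) :
    regMult p ((σ : ℂ → ℂ) ∘ χ) = σ (regMult p χ) := by
  simp only [regMult, map_mul, map_inv₀, map_pow, map_natCast, map_sum, pRegularPart]
  congr 1
  exact Finset.sum_congr rfl fun g _ => by split_ifs <;> simp

/-- A second orbit of nonprincipal real characters in the principal block. -/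
theorem exists_second_real {M : Ideal AlgInt} (hM : IsPModular p M) (hodd : p ≠ 2)
    (α : IrrCharacter G) (hα : α ∈ principalBlock M G) (hα1 : ¬ ((α : G → ℂ) = fun _ => (1 : ℂ)))
    (hαr : ∀ g : G, ((α : G → ℂ) g).im = 0) :
    ∃ β : IrrCharacter G, β ∈ principalBlock M G ∧ ¬ ((β : G → ℂ) = fun _ => (1 : ℂ)) ∧
      (∀ g : G, ((β : G → ℂ) g).im = 0) ∧ β ≠ α ∧
        ∀ σ : ℂ ≃+* ℂ, (β : G → ℂ) ≠ (σ : ℂ → ℂ) ∘ (α : G → ℂ) := by
  classical
  by_contra hcon
  push Not at hcon
  obtain ⟨z, hz⟩ := exists_int_regMult p α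
  have hz0 : regMult p (α : G → ℂ) ≠ 0 := regMult_ne_zero p hM α hα
  obtain ⟨e, he⟩ : ∃ e : ℤ, fsInd (α : G → ℂ) = e := by
    rcases fsInd_eq α.2 with h | h | h
    · exact ⟨0, by rw [h]; simp⟩
    · exact ⟨1, by rw [h]; simp⟩
    · exact ⟨-1, by rw [h]; simp⟩
  have he0 : fsInd (α : G → ℂ) ≠ 0 := (fsInd_ne_zero_iff α.2).mpr hαr
  let w : IrrCharacter G → ℂ := fun χ => fsInd (χ : G → ℂ) * regMult p (χ : G → ℂ)
  have hw : ∀ χ : IrrCharacter G, χ ≠ CfsgLib.Char.principalIrr → w χ ≠ 0 → w χ = w α := by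
    intro χ hne hw0
    have h1 := mul_ne_zero_iff.mp hw0
    have hmem : χ ∈ principalBlock M G := (mem_principalBlock_iff p hM χ).mpr h1.2
    have hne' : ¬ ((χ : G → ℂ) = fun _ => (1 : ℂ)) := fun h => hne (Subtype.ext h)
    by_cases heq : χ = α
    · rw [heq]
    obtain ⟨σ, hσ⟩ := hcon χ hmem hne' ((fsInd_ne_zero_iff χ.2).mp h1.1) heq
    simp only [w, hσ, fsInd_comp_ringEquiv, regMult_comp_ringEquiv, he, hz, map_intCast]
  have hwp : w CfsgLib.Char.principalIrr = regMult p (fun _ : G => (1 : ℂ)) := by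
    change fsInd (fun _ : G => (1 : ℂ)) * regMult p (fun _ : G => (1 : ℂ)) = _
    rw [fsInd_principal, one_mul]
  have hsum : ∑ χ, w χ = _ := sum_fsInd_mul_regMult (G := G) hodd
  rw [← Finset.add_sum_erase _ _ (Finset.mem_univ (CfsgLib.Char.principalIrr : IrrCharacter G)),
    hwp, add_eq_left, ← Finset.sum_filter_ne_zero, Finset.sum_congr rfl fun χ hχ => hw χ
      (Finset.ne_of_mem_erase (Finset.mem_filter.mp hχ).1) (Finset.mem_filter.mp hχ).2,
    Finset.sum_const, nsmul_eq_mul, mul_eq_zero, Nat.cast_eq_zero, Finset.card_eq_zero] at hsum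
  rcases hsum with h | h
  · have hmem : α ∈ (Finset.univ.erase (CfsgLib.Char.principalIrr : IrrCharacter G)).filter
        fun χ => w χ ≠ 0 :=
      Finset.mem_filter.mpr ⟨Finset.mem_erase.mpr ⟨fun h' => hα1 (by rw [h']; rfl),
        Finset.mem_univ _⟩, mul_ne_zero he0 hz0⟩
    rw [h] at hmem
    simp at hmem
  · exact mul_ne_zero he0 hz0 h

end CfsgLib.RealChar
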