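import Cfsg.Agent.Lib.RealChar.OddIndex
import Cfsg.Agent.Lib.RealChar.OrbitLemma

/-!
# Real elements when real characters have degree prime to `p`
-/

set_option linter.style.haveILetI false

namespace CfsgLib.RealChar

open MulAction CharTwist

variable {G : Type*} [Group G] [Finite G]

/-- The subgroup generated by the `2`-elements has odd index. -/
theorem odd_index_primeClosure_two :
    Odd (primeClosure 2 G).index := by
  haveI := primeClosure_normal 2 G
  rw [← Nat.not_even_iff_odd, even_iff_two_dvd]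
  intro h
  obtain ⟨q, hq⟩ := exists_prime_orderOf_dvd_card' (G := G ⧸ primeClosure 2 G) 2 h
  obtain ⟨g, rfl, k, hk⟩ := exists_lift_orderOf_eq_pow (QuotientGroup.mk' (primeClosure 2 G))
    (QuotientGroup.mk'_surjective _) Nat.prime_two (k := 1) (by rw [hq, pow_one])
  have hg : g ∈ primeClosure 2 G := Subgroup.subset_closure ⟨k, hk⟩
  rw [QuotientGroup.mk'_apply, (QuotientGroup.eq_one_iff g).mpr hg, orderOf_one] at hq
  exact absurd hq (by norm_num)

/-- The stabilizer of a real character is its inertia group. -/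
theorem stabilizer_realIrr {K : Subgroup G} [K.Normal] (θ : RealIrr K) :
    stabilizer G θ = inertia K (θ.1 : K → ℂ) := by
  ext g
  rw [← inv_mem_iff (H := inertia K _), mem_stabilizer_iff, mem_inertia, Subtype.ext_iff,
    Subtype.ext_iff, realIrr_smul_apply]

/-- Orbits of real characters have size prime to `p`. -/
theorem orbit_realIrr_coprime {p : ℕ} [Fact p.Prime] (hreal : RealDegreesCoprime p G)
    {K : Subgroup G} [K.Normal] (hodd : Odd K.index) (θ : RealIrr K) :
    ¬ p ∣ Nat.card (orbit G θ) := by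
  classical
  haveI := Fintype.ofFinite G
  obtain ⟨χ, ⟨hr, hm⟩, -⟩ := existsUnique_real_above hodd θ
  have h1 := (mult_fsInd_of_real_above hodd θ hr hm).1
  have hdeg : (χ : G → ℂ) 1 = ((inertia K (θ.1 : K → ℂ)).index : ℂ) * (θ.1 : K → ℂ) 1 := by
    have := CfsgLib.Clifford.apply_one_eq K χ.2 θ.1.2 hm
    rw [show Cfsg.classInner (fun n : K => (χ : G → ℂ) n) (θ.1 : K → ℂ) = 1 from h1, one_mul]
      at this
    exact this
  obtain ⟨d, -, hd⟩ := CfsgLib.Char.IsIrrCharacter.exists_degree θ.1.2
  rw [hd, ← Nat.cast_mul] at hdeg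
  intro hdvd
  apply hreal χ hr
  rw [Cfsg.charDegree, hdeg, Complex.natCast_re, Nat.floor_natCast]
  rw [Nat.card_congr (orbitEquivQuotientStabilizer G θ), stabilizer_realIrr] at hdvd
  exact dvd_mul_of_dvd_left hdvd _

/-- Orbits of real classes have size prime to `p`. -/
theorem orbit_realClass_coprime {p : ℕ} [Fact p.Prime]
    (hsol : Group.IsSolvable (primeClosure p G)) (hreal : RealDegreesCoprime p G)
    {K : Subgroup G} [K.Normal] (hodd : Odd K.index) (C : RealClass K) :
    ¬ p ∣ Nat.card (orbit G C) :=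
  orbit_card_coprime_of_fixedBy_eq _ G rfl hsol (RealIrr K) (RealClass K)
    (card_fixedBy_realIrr hodd) (orbit_realIrr_coprime hreal hodd) C

/-- Each real element is conjugate into the normalizer of a given Sylow subgroup. -/
theorem exists_conj_mem_normalizer {p : ℕ} [Fact p.Prime]
    (hsol : Group.IsSolvable (primeClosure p G)) (hreal : RealDegreesCoprime p G)
    (P : Sylow p G) {x : G} (hx : IsConj x x⁻¹) :
    ∃ y ∈ Subgroup.normalizer ((P : Subgroup G) : Set G), IsConj x y := by
  classical
  haveI := primeClosure_normal 2 G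
  set K := primeClosure 2 G with hKdef
  have hodd : Odd K.index := odd_index_primeClosure_two
  obtain ⟨hxK, hxreal⟩ := real_elt_mem hodd hx
  let C : RealClass K := ⟨ConjClasses.mk ⟨x, hxK⟩, fun k hk => by
    obtain ⟨c, hc⟩ := isConj_iff.mp (ConjClasses.mk_eq_mk_iff_isConj.mp hk)
    exact (ConjClasses.mk_eq_mk_iff_isConj.mp hk).trans
      (hxreal.trans (isConj_iff.mpr ⟨c⁻¹, by rw [← hc]; group⟩))⟩
  letI : MulAction (P : Subgroup G) (orbit G C) := MulAction.compHom _ (P : Subgroup G).subtype
  obtain ⟨⟨_, g, rfl⟩, hfix⟩ := P.isPGroup'.nonempty_fixed_point_of_prime_not_dvd_card (orbit G C)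
    (orbit_realClass_coprime hsol hreal hodd C)
  set x' : K := MulAut.conjNormal (H := K) g ⟨x, hxK⟩ with hx'
  have hfix' : ∀ r ∈ (P : Subgroup G), IsConj (MulAut.conjNormal (H := K) r x') x' := by
    intro r hr
    have h := congrArg (fun z : orbit G C => z.1.1) (hfix ⟨r, hr⟩)
    exact ConjClasses.mk_eq_mk_iff_isConj.mp h
  -- the normal Sylow subgroup of `K`
  obtain ⟨Q, hQn, hQK, hQp, hQi⟩ :=
    exists_normal_sylow _ G rfl hsol hreal K inferInstance le_rfl
      ⟨0, by rw [pow_zero, Subgroup.relIndex_self]⟩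
  haveI := hQn
  have hQP : Q ≤ (P : Subgroup G) := hQp.le_sylow_of_normal P
  have hPK : (P : Subgroup G) ⊓ K ≤ Q := by
    rw [← Subgroup.relIndex_eq_one]
    obtain ⟨a, ha⟩ := IsPGroup.iff_card.mp (P.isPGroup'.to_le (inf_le_left (b := K)))
    have h1 : Q.relIndex ((P : Subgroup G) ⊓ K) ∣ p ^ a := ha ▸ Subgroup.relIndex_dvd_card _ _
    obtain ⟨b, -, hb⟩ := (Nat.dvd_prime_pow Fact.out).mp h1
    rcases b with _ | b
    · rw [hb, pow_zero]
    · exfalso
      refine hQi ((hb ▸ dvd_pow_self p b.succ_ne_zero).trans ?_)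
      exact Dvd.intro _ (Subgroup.relIndex_mul_relIndex Q ((P : Subgroup G) ⊓ K) K
        (le_inf hQP hQK) inf_le_right)
  -- conjugation on `K / Q`
  let Q' : Subgroup K := Q.subgroupOf K
  haveI : Q'.Normal := Subgroup.normal_subgroupOf
  have hQ'i : ¬ p ∣ Nat.card (K ⧸ Q') := hQi
  have hstep : ∀ (r : G) (k l : K), (k : K ⧸ Q') = (l : K ⧸ Q') →
      ((MulAut.conjNormal (H := K) r k : K) : K ⧸ Q') = (MulAut.conjNormal (H := K) r l : K) := by
    intro r k l h
    rw [QuotientGroup.eq] at h ⊢
    rw [← map_inv, ← map_mul]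
    exact hQn.conj_mem _ h r
  let T := {q : K ⧸ Q' // IsConj (x' : K ⧸ Q') q}
  letI act : MulAction (P : Subgroup G) T :=
    { smul := fun r q => ⟨Quotient.liftOn' q.1
        (fun k => ((MulAut.conjNormal (H := K) (r : G) k : K) : K ⧸ Q'))
        (fun k l h => hstep r k l (Quotient.sound' h)), by
          obtain ⟨q, hq⟩ := q
          induction q using QuotientGroup.induction_on
          rename_i k
          change IsConj (x' : K ⧸ Q') ((MulAut.conjNormal (H := K) (r : G) k : K) : K ⧸ Q')
          obtain ⟨c, hc⟩ := isConj_iff.mp hq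
          induction c using QuotientGroup.induction_on
          rename_i c
          rw [← QuotientGroup.mk_inv, ← QuotientGroup.mk_mul, ← QuotientGroup.mk_mul] at hc
          rw [← hstep r (c * x' * c⁻¹) k hc]
          refine IsConj.trans ?_ ((QuotientGroup.mk' Q').map_isConj
            ((MulAut.conjNormal (H := K) (r : G)).toMonoidHom.map_isConj
              (isConj_iff.mpr ⟨c, rfl⟩ : IsConj x' (c * x' * c⁻¹))))
          exact (QuotientGroup.mk' Q').map_isConj (hfix' r r.2).symm⟩
      one_smul := fun q => by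
        obtain ⟨q, hq⟩ := q
        induction q using QuotientGroup.induction_on
        rename_i k
        refine Subtype.ext ?_
        change ((MulAut.conjNormal (H := K) (1 : G) k : K) : K ⧸ Q') = (k : K ⧸ Q')
        rw [map_one]
        rfl
      mul_smul := fun r s q => by
        obtain ⟨q, hq⟩ := q
        induction q using QuotientGroup.induction_on
        rename_i k
        refine Subtype.ext ?_
        change ((MulAut.conjNormal (H := K) ((r : G) * s) k : K) : K ⧸ Q') =
          ((MulAut.conjNormal (H := K) (r : G) (MulAut.conjNormal (H := K) (s : G) k) : K) : K ⧸ Q')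
        rw [map_mul]
        rfl }
  have hT : ¬ p ∣ Nat.card T := fun h => hQ'i (h.trans
    ⟨_, (CfsgLib.Char.card_isConj_mul_card_centralizer (x' : K ⧸ Q')).symm⟩)
  obtain ⟨⟨q, hq⟩, hqfix⟩ := P.isPGroup'.nonempty_fixed_point_of_prime_not_dvd_card T hT
  obtain ⟨c, hc⟩ := isConj_iff.mp hq
  induction c using QuotientGroup.induction_on
  rename_i c
  set y : K := c * x' * c⁻¹ with hy
  have hcy : (y : K ⧸ Q') = q := hc
  refine ⟨(y : G), ?_, ?_⟩
  · rw [← inv_mem_iff]
    apply Subgroup.mem_normalizer_fintype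
    intro r hr
    have h := congrArg Subtype.val (hqfix ⟨r⁻¹, (P : Subgroup G).inv_mem hr⟩)
    have h' : ((MulAut.conjNormal (H := K) r⁻¹ y : K) : K ⧸ Q') = (y : K ⧸ Q') := by
      subst hcy
      exact h
    rw [QuotientGroup.eq] at h'
    have hmem : (r⁻¹ * (y : G) * r)⁻¹ * (y : G) ∈ (P : Subgroup G) := hQP (by
      simpa [MulAut.conjNormal_apply, Q', Subgroup.mem_subgroupOf] using h')
    have := (P : Subgroup G).mul_mem hr hmem
    simp only [SetLike.mem_coe, mul_inv_rev, inv_inv, mul_assoc, mul_inv_cancel_left] at this ⊢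
    exact this
  · refine isConj_iff.mpr ⟨(c : G) * g, ?_⟩
    simp only [hy, hx', Subgroup.coe_mul, Subgroup.coe_inv, MulAut.conjNormal_apply]
    group

end CfsgLib.RealChar
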