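import Cfsg.Agent.Lib.RealChar.Coprime
import Cfsg.Agent.Lib.RealChar.RealElements

/-!
# Real characters of `p'`-degree of a Sylow normalizer

When the real characters of `G` have degree prime to `p` and the `p`-elements generate a solvable
group, they correspond to the real `p'`-degree characters of the normalizer of a Sylow subgroup.
-/

set_option linter.style.haveILetI false

namespace CfsgLib.RealChar

open MulAction CharTwist
open scoped ComplexConjugate

attribute [local instance high] Fintype.ofFinite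

section Above

variable {G : Type*} [Group G] [Finite G] {K : Subgroup G} [K.Normal] (hodd : Odd K.index)

/-- `χ` lies above the real character `θ` of `K`. -/
def Above (χ : Cfsg.IrrCharacter G) (θ : RealIrr K) : Prop :=
  mult (χ : G → ℂ) (θ.1 : K → ℂ) ≠ 0

theorem above_smul {χ : Cfsg.IrrCharacter G} {θ : RealIrr K} (h : Above χ θ) (g : G) :
    Above χ (g • θ) := by
  rw [Above, mult, realIrr_smul_apply, CfsgLib.Clifford.classInner_res_conjFun K
    (CfsgLib.Char.IsIrrCharacter.isClassFunction χ.2)]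
  exact h

theorem exists_smul_of_above {χ : Cfsg.IrrCharacter G} {θ θ' : RealIrr K} (h : Above χ θ)
    (h' : Above χ θ') : ∃ g : G, g • θ = θ' := by
  obtain ⟨g, hg⟩ := CfsgLib.Clifford.exists_conjFun_eq K χ.2 θ.1.2 θ'.1.2 h h'
  refine ⟨g⁻¹, Subtype.ext (Subtype.ext ?_)⟩
  rw [realIrr_smul_apply, inv_inv, hg]

include hodd in
theorem above_unique {θ : RealIrr K} {χ χ' : Cfsg.IrrCharacter G}
    (hr : ∀ g : G, ((χ : G → ℂ) g).im = 0) (h : Above χ θ)
    (hr' : ∀ g : G, ((χ' : G → ℂ) g).im = 0) (h' : Above χ' θ) : χ = χ' :=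
  (existsUnique_real_above hodd θ).unique ⟨hr, h⟩ ⟨hr', h'⟩

include hodd in
theorem degree_of_above {χ : Cfsg.IrrCharacter G} (hr : ∀ g : G, ((χ : G → ℂ) g).im = 0)
    {θ : RealIrr K} (h : Above χ θ) :
    CfsgLib.Char.degree (χ : G → ℂ) =
      Nat.card (orbit G θ) * CfsgLib.Char.degree (θ.1 : K → ℂ) := by
  have h1 := (mult_fsInd_of_real_above hodd θ hr h).1
  have hdeg := CfsgLib.Clifford.apply_one_eq K χ.2 θ.1.2 h
  rw [show Cfsg.classInner (fun n : K => (χ : G → ℂ) n) (θ.1 : K → ℂ) = 1 from h1, one_mul] at hdeg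
  have h2 : (CfsgLib.Char.degree (χ : G → ℂ) : ℂ) =
      ((Nat.card (orbit G θ) * CfsgLib.Char.degree (θ.1 : K → ℂ) : ℕ) : ℂ) := by
    push_cast
    rw [CfsgLib.Char.IsCharacter.degree_cast (CfsgLib.Char.IsIrrCharacter.isCharacter χ.2),
      CfsgLib.Char.IsCharacter.degree_cast (CfsgLib.Char.IsIrrCharacter.isCharacter θ.1.2), hdeg,
      Nat.card_congr (orbitEquivQuotientStabilizer G θ), stabilizer_realIrr]
    rfl
  exact_mod_cast h2

end Above

universe u

/-- The bijection of `chr11_real_characters_p_prime_degree_bijection_with_sylow_normalizer`. -/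
theorem exists_real_bijection {G : Type u} [Group G] [Finite G] (p : ℕ) [hp : Fact p.Prime]
    (hsol : Group.IsSolvable (primeClosure p G)) (hreal : RealDegreesCoprime p G) (P : Sylow p G) :
    ∃ f : {χ : Cfsg.IrrCharacter G // ∀ g : G, ((χ : G → ℂ) g).im = 0} →
      {ξ : Cfsg.IrrCharacter (Subgroup.normalizer ((P : Subgroup G) : Set G)) //
        (∀ n, ((ξ : Subgroup.normalizer ((P : Subgroup G) : Set G) → ℂ) n).im = 0) ∧
          ¬ p ∣ Cfsg.charDegree (ξ : Subgroup.normalizer ((P : Subgroup G) : Set G) → ℂ)},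
      Function.Bijective f ∧ ∀ χ,
        ((Cfsg.charDegree ((f χ).1 : Subgroup.normalizer ((P : Subgroup G) : Set G) → ℂ) : ZMod p) =
            (Cfsg.charDegree (χ.1 : G → ℂ) : ZMod p) ∨
          (Cfsg.charDegree ((f χ).1 : Subgroup.normalizer ((P : Subgroup G) : Set G) → ℂ) : ZMod p) =
            -(Cfsg.charDegree (χ.1 : G → ℂ) : ZMod p)) := by
  classical
  haveI := primeClosure_normal 2 G
  set K := primeClosure 2 G with hKdef
  have hodd : Odd K.index := odd_index_primeClosure_two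
  obtain ⟨Q, hQn, hQK, hQp, hQi⟩ :=
    exists_normal_sylow _ G rfl hsol hreal K inferInstance le_rfl
      ⟨0, by rw [pow_zero, Subgroup.relIndex_self]⟩
  haveI := hQn
  set N := Subgroup.normalizer ((P : Subgroup G) : Set G) with hNdef
  have hPN : (P : Subgroup G) ≤ N := Subgroup.le_normalizer
  have hQP : Q ≤ (P : Subgroup G) := hQp.le_sylow_of_normal P
  have hPKQ : (P : Subgroup G) ⊓ K ≤ Q := by
    rw [← Subgroup.relIndex_eq_one]
    obtain ⟨a, ha⟩ := IsPGroup.iff_card.mp (P.isPGroup'.to_le (inf_le_left (b := K)))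
    obtain ⟨b, -, hb⟩ := (Nat.dvd_prime_pow hp.out).mp
      (ha ▸ Subgroup.relIndex_dvd_card Q ((P : Subgroup G) ⊓ K))
    rcases b with _ | b
    · rw [hb, pow_zero]
    · exfalso
      exact hQi ((hb ▸ dvd_pow_self p b.succ_ne_zero).trans (Dvd.intro _
        (Subgroup.relIndex_mul_relIndex Q ((P : Subgroup G) ⊓ K) K
          (le_inf hQP hQK) inf_le_right)))
  let C : Subgroup G := K ⊓ N
  have hCK : C ≤ K := inf_le_left
  have hC : ∀ k : G, k ∈ C ↔ (k ∈ K ∧ ∀ x ∈ (P : Subgroup G), x * k * x⁻¹ * k⁻¹ ∈ Q) := by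
    intro k
    constructor
    · rintro ⟨hk, hkN⟩
      refine ⟨hk, fun x hx => hPKQ ⟨?_, ?_⟩⟩
      · rw [show x * k * x⁻¹ * k⁻¹ = x * (k * x⁻¹ * k⁻¹) by group]
        exact (P : Subgroup G).mul_mem hx ((Subgroup.mem_normalizer_iff.mp hkN _).mp
          ((P : Subgroup G).inv_mem hx))
      · exact K.mul_mem ((primeClosure_normal 2 G).conj_mem k hk x) (K.inv_mem hk)
    · rintro ⟨hk, h⟩
      refine ⟨hk, Subgroup.mem_normalizer_fintype fun x hx => ?_⟩
      rw [show k * x * k⁻¹ = (x * k * x⁻¹ * k⁻¹)⁻¹ * x by group]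
      exact (P : Subgroup G).mul_mem ((P : Subgroup G).inv_mem (hQP (h x hx))) hx
  have hGK : ∀ L : Subgroup G, L ≤ Subgroup.normalizer (K : Set G) := fun L =>
    by rw [Subgroup.normalizer_eq_top_iff.mpr inferInstance]; exact le_top
  have hNC : N ≤ Subgroup.normalizer (C : Set G) := fun n hn =>
    Subgroup.mem_normalizer_fintype fun k hk =>
      ⟨(primeClosure_normal 2 G).conj_mem k hk.1 n, N.mul_mem (N.mul_mem hn hk.2) (N.inv_mem hn)⟩
  have hPC : (P : Subgroup G) ≤ Subgroup.normalizer (C : Set G) := hPN.trans hNC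
  obtain ⟨hcorr, -⟩ := corr_exists (p := p) P.isPGroup' (hGK _) hQK
    (fun k _ q hq => hQn.conj_mem q hq k) hQp hQi hCK hC
  -- `C` as a subgroup of `N`
  let CN : Subgroup N := K.subgroupOf N
  have hoddN : Odd CN.index :=
    hodd.of_dvd_nat (Subgroup.relIndex_dvd_index_of_normal K N)
  let e : CN ≃* C :=
    { toFun := fun c => ⟨c.1.1, c.2, c.1.2⟩
      invFun := fun c => ⟨⟨c.1, c.2.2⟩, c.2.1⟩
      left_inv := fun _ => rfl
      right_inv := fun _ => rfl
      map_mul' := fun _ _ => rfl }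
  let lift : RealIrr CN → Cfsg.IrrCharacter C := fun c =>
    ⟨(c.1 : CN → ℂ) ∘ e.symm, isIrrCharacter_comp_equiv c.1.2 e.symm⟩
  have hlift_inj : Function.Injective lift := fun a b h => Subtype.ext (Subtype.ext (funext fun k =>
    congrArg (fun t : Cfsg.IrrCharacter C => (t : C → ℂ) (e k)) h))
  have hlift_surj : ∀ ξ : Cfsg.IrrCharacter C, (∀ c : C, ((ξ : C → ℂ) c).im = 0) →
      ∃ c, lift c = ξ := fun ξ hξ =>
    ⟨⟨⟨(ξ : C → ℂ) ∘ e, isIrrCharacter_comp_equiv ξ.2 e⟩, fun k => hξ _⟩, rfl⟩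
  -- fixed points
  let FixG : RealIrr K → Prop := fun θ => ∀ x ∈ (P : Subgroup G), x • θ = θ
  let FixN : RealIrr CN → Prop := fun c => ∀ x : N, (x : G) ∈ (P : Subgroup G) → x • c = c
  have hFixG : ∀ θ : RealIrr K, FixG θ ↔ InvUnder ((P : Subgroup G) : Set G) (θ.1 : K → ℂ) := by
    intro θ
    constructor
    · intro h x hx k k' hk
      have e1 := congrArg (fun t : RealIrr K => (t.1 : K → ℂ) k') (h x hx)
      change conjFun K (θ.1 : K → ℂ) x⁻¹ k' = (θ.1 : K → ℂ) k' at e1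
      rw [← e1]
      refine congrArg (θ.1 : K → ℂ) (Subtype.ext ?_)
      change x⁻¹ * (k' : G) * x⁻¹⁻¹ = (k : G)
      rw [hk]
      group
    · intro h x hx
      refine Subtype.ext (Subtype.ext (funext fun k => ?_))
      change conjFun K (θ.1 : K → ℂ) x⁻¹ k = (θ.1 : K → ℂ) k
      refine (h x hx _ k ?_).symm
      change (k : G) = x * (x⁻¹ * (k : G) * x⁻¹⁻¹) * x⁻¹
      group
  have hFixN : ∀ c : RealIrr CN,
      FixN c ↔ InvUnder ((P : Subgroup G) : Set G) (lift c : C → ℂ) := by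
    intro c
    constructor
    · intro h x hx k k' hk
      have e1 := congrArg (fun t : RealIrr CN => (t.1 : CN → ℂ) (e.symm k')) (h ⟨x, hPN hx⟩ hx)
      change conjFun CN (c.1 : CN → ℂ) _ (e.symm k') = (c.1 : CN → ℂ) (e.symm k') at e1
      change (c.1 : CN → ℂ) (e.symm k') = (c.1 : CN → ℂ) (e.symm k)
      rw [← e1]
      refine congrArg (c.1 : CN → ℂ) (Subtype.ext (Subtype.ext ?_))
      change x⁻¹ * (k' : G) * x⁻¹⁻¹ = (k : G)
      rw [hk]
      group
    · intro h x hx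
      refine Subtype.ext (Subtype.ext (funext fun k => ?_))
      change conjFun CN (c.1 : CN → ℂ) x⁻¹ k = (c.1 : CN → ℂ) k
      have := h x hx (e ⟨x⁻¹ * k.1 * x⁻¹⁻¹, by
        simpa using (inferInstance : CN.Normal).conj_mem _ k.2 x⁻¹⟩) (e k) (by
        change k.1.1 = (x : G) * ((x : G)⁻¹ * k.1.1 * (x : G)⁻¹⁻¹) * (x : G)⁻¹
        group)
      exact this.symm
  have hFixsmulG : ∀ (n : N) θ, FixG θ → FixG ((n : G) • θ) := by
    intro n θ h x hx
    have hy := h ((n : G)⁻¹ * x * n) ((Subgroup.mem_normalizer_iff''.mp n.2 x).mp hx)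
    rw [mul_smul, mul_smul, inv_smul_eq_iff] at hy
    exact hy
  have hFixsmulN : ∀ (n : N) c, FixN c → FixN (n • c) := by
    intro n c h x hx
    have hy := h (n⁻¹ * x * n) ((Subgroup.mem_normalizer_iff''.mp n.2 x).mp hx)
    rw [mul_smul, mul_smul, inv_smul_eq_iff] at hy
    exact hy
  -- the relation given by the correspondence
  let Rel : RealIrr K → RealIrr CN → Prop := fun θ c =>
    FixG θ ∧ FixN c ∧ ¬ p ∣ rmult hCK θ.1 (lift c)
  have hRel_right : ∀ θ, FixG θ → ∃ c, Rel θ c := by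
    intro θ h
    obtain ⟨ξ, hξ, hsq, -⟩ := hcorr.1 θ.1 ((hFixG θ).mp h)
    obtain ⟨c, rfl⟩ := hlift_surj ξ
      ((hcorr.real_iff ((hFixG θ).mp h) hξ (hsq.not_dvd hp.out)).mp θ.2)
    exact ⟨c, h, (hFixN c).mpr hξ, hsq.not_dvd hp.out⟩
  have hRel_left : ∀ c, FixN c → ∃ θ, Rel θ c := by
    intro c h
    obtain ⟨χ, hχ, hsq, -⟩ := hcorr.2 (lift c) ((hFixN c).mp h)
    have hr := (hcorr.real_iff hχ ((hFixN c).mp h) (hsq.not_dvd hp.out)).mpr fun k => c.2 _
    exact ⟨⟨χ, hr⟩, (hFixG _).mpr hχ, h, hsq.not_dvd hp.out⟩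
  have hRel_funR : ∀ θ c c', Rel θ c → Rel θ c' → c = c' := by
    rintro θ c c' ⟨h, hc, hd⟩ ⟨-, hc', hd'⟩
    obtain ⟨ξ, -, -, hu⟩ := hcorr.1 θ.1 ((hFixG θ).mp h)
    exact hlift_inj ((hu _ ((hFixN c).mp hc) hd).trans (hu _ ((hFixN c').mp hc') hd').symm)
  have hRel_funL : ∀ θ θ' c, Rel θ c → Rel θ' c → θ = θ' := by
    rintro θ θ' c ⟨h, hc, hd⟩ ⟨h', -, hd'⟩
    obtain ⟨χ, -, -, hu⟩ := hcorr.2 (lift c) ((hFixN c).mp hc)
    exact Subtype.ext ((hu _ ((hFixG θ).mp h) hd).trans (hu _ ((hFixG θ').mp h') hd').symm)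
  have hRel_smul : ∀ (n : N) θ c, Rel θ c → Rel ((n : G) • θ) (n • c) := by
    rintro n θ c ⟨h, hc, hd⟩
    refine ⟨hFixsmulG n θ h, hFixsmulN n c hc, ?_⟩
    letI := conjIrrAction N K (hGK N)
    letI := conjIrrAction N C hNC
    have e1 : ((n : G) • θ).1 = n • θ.1 := Subtype.ext (funext fun k =>
      congrArg (θ.1 : K → ℂ) (Subtype.ext (by
        change (n : G)⁻¹ * (k : G) * (n : G)⁻¹⁻¹ = (n : G)⁻¹ * (k : G) * (n : G)
        group)))
    have e2 : lift (n • c) = n • lift c := Subtype.ext (funext fun k =>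
      congrArg (c.1 : CN → ℂ) (Subtype.ext (Subtype.ext (by
        change (n : G)⁻¹ * (k : G) * (n : G)⁻¹⁻¹ = (n : G)⁻¹ * (k : G) * (n : G)
        group))))
    rw [e1, e2, rmult_smul N hCK (hGK N) hNC n θ.1 (lift c)]
    exact hd
  have hRel_deg : ∀ θ c, Rel θ c →
      (CfsgLib.Char.degree (c.1 : CN → ℂ) : ZMod p) = (CfsgLib.Char.degree (θ.1 : K → ℂ) : ZMod p) ∨
      (CfsgLib.Char.degree (c.1 : CN → ℂ) : ZMod p) =
        -(CfsgLib.Char.degree (θ.1 : K → ℂ) : ZMod p) := by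
    rintro θ c ⟨h, hc, hd⟩
    obtain ⟨ξ₀, hξ₀, hsq, hu⟩ := hcorr.1 θ.1 ((hFixG θ).mp h)
    obtain rfl : lift c = ξ₀ := hu _ ((hFixN c).mp hc) hd
    have hdd := rmult_degree_congr P.isPGroup' (hGK _) hPC ((hFixG θ).mp h) hξ₀ hu
    have h1 := (ZMod.intCast_zmod_eq_zero_iff_dvd _ p).mpr hdd
    push_cast at h1
    rw [sub_eq_zero, show CfsgLib.Char.degree (lift c : C → ℂ) = CfsgLib.Char.degree (c.1 : CN → ℂ)
      from congrArg (fun z : ℂ => ⌊z.re⌋₊) (congrArg (c.1 : CN → ℂ) (map_one e.symm))] at h1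
    have h2 := (ZMod.intCast_zmod_eq_zero_iff_dvd _ p).mpr hsq
    push_cast at h2
    rcases sq_eq_one_iff.mp (sub_eq_zero.mp h2) with h3 | h3 <;> rw [h3] at h1
    · left; simpa using h1.symm
    · right; rw [h1]; simp
  -- fixed characters in one orbit
  have hconjN : ∀ θ θ', FixG θ → FixG θ' → θ' ∈ orbit G θ → ∃ n : N, (n : G) • θ = θ' := by
    rintro θ θ' h h' ⟨g, rfl⟩
    let T : Subgroup G := stabilizer G θ
    have h1 : ((P : Sylow p G) : Subgroup G) ≤ T := fun x hx => mem_stabilizer_iff.mpr (h x hx)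
    have h2 : ((g⁻¹ • P : Sylow p G) : Subgroup G) ≤ T := by
      intro x hx
      rw [Sylow.coe_subgroup_smul, Subgroup.mem_pointwise_smul_iff_inv_smul_mem, ← map_inv,
        inv_inv, MulAut.smul_def, MulAut.conj_apply] at hx
      have := h' _ hx
      rw [mul_smul, mul_smul, inv_smul_smul] at this
      exact mem_stabilizer_iff.mpr (MulAction.injective g this)
    obtain ⟨t, ht⟩ := MulAction.exists_smul_eq T ((g⁻¹ • P : Sylow p G).subtype h2) (P.subtype h1)
    rw [Sylow.smul_subtype] at ht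
    have ht' := Sylow.subtype_injective ht
    have hn : g * (t : G)⁻¹ ∈ N := by
      rw [← inv_mem_iff, mul_inv_rev, inv_inv, hNdef]
      exact Sylow.smul_eq_iff_mem_normalizer.mp ((mul_smul _ _ _).trans ht')
    refine ⟨⟨_, hn⟩, ?_⟩
    change (g * (t : G)⁻¹) • θ = g • θ
    rw [mul_smul, inv_smul_eq_iff.mpr (mem_stabilizer_iff.mp t.2).symm]
  have horbit : ∀ θ c, Rel θ c → (Nat.card (orbit G θ) : ZMod p) = Nat.card (orbit N c) := by
    intro θ c hθc
    letI : MulAction (P : Subgroup G) (orbit G θ) := MulAction.compHom _ (P : Subgroup G).subtype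
    have hmod := (ZMod.natCast_eq_natCast_iff _ _ p).mpr
      (P.isPGroup'.card_modEq_card_fixedPoints (orbit G θ))
    rw [hmod]
    congr 1
    have hfix : ∀ y : orbit G θ, y ∈ fixedPoints (P : Subgroup G) (orbit G θ) ↔ FixG y.1 :=
      fun y => ⟨fun hy x hx => congrArg Subtype.val (mem_fixedPoints.mp hy ⟨x, hx⟩),
        fun hy => mem_fixedPoints.mpr fun x => Subtype.ext (hy x x.2)⟩
    have hset : Nat.card (fixedPoints (P : Subgroup G) (orbit G θ)) = Nat.card (orbit N θ) :=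
      Nat.card_congr
        { toFun := fun y => ⟨y.1.1, by
            obtain ⟨n, hn⟩ := hconjN θ y.1.1 hθc.1 ((hfix y.1).mp y.2) y.1.2
            exact ⟨n, hn⟩⟩
          invFun := fun y => ⟨⟨y.1, by
              obtain ⟨n, hn⟩ := y.2
              exact ⟨(n : G), hn⟩⟩, (hfix _).mpr (by
              obtain ⟨n, hn⟩ := y.2
              change FixG y.1
              rw [← hn]
              exact hFixsmulG n θ hθc.1)⟩
          left_inv := fun y => rfl
          right_inv := fun y => rfl }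
    rw [hset, Nat.card_congr (orbitEquivQuotientStabilizer N θ),
      Nat.card_congr (orbitEquivQuotientStabilizer N c)]
    have hst : stabilizer N θ = stabilizer N c := by
      ext n
      rw [mem_stabilizer_iff, mem_stabilizer_iff]
      change (n : G) • θ = θ ↔ n • c = c
      constructor
      · intro hn
        have := hRel_smul n θ c hθc
        rw [hn] at this
        exact hRel_funR θ _ _ this hθc
      · intro hn
        have := hRel_smul n θ c hθc
        rw [hn] at this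
        exact hRel_funL _ _ c this hθc
    rw [hst]
  -- the map
  have hbelow : ∀ χ : {χ : Cfsg.IrrCharacter G // ∀ g : G, ((χ : G → ℂ) g).im = 0},
      ∃ θ : RealIrr K, FixG θ ∧ Above χ.1 θ := by
    rintro ⟨χ, hr⟩
    obtain ⟨θ₀, hθ₀⟩ := exists_real_below hodd χ hr
    letI : MulAction (P : Subgroup G) (orbit G θ₀) := MulAction.compHom _ (P : Subgroup G).subtype
    obtain ⟨⟨_, g, rfl⟩, hy⟩ := P.isPGroup'.nonempty_fixed_point_of_prime_not_dvd_card
      (orbit G θ₀) (orbit_realIrr_coprime hreal hodd θ₀)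
    exact ⟨g • θ₀, fun x hx => congrArg Subtype.val (hy ⟨x, hx⟩), above_smul hθ₀ g⟩
  choose T hTfix hTabove using hbelow
  choose c hc using fun χ => hRel_right (T χ) (hTfix χ)
  choose ξ hξ using fun χ => (existsUnique_real_above hoddN (c χ)).exists
  have hdeg : ∀ χ, (Cfsg.charDegree (ξ χ : N → ℂ) : ZMod p) =
        (Cfsg.charDegree (χ.1 : G → ℂ) : ZMod p) ∨
      (Cfsg.charDegree (ξ χ : N → ℂ) : ZMod p) = -(Cfsg.charDegree (χ.1 : G → ℂ) : ZMod p) := by
    intro χ
    change (CfsgLib.Char.degree (ξ χ : N → ℂ) : ZMod p) =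
        (CfsgLib.Char.degree (χ.1 : G → ℂ) : ZMod p) ∨
      (CfsgLib.Char.degree (ξ χ : N → ℂ) : ZMod p) = -(CfsgLib.Char.degree (χ.1 : G → ℂ) : ZMod p)
    rw [degree_of_above hoddN (hξ χ).1 (hξ χ).2, degree_of_above hodd χ.2 (hTabove χ)]
    push_cast
    rw [horbit _ _ (hc χ)]
    rcases hRel_deg _ _ (hc χ) with h | h
    · left; rw [h]
    · right; rw [h, mul_neg]
  have hp' : ∀ χ, ¬ p ∣ Cfsg.charDegree (ξ χ : N → ℂ) := by
    intro χ hd
    refine hreal χ.1 χ.2 ((ZMod.natCast_eq_zero_iff _ p).mp ?_)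
    have h0 := (ZMod.natCast_eq_zero_iff _ p).mpr hd
    rcases hdeg χ with h | h <;> rw [h0] at h
    · exact h.symm
    · exact neg_eq_zero.mp h.symm
  refine ⟨fun χ => ⟨ξ χ, (hξ χ).1, hp' χ⟩, ⟨fun χ χ' h => ?_, fun η => ?_⟩, hdeg⟩
  · have h' : ξ χ = ξ χ' := congrArg Subtype.val h
    obtain ⟨n, hn⟩ := exists_smul_of_above (h' ▸ (hξ χ).2) (hξ χ').2
    have h1 := hRel_smul n _ _ (hc χ)
    rw [hn] at h1
    have h2 : (n : G) • T χ = T χ' := hRel_funL _ _ _ h1 (hc χ')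
    exact Subtype.ext (above_unique hodd χ.2 (h2 ▸ above_smul (hTabove χ) (n : G)) χ'.2
      (hTabove χ'))
  · obtain ⟨c₁, hc₁⟩ := exists_real_below hoddN η.1 η.2.1
    -- the real character below is invariant under `P`
    have hfixc : FixN c₁ := by
      have hdd : ¬ p ∣ Nat.card (orbit N c₁) := fun hd => η.2.2 (by
        change p ∣ CfsgLib.Char.degree (η.1 : N → ℂ)
        rw [degree_of_above hoddN η.2.1 hc₁]
        exact dvd_mul_of_dvd_left hd _)
      let PN : Subgroup N := (P : Subgroup G).subgroupOf N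
      have hPNp : IsPGroup p PN := P.isPGroup'.comap_subtype
      obtain ⟨⟨_, n, rfl⟩, hy⟩ :=
        hPNp.nonempty_fixed_point_of_prime_not_dvd_card (orbit N c₁) hdd
      have : FixN (n • c₁) := fun x hx =>
        congrArg Subtype.val (hy ⟨x, Subgroup.mem_subgroupOf.mpr hx⟩)
      simpa using hFixsmulN n⁻¹ _ this
    obtain ⟨θ₁, hθ₁⟩ := hRel_left c₁ hfixc
    obtain ⟨χ, hχr, hχθ⟩ := (existsUnique_real_above hodd θ₁).exists
    refine ⟨⟨χ, hχr⟩, Subtype.ext ?_⟩
    obtain ⟨g, hg⟩ := exists_smul_of_above (hTabove ⟨χ, hχr⟩) hχθ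
    obtain ⟨n, hn⟩ := hconjN _ θ₁ (hTfix ⟨χ, hχr⟩) hθ₁.1 ⟨g, hg⟩
    have h1 := hRel_smul n _ _ (hc ⟨χ, hχr⟩)
    rw [hn] at h1
    have h2 : n • c ⟨χ, hχr⟩ = c₁ := hRel_funR _ _ _ h1 hθ₁
    exact above_unique hoddN (hξ _).1 (h2 ▸ above_smul (hξ ⟨χ, hχr⟩).2 n) η.2.1 hc₁

end CfsgLib.RealChar
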