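import Cfsg.Agent.Lib.PGroup.MaximalClass
import Cfsg.Agent.Lib.PGroup.CyclicMaximalClass
import Cfsg.Agent.Lib.Char.GaloisConj
import Cfsg.Agent.Lib.Char.Complete
import Mathlib.NumberTheory.Cyclotomic.Basic
import Mathlib.FieldTheory.Galois.Basic

/-!
# The field of values at an element generating a cyclic maximal subgroup of a Sylow 2-subgroup
-/

set_option autoImplicit false
set_option linter.style.haveILetI false

namespace CfsgLib.RealChar.TwoField

open Cfsg
open scoped IntermediateField commutatorElement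

variable {G : Type*} [Group G] [Finite G]

/-- The field generated by the values at `g`. -/
noncomputable abbrev valueField (g : G) : IntermediateField ℚ ℂ :=
  IntermediateField.adjoin ℚ {z : ℂ | ∃ χ : Cfsg.IrrCharacter G, (χ : G → ℂ) g = z}

omit [Finite G] in
/-- A ring automorphism fixing generators fixes the generated field. -/
theorem fixes_adjoin (τ : ℂ ≃+* ℂ) (s : Set ℂ) (hs : ∀ z ∈ s, τ z = z) {x : ℂ}
    (hx : x ∈ IntermediateField.adjoin ℚ s) : τ x = x := by
  induction hx using IntermediateField.adjoin_induction with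
  | mem x hx => exact hs x hx
  | algebraMap x => simp
  | add x y _ _ hx hy => rw [map_add, hx, hy]
  | inv x _ hx => rw [map_inv₀, hx]
  | mul x y _ _ hx hy => rw [map_mul, hx, hy]

/-- Powers of `g` and automorphisms of `ℂ`. -/
theorem value_pow {g : G} {N k : ℕ} (hg : g ^ N = 1) (τ : ℂ ≃+* ℂ)
    (hτ : ∀ z : ℂ, z ^ N = 1 → τ z = z ^ k) (χ : Cfsg.IrrCharacter G) :
    (χ : G → ℂ) (g ^ k) = τ ((χ : G → ℂ) g) := by
  obtain ⟨f, n, ρ, hρ, rfl⟩ := χ
  obtain ⟨μ, hμ, -, -, hpow⟩ := CfsgLib.Char.exists_eigenvalues ρ g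
  have h1 := hpow 1
  simp only [pow_one] at h1
  show ρ.character (g ^ k) = τ (ρ.character g)
  rw [hpow k, h1, map_sum]
  refine Finset.sum_congr rfl fun i _ => (hτ _ ?_).symm
  obtain ⟨c, hc⟩ := orderOf_dvd_of_pow_eq_one hg
  rw [hc, pow_mul, hμ, one_pow]

omit [Finite G] in
theorem zeta_pow_eq_iff {N : ℕ} [NeZero N] {ζ : ℂ} (hζ : IsPrimitiveRoot ζ N) (a b : ℕ) :
    ζ ^ a = ζ ^ b ↔ a ≡ b [MOD N] := by
  rw [pow_eq_pow_mod a hζ.pow_eq_one, pow_eq_pow_mod b hζ.pow_eq_one]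
  exact ⟨fun h => hζ.pow_inj (Nat.mod_lt _ (NeZero.pos N)) (Nat.mod_lt _ (NeZero.pos N)) h,
    fun h => congrArg (ζ ^ ·) h⟩

/-- The values at `g` lie in the cyclotomic field. -/
theorem value_mem {g : G} {N : ℕ} [NeZero N] {ζ : ℂ} (hζ : IsPrimitiveRoot ζ N) (hg : g ^ N = 1)
    (χ : Cfsg.IrrCharacter G) : (χ : G → ℂ) g ∈ IntermediateField.adjoin ℚ ({ζ} : Set ℂ) := by
  have hmem : ζ ∈ IntermediateField.adjoin ℚ ({ζ} : Set ℂ) := IntermediateField.subset_adjoin ℚ _ rfl
  revert hmem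
  generalize IntermediateField.adjoin ℚ ({ζ} : Set ℂ) = K
  intro hmem
  obtain ⟨f, n, ρ, hρ, rfl⟩ := χ
  obtain ⟨μ, hμ, -, -, hpow⟩ := CfsgLib.Char.exists_eigenvalues ρ g
  have h1 := hpow 1
  simp only [pow_one] at h1
  show ρ.character g ∈ _
  rw [h1]
  refine sum_mem fun i _ => ?_
  have hi : μ i ^ N = 1 := by
    obtain ⟨c, hc⟩ := orderOf_dvd_of_pow_eq_one hg
    rw [hc, pow_mul, hμ, one_pow]
  obtain ⟨j, -, hj⟩ := hζ.eq_pow_of_pow_eq_one hi
  rw [← hj]
  exact pow_mem hmem j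

/-- Extend `ζ ↦ ζ ^ k` to `ℂ`. -/
theorem exists_tau {N k : ℕ} [NeZero N] (hk : k.Coprime N) :
    ∃ τ : ℂ ≃+* ℂ, ∀ z : ℂ, z ^ N = 1 → τ z = z ^ k :=
  CfsgLib.CharGalois.exists_ringEquiv_pow (NeZero.pos N) hk

/-- If `g ^ t` is conjugate to `g` then the values lie in the field fixed by `ζ ↦ ζ ^ t`. -/
theorem valueField_le {g : G} {N t : ℕ} [NeZero N] {ζ : ℂ} (hζ : IsPrimitiveRoot ζ N)
    (hg : g ^ N = 1) (ht : t.Coprime N) (htne : ζ ^ t ≠ ζ) (htt : (ζ ^ t) ^ t = ζ)
    (hc : ζ * ζ ^ t = 1 ∨ ζ * ζ ^ t = -1) (hconj : IsConj g (g ^ t)) :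
    valueField g ≤ IntermediateField.adjoin ℚ ({ζ + ζ ^ t} : Set ℂ) := by
  set E := IntermediateField.adjoin ℚ ({ζ + ζ ^ t} : Set ℂ) with hE
  obtain ⟨τ, hτ⟩ := exists_tau (N := N) ht
  have hτζ : τ ζ = ζ ^ t := hτ ζ hζ.pow_eq_one
  have hτE : ∀ a ∈ E, τ a = a := fun a ha => fixes_adjoin τ _ (fun z hz => by
    rw [Set.mem_singleton_iff] at hz
    rw [hz, map_add, map_pow, hτζ, htt, add_comm]) ha
  have hεE : ζ + ζ ^ t ∈ E := IntermediateField.subset_adjoin ℚ _ rfl
  have hcE : ζ * ζ ^ t ∈ E := by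
    rcases hc with h | h
    · rw [h]; exact one_mem E
    · rw [h]; exact neg_mem (one_mem E)
  have hint : IsIntegral ℚ ζ := (hζ.isIntegral (NeZero.pos N)).tower_top
  have hform : ∀ x ∈ Algebra.adjoin ℚ ({ζ} : Set ℂ), ∃ a ∈ E, ∃ b ∈ E, x = a + b * ζ := by
    intro x hx
    induction hx using Algebra.adjoin_induction with
    | mem z hz =>
      rw [Set.mem_singleton_iff] at hz
      exact ⟨0, zero_mem E, 1, one_mem E, by rw [hz]; ring⟩
    | algebraMap r => exact ⟨algebraMap ℚ ℂ r, E.algebraMap_mem r, 0, zero_mem E, by ring⟩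
    | add x y _ _ hx hy =>
      obtain ⟨a, ha, b, hb, rfl⟩ := hx
      obtain ⟨c, hc', d, hd, rfl⟩ := hy
      exact ⟨a + c, add_mem ha hc', b + d, add_mem hb hd, by ring⟩
    | mul x y _ _ hx hy =>
      obtain ⟨a, ha, b, hb, rfl⟩ := hx
      obtain ⟨c, hc', d, hd, rfl⟩ := hy
      refine ⟨a * c - b * d * (ζ * ζ ^ t), sub_mem (mul_mem ha hc') (mul_mem (mul_mem hb hd) hcE),
        a * d + b * c + b * d * (ζ + ζ ^ t),
        add_mem (add_mem (mul_mem ha hd) (mul_mem hb hc')) (mul_mem (mul_mem hb hd) hεE), by ring⟩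
  rw [valueField, IntermediateField.adjoin_le_iff]
  rintro _ ⟨χ, rfl⟩
  have hmem := value_mem hζ hg χ
  rw [← IntermediateField.mem_toSubalgebra,
    IntermediateField.adjoin_simple_toSubalgebra_of_isAlgebraic hint.isAlgebraic] at hmem
  obtain ⟨a, ha, b, hb, hab⟩ := hform _ hmem
  have hfix : τ ((χ : G → ℂ) g) = (χ : G → ℂ) g := by
    rw [← value_pow hg τ hτ χ]
    exact (CfsgLib.Char.IsClassFunction.eq_of_isConj
      (CfsgLib.Char.IsIrrCharacter.isClassFunction χ.2) hconj).symm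
  rw [hab, map_add, map_mul, hτE a ha, hτE b hb, hτζ] at hfix
  have hb0 : b = 0 := by
    have h0 : b * (ζ ^ t - ζ) = 0 := by linear_combination hfix
    exact (mul_eq_zero.mp h0).resolve_right (sub_ne_zero.mpr htne)
  show (χ : G → ℂ) g ∈ E
  rw [hab, hb0, zero_mul, add_zero]
  exact ha

/-- If only `g` and `g ^ t` among the Galois conjugates are conjugate to `g` then the value field
contains `ζ + ζ ^ t`. -/
theorem mem_valueField {g : G} {N t : ℕ} [NeZero N] {ζ : ℂ} (hζ : IsPrimitiveRoot ζ N)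
    (hg : g ^ N = 1) (htt : (ζ ^ t) ^ t = ζ)
    (hk : ∀ k : ℕ, k.Coprime N → IsConj g (g ^ k) → ζ ^ k = ζ ∨ ζ ^ k = ζ ^ t) :
    ζ + ζ ^ t ∈ valueField g := by
  set K := IntermediateField.adjoin ℚ ({ζ} : Set ℂ) with hK
  have hVK : valueField g ≤ K := by
    rw [valueField, IntermediateField.adjoin_le_iff]
    rintro _ ⟨χ, rfl⟩
    exact value_mem hζ hg χ
  haveI hcyc : IsCyclotomicExtension {N} ℚ K :=
    (IntermediateField.isCyclotomicExtension_singleton_iff_eq_adjoin (F := K) (hζ := hζ)).mpr rfl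
  haveI : IsGalois ℚ K := IsCyclotomicExtension.isGalois {N} ℚ K
  haveI : FiniteDimensional ℚ K := IsCyclotomicExtension.finite_of_singleton N ℚ K
  let V : IntermediateField ℚ K := IntermediateField.restrict hVK
  have hζK : ζ ∈ K := IntermediateField.subset_adjoin ℚ _ rfl
  have hεK : ζ + ζ ^ t ∈ K := add_mem hζK (pow_mem hζK t)
  suffices h : (⟨_, hεK⟩ : K) ∈ V by
    exact (IntermediateField.mem_restrict hVK _).mp h
  rw [← IsGalois.fixedField_fixingSubgroup V, IntermediateField.mem_fixedField_iff]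
  intro σ hσ
  rw [IntermediateField.mem_fixingSubgroup_iff] at hσ
  obtain ⟨τ, hτ⟩ := CfsgLib.CharGalois.exists_ringEquiv_extends σ.toRingEquiv
  have hroot : IsPrimitiveRoot (τ ζ) N := hζ.map_of_injective τ.injective
  obtain ⟨k, -, hkc, hkζ⟩ := hζ.isPrimitiveRoot_iff.mp hroot
  have hτpow : ∀ z : ℂ, z ^ N = 1 → τ z = z ^ k := by
    intro z hz
    obtain ⟨j, -, rfl⟩ := hζ.eq_pow_of_pow_eq_one hz
    rw [map_pow, ← hkζ, ← pow_mul, ← pow_mul, mul_comm]
  have hconj : IsConj g (g ^ k) := by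
    refine CfsgLib.Char.isConj_of_forall_eq fun χ hχ => ?_
    have hv := value_pow hg τ hτpow ⟨χ, hχ⟩
    have hmem : χ g ∈ valueField g := IntermediateField.subset_adjoin ℚ _ ⟨⟨χ, hχ⟩, rfl⟩
    have h2 := hσ ⟨χ g, hVK hmem⟩ ((IntermediateField.mem_restrict hVK _).mpr hmem)
    have h3 := hτ ⟨χ g, hVK hmem⟩
    rw [show σ.toRingEquiv ⟨χ g, hVK hmem⟩ = σ ⟨χ g, hVK hmem⟩ from rfl, h2] at h3
    exact (hv.trans h3).symm
  refine Subtype.ext ?_
  rw [← show τ (ζ + ζ ^ t) = ((σ ⟨_, hεK⟩ : K) : ℂ) from hτ ⟨_, hεK⟩, map_add,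
    map_pow, ← hkζ]
  rcases hk k hkc hconj with h | h
  · rw [h]
  · rw [h, htt, add_comm]

/-- The two admissible exponents. -/
theorem exponents {n : ℕ} (hn : 4 ≤ n) {ζ : ℂ} (hζ : IsPrimitiveRoot ζ (2 ^ (n - 1))) {t : ℕ}
    (ht : t = 2 ^ (n - 1) - 1 ∨ t = 2 ^ (n - 2) - 1) :
    Odd t ∧ ζ ^ t ≠ ζ ∧ (ζ ^ t) ^ t = ζ ∧ (ζ * ζ ^ t = 1 ∨ ζ * ζ ^ t = -1) := by
  obtain ⟨m, rfl⟩ : ∃ m, n = m + 4 := ⟨n - 4, by omega⟩
  simp only [show m + 4 - 1 = m + 3 by omega, show m + 4 - 2 = m + 2 by omega] at hζ ht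
  have hN : 2 ^ (m + 3) = 2 * 2 ^ (m + 2) := by ring
  have hM : 2 ^ (m + 2) = 4 * 2 ^ m := by ring
  have hpos : 1 ≤ 2 ^ m := Nat.one_le_two_pow
  have hodd : Odd t := by
    rcases ht with rfl | rfl <;> rw [Nat.odd_iff] <;> omega
  have hhalf : ζ ^ 2 ^ (m + 2) = -1 :=
    (hζ.pow (by positivity) (show 2 ^ (m + 3) = 2 ^ (m + 2) * 2 by ring)).eq_neg_one_of_two_right
  have hne : ζ ≠ 0 := hζ.ne_zero (by positivity)
  have hc : ζ * ζ ^ t = 1 ∨ ζ * ζ ^ t = -1 := by
    rcases ht with rfl | rfl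
    · left
      rw [← pow_succ', Nat.sub_add_cancel (by omega), hζ.pow_eq_one]
    · right
      rw [← pow_succ', Nat.sub_add_cancel (by omega), hhalf]
  refine ⟨hodd, ?_, ?_, hc⟩
  · intro h
    rw [h] at hc
    have h4 : ζ ^ 4 = 1 := by
      rcases hc with h | h
      · linear_combination (ζ * ζ + 1) * h
      · linear_combination (ζ * ζ - 1) * h
    have := Nat.le_of_dvd (by norm_num) (hζ.dvd_of_pow_eq_one 4 h4)
    omega
  · rcases hc with h | h
    · have h1 : (ζ * ζ ^ t) ^ t = 1 := by rw [h, one_pow]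
      rw [mul_pow] at h1
      refine mul_left_cancel₀ (pow_ne_zero t hne) (h1.trans ?_)
      rw [mul_comm, h]
    · have h1 : (ζ * ζ ^ t) ^ t = -1 := by rw [h, hodd.neg_one_pow]
      rw [mul_pow] at h1
      refine mul_left_cancel₀ (pow_ne_zero t hne) (h1.trans ?_)
      rw [mul_comm, h]

/-- The two fields of the statement. -/
theorem pow_exponent {n : ℕ} (hn : 3 ≤ n) {ζ : ℂ} (hζ : IsPrimitiveRoot ζ (2 ^ (n - 1))) :
    ζ ^ (2 ^ (n - 1) - 1) = ζ⁻¹ ∧ (4 ≤ n → ζ ^ (2 ^ (n - 2) - 1) = -ζ⁻¹) := by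
  have hne : ζ ≠ 0 := hζ.ne_zero (by positivity)
  refine ⟨?_, fun h4 => ?_⟩
  · refine eq_inv_of_mul_eq_one_right ?_
    rw [← pow_succ', Nat.sub_add_cancel Nat.one_le_two_pow, hζ.pow_eq_one]
  · have hhalf : ζ ^ 2 ^ (n - 2) = -1 := by
      refine (hζ.pow (by positivity) ?_).eq_neg_one_of_two_right
      rw [show n - 1 = n - 2 + 1 by omega, pow_succ]
    have h1 : ζ * ζ ^ (2 ^ (n - 2) - 1) = -1 := by
      rw [← pow_succ', Nat.sub_add_cancel Nat.one_le_two_pow, hhalf]
    refine mul_left_cancel₀ hne (h1.trans ?_)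
    rw [mul_neg, mul_inv_cancel₀ hne]

omit [Finite G] in
/-- Index four of the derived group passes along equivalences. -/
theorem index_commutator_congr {A B : Type*} [Group A] [Group B] (e : A ≃* B) :
    (commutator B).index = (commutator A).index := by
  have h : commutator B = (commutator A).map e.toMonoidHom := by
    rw [commutator_def, commutator_def, Subgroup.map_commutator,
      Subgroup.map_top_of_surjective _ e.surjective]
  rw [h]
  exact Subgroup.index_map_equiv _ e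

/-- A noncommutative `2`-group has derived subgroup of index at least four. -/
theorem four_le_index {X : Type*} [Group X] [Finite X] (hX : IsPGroup 2 X)
    (hna : ¬ ∀ x y : X, x * y = y * x) : 4 ≤ (commutator X).index := by
  haveI : Fact (Nat.Prime 2) := ⟨Nat.prime_two⟩
  by_contra hlt
  obtain ⟨k, hk⟩ := hX.index (commutator X)
  have hk1 : k ≤ 1 := by
    by_contra h
    have := Nat.pow_le_pow_right (show 0 < 2 by norm_num) (show 2 ≤ k by omega)
    omega
  obtain ⟨y, hy⟩ : ∃ y : X, Subgroup.zpowers y ⊔ commutator X = ⊤ := by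
    rcases Nat.le_one_iff_eq_zero_or_eq_one.mp hk1 with rfl | rfl
    · exact ⟨1, by rw [Subgroup.index_eq_one.mp (hk.trans (pow_zero 2)), sup_top_eq]⟩
    · obtain ⟨y, hy⟩ : ∃ y, y ∉ commutator X := by
        by_contra h
        push Not at h
        rw [(Subgroup.eq_top_iff' _).mpr h, Subgroup.index_top] at hk
        omega
      refine ⟨y, ?_⟩
      have hle : commutator X ≤ Subgroup.zpowers y ⊔ commutator X := le_sup_right
      have h2 := Subgroup.relIndex_mul_index hle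
      rw [hk, pow_one] at h2
      rcases (Nat.dvd_prime Nat.prime_two).mp (Dvd.intro_left _ h2) with h | h
      · exact Subgroup.index_eq_one.mp h
      · rw [h] at h2
        exact absurd ((Subgroup.relIndex_eq_one (H := commutator X)
          (K := Subgroup.zpowers y ⊔ commutator X)).mp (by omega)
          (Subgroup.mem_sup_left (Subgroup.mem_zpowers y))) hy
  have htop := CfsgLib.PGroup.MaxClass.eq_or_isCyclic_of_sup_commutator hX y hy
  refine hna fun a b => ?_
  obtain ⟨i, rfl⟩ := Subgroup.mem_zpowers_iff.mp (htop ▸ Subgroup.mem_top a)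
  obtain ⟨j, rfl⟩ := Subgroup.mem_zpowers_iff.mp (htop ▸ Subgroup.mem_top b)
  exact (Commute.refl y).zpow_zpow i j

omit [Finite G] in
/-- An element of maximal order of an abelian or cyclic Sylow subgroup has class of odd size. -/
theorem even_class_not_central (P : Sylow 2 G) [Finite G] {g : G}
    (heven : 2 ∣ (Subgroup.centralizer ({g} : Set G)).index)
    (hP : (P : Subgroup G) ≤ Subgroup.centralizer ({g} : Set G)) : False := by
  haveI : Fact (Nat.Prime 2) := ⟨Nat.prime_two⟩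
  exact P.not_dvd_index (heven.trans (Subgroup.index_dvd_of_le hP))

/-- The backward direction. -/
theorem index_four_of_field (P : Sylow 2 G) (n : ℕ) (hn : 3 ≤ n) (hP : Nat.card P = 2 ^ n) {ζ : ℂ}
    (hζ : IsPrimitiveRoot ζ (2 ^ (n - 1))) {g : G} (hgP : g ∈ (P : Subgroup G))
    (heven : 2 ∣ (Subgroup.centralizer ({g} : Set G)).index)
    (hfield : valueField g = IntermediateField.adjoin ℚ ({ζ + ζ⁻¹} : Set ℂ) ∨
      valueField g = IntermediateField.adjoin ℚ ({ζ - ζ⁻¹} : Set ℂ)) :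
    (commutator P).index = 4 := by
  classical
  haveI : Fact (Nat.Prime 2) := ⟨Nat.prime_two⟩
  have hna : ¬ ∀ x y : P, x * y = y * x := fun h =>
    even_class_not_central P heven fun x hx => Subgroup.mem_centralizer_singleton_iff.mpr
      (congrArg Subtype.val (h ⟨x, hx⟩ ⟨g, hgP⟩))
  have h4 := four_le_index P.isPGroup' hna
  rcases hn.eq_or_lt with rfl | hn4
  · have hne : commutator P ≠ ⊥ := fun h => hna fun x y =>
      commutatorElement_eq_one_iff_mul_comm.mp (Subgroup.mem_bot.mp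
        (h ▸ Subgroup.commutator_mem_commutator (Subgroup.mem_top x) (Subgroup.mem_top y)))
    have h1 := (commutator P).card_mul_index
    have h2 := (commutator P).one_lt_card_iff_ne_bot.mpr hne
    rw [hP] at h1
    have h3 : 2 * (commutator P).index ≤ 2 ^ 3 := h1 ▸ Nat.mul_le_mul_right _ h2
    omega
  replace hn4 : 4 ≤ n := hn4
  have h1 := pow_exponent hn hζ
  obtain ⟨t, ht, hVf⟩ : ∃ t, (t = 2 ^ (n - 1) - 1 ∨ t = 2 ^ (n - 2) - 1) ∧
      valueField g = IntermediateField.adjoin ℚ ({ζ + ζ ^ t} : Set ℂ) := by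
    rcases hfield with h | h
    · exact ⟨_, Or.inl rfl, by rw [h1.1]; exact h⟩
    · exact ⟨_, Or.inr rfl, by rw [h1.2 hn4, ← sub_eq_add_neg]; exact h⟩
  obtain ⟨hodd, htne, htt, hc⟩ := exponents hn4 hζ ht
  set N := 2 ^ (n - 1) with hN
  haveI : NeZero N := ⟨pow_ne_zero _ two_ne_zero⟩
  obtain ⟨m, hm⟩ := IsPGroup.iff_orderOf.mp P.isPGroup' ⟨g, hgP⟩
  rw [← Subgroup.orderOf_coe] at hm
  simp only at hm
  have hmn : m ≤ n - 1 := by
    by_contra h
    have hle : Subgroup.zpowers g ≤ (P : Subgroup G) := Subgroup.zpowers_le.mpr hgP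
    have heq : Subgroup.zpowers g = (P : Subgroup G) := Subgroup.eq_of_le_of_card_ge hle (by
      rw [Nat.card_zpowers, hm, hP]
      exact Nat.pow_le_pow_right (by norm_num) (by omega))
    refine hna fun x y => Subtype.ext ?_
    obtain ⟨i, hi⟩ := Subgroup.mem_zpowers_iff.mp (show (x : G) ∈ Subgroup.zpowers g from
      heq.symm ▸ (x.2 : (x : G) ∈ (P : Subgroup G)))
    obtain ⟨j, hj⟩ := Subgroup.mem_zpowers_iff.mp (show (y : G) ∈ Subgroup.zpowers g from
      heq.symm ▸ (y.2 : (y : G) ∈ (P : Subgroup G)))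
    show (x : G) * y = y * x
    rw [← hi, ← hj]
    exact (Commute.refl g).zpow_zpow i j
  have hgN : g ^ N = 1 := orderOf_dvd_iff_pow_eq_one.mp (hm ▸ pow_dvd_pow 2 hmn)
  have hfixes : ∀ (τ : ℂ ≃+* ℂ), τ (ζ + ζ ^ t) = ζ + ζ ^ t →
      ∀ χ : Cfsg.IrrCharacter G, τ ((χ : G → ℂ) g) = (χ : G → ℂ) g := by
    intro τ hτ χ
    have hmem : (χ : G → ℂ) g ∈ valueField g := IntermediateField.subset_adjoin ℚ _ ⟨χ, rfl⟩
    rw [hVf] at hmem
    exact fixes_adjoin τ _ (fun z hz => by rw [Set.mem_singleton_iff.mp hz, hτ]) hmem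
  have hhalf : ζ ^ 2 ^ (n - 2) = -1 := by
    refine (hζ.pow (by positivity) ?_).eq_neg_one_of_two_right
    rw [hN, show n - 1 = n - 2 + 1 by omega, pow_succ]
  have hmeq : m = n - 1 := by
    by_contra hne
    obtain ⟨τ, hτ⟩ := exists_tau (N := N) (k := 2 ^ (n - 2) + 1) (by
      refine Nat.Coprime.pow_right _ (Nat.coprime_two_right.mpr ?_)
      exact (Nat.even_pow.mpr ⟨even_two, by omega⟩).add_one)
    have hτζ : τ ζ = -ζ := by
      rw [hτ ζ hζ.pow_eq_one, pow_succ, hhalf]; ring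
    have hfix : ∀ χ : Cfsg.IrrCharacter G, τ ((χ : G → ℂ) g) = (χ : G → ℂ) g := by
      intro χ
      rw [← value_pow hgN τ hτ χ, pow_succ, orderOf_dvd_iff_pow_eq_one.mp
        (hm ▸ pow_dvd_pow 2 (show m ≤ n - 2 by omega)), one_mul]
    have hε : τ (ζ + ζ ^ t) = ζ + ζ ^ t := by
      refine fixes_adjoin τ _ (fun z hz => ?_) (hVf ▸ IntermediateField.subset_adjoin ℚ _ rfl :
        ζ + ζ ^ t ∈ valueField g)
      obtain ⟨χ, rfl⟩ := hz
      exact hfix χ
    rw [map_add, map_pow, hτζ, hodd.neg_pow] at hε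
    have h0 : ζ + ζ ^ t = 0 := by linear_combination (-1 / 2 : ℂ) * hε
    have h4' : ζ ^ 4 = 1 := by
      rcases hc with h | h
      · linear_combination (ζ * ζ - 1) * (ζ * h0 - h)
      · linear_combination (ζ * ζ + 1) * (ζ * h0 - h)
    have := Nat.le_of_dvd (by norm_num) (hζ.dvd_of_pow_eq_one 4 h4')
    have : 2 ^ 3 ≤ N := Nat.pow_le_pow_right (by norm_num) (by omega)
    omega
  subst hmeq
  have hcop : t.Coprime N := Nat.Coprime.pow_right _ (Nat.coprime_two_right.mpr hodd)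
  obtain ⟨τ, hτ⟩ := exists_tau (N := N) hcop
  have hconj : IsConj g (g ^ t) := CfsgLib.Char.isConj_of_forall_eq fun χ hχ => by
    have hv := value_pow hgN τ hτ ⟨χ, hχ⟩
    rw [hfixes τ (by rw [map_add, map_pow, hτ ζ hζ.pow_eq_one, htt, add_comm]) ⟨χ, hχ⟩] at hv
    exact hv.symm
  obtain ⟨x, hx⟩ := isConj_iff.mp hconj
  -- pass to the `2`-part of `x`
  obtain ⟨a, b, hb, hab⟩ : ∃ a b, Odd b ∧ orderOf x = 2 ^ a * b :=
    Nat.exists_eq_pow_mul_and_not_dvd (orderOf_pos x).ne' 2 (by norm_num) |>.elim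
      fun a ⟨b, hb, h⟩ => ⟨a, b, Nat.odd_iff.mpr (by omega), h⟩
  have hgtt : (g ^ t) ^ t = g := by
    have hmod : t * t ≡ 1 [MOD N] := by
      rw [← zeta_pow_eq_iff hζ, pow_mul, htt, pow_one]
    rw [← pow_mul]
    conv_rhs => rw [← pow_one g]
    rw [pow_eq_pow_iff_modEq, hm]
    exact hmod
  have hx2 : x ^ 2 * g * (x ^ 2)⁻¹ = g := by
    rw [pow_two, show x * x * g * (x * x)⁻¹ = x * (x * g * x⁻¹) * x⁻¹ by group, hx, ← conj_pow,
      hx, hgtt]
  have hxb : x ^ b * g * (x ^ b)⁻¹ = g ^ t := by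
    obtain ⟨c, hc'⟩ := hb
    have hcomm : ∀ i : ℕ, (x ^ 2) ^ i * g * ((x ^ 2) ^ i)⁻¹ = g := by
      intro i
      induction i with
      | zero => simp
      | succ i ih =>
        rw [pow_succ', show x ^ 2 * (x ^ 2) ^ i * g * (x ^ 2 * (x ^ 2) ^ i)⁻¹ =
          x ^ 2 * ((x ^ 2) ^ i * g * ((x ^ 2) ^ i)⁻¹) * (x ^ 2)⁻¹ by group, ih, hx2]
    rw [hc', show x ^ (2 * c + 1) = x * (x ^ 2) ^ c by rw [← pow_mul, pow_succ'],
      show x * (x ^ 2) ^ c * g * (x * (x ^ 2) ^ c)⁻¹ =
        x * ((x ^ 2) ^ c * g * ((x ^ 2) ^ c)⁻¹) * x⁻¹ by group, hcomm, hx]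
  have hxbp : IsPGroup 2 (Subgroup.zpowers (x ^ b)) := by
    refine IsPGroup.iff_card.mpr ?_
    have h : orderOf (x ^ b) ∣ 2 ^ a := by
      refine orderOf_dvd_of_pow_eq_one ?_
      rw [← pow_mul, mul_comm, ← hab, pow_orderOf_eq_one]
    obtain ⟨i, -, hi⟩ := (Nat.dvd_prime_pow Nat.prime_two).mp h
    exact ⟨i, by rw [Nat.card_zpowers, hi]⟩
  have hnorm : Subgroup.zpowers (x ^ b) ≤ Subgroup.normalizer (Subgroup.zpowers g : Set G) := by
    rw [Subgroup.zpowers_le, Subgroup.mem_normalizer_iff_map_conj_eq, MonoidHom.map_zpowers]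
    show Subgroup.zpowers (x ^ b * g * (x ^ b)⁻¹) = Subgroup.zpowers g
    rw [hxb]
    refine le_antisymm (Subgroup.zpowers_le.mpr ⟨t, by simp⟩) (Subgroup.zpowers_le.mpr ⟨t, ?_⟩)
    simpa using hgtt
  have hS : IsPGroup 2 (Subgroup.zpowers g ⊔ Subgroup.zpowers (x ^ b) : Subgroup G) :=
    (P.isPGroup'.to_le (Subgroup.zpowers_le.mpr hgP)).to_sup_of_normal_left' hxbp hnorm
  obtain ⟨Q, hQ⟩ := hS.exists_le_sylow
  have hgQ : g ∈ (Q : Subgroup G) := hQ (Subgroup.mem_sup_left (Subgroup.mem_zpowers g))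
  have hxQ : x ^ b ∈ (Q : Subgroup G) := hQ (Subgroup.mem_sup_right (Subgroup.mem_zpowers _))
  let g' : Q := ⟨g, hgQ⟩
  have hgc : g' ^ (t - 1) ∈ commutator Q := by
    have h := Subgroup.commutator_mem_commutator (Subgroup.mem_top (⟨x ^ b, hxQ⟩ : Q))
      (Subgroup.mem_top g')
    have he : g' ^ (t - 1) = ⁅(⟨x ^ b, hxQ⟩ : Q), g'⁆ := by
     refine Subtype.ext ?_
     show g ^ (t - 1) = x ^ b * g * (x ^ b)⁻¹ * g⁻¹
     rw [hxb]
     rw [pow_sub g hodd.pos, pow_one]
    rw [he]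
    exact h
  obtain ⟨c, hc'⟩ : ∃ c, t - 1 = 2 * c ∧ Odd c := by
    obtain ⟨m', rfl⟩ : ∃ m', n = m' + 4 := ⟨n - 4, by omega⟩
    simp only [show m' + 4 - 1 = m' + 3 by omega, show m' + 4 - 2 = m' + 2 by omega] at ht
    have hM : 2 ^ (m' + 2) = 4 * 2 ^ m' := by ring
    have hM' : 2 ^ (m' + 3) = 8 * 2 ^ m' := by ring
    have := Nat.one_le_two_pow (n := m')
    rcases ht with rfl | rfl <;> refine ⟨_, (Nat.mul_div_cancel' ?_).symm, Nat.odd_iff.mpr ?_⟩ <;>
      simp only [hN, show m' + 4 - 1 = m' + 3 by omega] at * <;> omega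
  have hg2 : g' ^ 2 ∈ commutator Q := by
    have h : Nat.Coprime c (orderOf (g' ^ 2)) := by
      obtain ⟨i, hi⟩ := IsPGroup.iff_orderOf.mp Q.isPGroup' (g' ^ 2)
      rw [hi]
      exact Nat.Coprime.pow_right _ (Nat.coprime_two_right.mpr hc'.2)
    obtain ⟨i, hi⟩ := exists_pow_eq_self_of_coprime h
    rw [← hi, ← pow_mul g' 2 c, ← hc'.1]
    exact pow_mem hgc i
  have hord : orderOf (g' ^ 2) = 2 ^ (n - 2) := by
    rw [orderOf_pow' _ two_ne_zero, ← Subgroup.orderOf_coe, show ((g' : Q) : G) = g from rfl, hm,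
      show n - 1 = n - 2 + 1 by omega, pow_succ, Nat.gcd_mul_left_left,
      Nat.mul_div_cancel _ (by norm_num)]
  have hdvd : 2 ^ (n - 2) ∣ Nat.card (commutator Q) := by
    rw [← hord]
    exact Subgroup.orderOf_dvd_natCard _ hg2
  have hQc : Nat.card Q = 2 ^ n := by rw [Nat.card_congr (Q.equiv P).toEquiv, hP]
  have hprod := (commutator Q).card_mul_index
  rw [hQc] at hprod
  have hle : (commutator Q).index ≤ 4 := by
    have h := Nat.mul_le_mul_right (commutator Q).index (Nat.le_of_dvd Nat.card_pos hdvd)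
    rw [hprod, show n = n - 2 + 2 by omega, pow_add] at h
    simp only [Nat.add_sub_cancel] at h
    exact Nat.le_of_mul_le_mul_left h (by positivity)
  rw [index_commutator_congr (Q.equiv P)]
  have := index_commutator_congr (Q.equiv P)
  omega

/-- The forward direction. -/
theorem exists_field_of_index_four (P : Sylow 2 G) (n : ℕ) (hn : 3 ≤ n) (hP : Nat.card P = 2 ^ n)
    {ζ : ℂ} (hζ : IsPrimitiveRoot ζ (2 ^ (n - 1))) (hidx : (commutator P).index = 4) :
    ∃ g : G, g ∈ (P : Subgroup G) ∧ 2 ∣ (Subgroup.centralizer ({g} : Set G)).index ∧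
      (valueField g = IntermediateField.adjoin ℚ ({ζ + ζ⁻¹} : Set ℂ) ∨
        valueField g = IntermediateField.adjoin ℚ ({ζ - ζ⁻¹} : Set ℂ)) := by
  classical
  haveI : Fact (Nat.Prime 2) := ⟨Nat.prime_two⟩
  obtain ⟨a, b, ha, -, hgen, -, hbab, -, hZ, haZ⟩ :=
    CfsgLib.PGroup.MaxClass.structure_two n hn hP hidx
  set g : G := (a : G) with hgdef
  set N := 2 ^ (n - 1) with hN
  haveI : NeZero N := ⟨pow_ne_zero _ two_ne_zero⟩
  have hg : orderOf g = N := by rw [hgdef, Subgroup.orderOf_coe]; exact ha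
  have hgN : g ^ N = 1 := hg ▸ pow_orderOf_eq_one g
  have hN4 : 4 ≤ N := by
    calc 4 = 2 ^ 2 := by norm_num
      _ ≤ N := Nat.pow_le_pow_right (by norm_num) (by omega)
  have hnc : b * a * b⁻¹ ≠ a := by
    intro h
    have hab : Commute a b := by
      have := mul_inv_eq_iff_eq_mul.mp h
      exact this.symm
    have hcomm := CfsgLib.PGroup.comm_of_generators hgen hab
    have hbot : commutator P = ⊥ := by
      rw [commutator_def, Subgroup.commutator_eq_bot_iff_le_centralizer]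
      exact fun x _ => Subgroup.mem_centralizer_iff.mpr fun y _ => hcomm y x
    rw [hbot, Subgroup.index_bot, hP] at hidx
    have := Nat.pow_le_pow_right (show 0 < 2 by norm_num) hn
    omega
  -- the exponent
  set z := a ^ 2 ^ (n - 2) with hz
  have hz1 : z ≠ 1 := by
    intro h
    have := Nat.le_of_dvd (by positivity) (orderOf_dvd_of_pow_eq_one h)
    rw [ha, hN, show n - 1 = n - 2 + 1 by omega, pow_succ] at this
    have := Nat.one_le_two_pow (n := n - 2)
    omega
  have hcenter : ∀ y ∈ Subgroup.center P, y = 1 ∨ y = z := by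
    intro y hy
    by_cases h1 : y = 1
    · exact Or.inl h1
    obtain ⟨w, -, huniq⟩ := (Nat.card_eq_two_iff' (1 : Subgroup.center P)).mp hZ
    have e1 := huniq ⟨y, hy⟩ (fun h => h1 (congrArg Subtype.val h))
    have e2 := huniq ⟨z, haZ⟩ (fun h => hz1 (congrArg Subtype.val h))
    exact Or.inr (congrArg Subtype.val (e1.trans e2.symm))
  obtain ⟨t, ht, ht4, hbt⟩ : ∃ t, (t = N - 1 ∨ t = 2 ^ (n - 2) - 1) ∧
      (t = 2 ^ (n - 2) - 1 → 4 ≤ n) ∧ b * a * b⁻¹ = a ^ t := by
    have haN : a ^ N = 1 := ha ▸ pow_orderOf_eq_one a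
    rcases hcenter _ hbab with h | h
    · refine ⟨N - 1, Or.inl rfl, fun he => ?_, ?_⟩
      · by_contra hlt
        obtain rfl : n = 3 := by omega
        norm_num [hN] at he
      · rw [pow_sub a (by omega : 1 ≤ N), haN, one_mul, pow_one]
        exact eq_inv_of_mul_eq_one_left h
    · refine ⟨2 ^ (n - 2) - 1, Or.inr rfl, fun _ => ?_, ?_⟩
      · by_contra hlt
        obtain rfl : n = 3 := by omega
        refine hnc (mul_right_cancel (b := a) ?_)
        rw [h, hz]
        norm_num [pow_two]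
      · rw [pow_sub a Nat.one_le_two_pow, pow_one, ← hz, ← h, mul_inv_cancel_right]
  have hbg : (b : G) * g * (b : G)⁻¹ = g ^ t := congrArg Subtype.val hbt
  have hgt : g ^ t ≠ g := by
    intro h
    exact hnc (Subtype.ext (by simpa [hgdef] using hbg.trans h))
  have hζt : ζ ^ t ≠ ζ := by
    intro h
    refine hgt ?_
    conv_rhs => rw [← pow_one g]
    rw [pow_eq_pow_iff_modEq, hg, ← zeta_pow_eq_iff hζ, pow_one]
    exact h
  have hodd : Odd t := by
    have h1 : N = 2 * 2 ^ (n - 2) := by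
      rw [hN, show n - 1 = n - 2 + 1 by omega, pow_succ]; ring
    have h2 : 2 ^ (n - 2) = 2 * 2 ^ (n - 3) := by
      rw [show n - 2 = n - 3 + 1 by omega, pow_succ]; ring
    have := Nat.one_le_two_pow (n := n - 3)
    rcases ht with rfl | rfl <;> rw [Nat.odd_iff] <;> omega
  have hne : ζ ≠ 0 := hζ.ne_zero (by positivity)
  obtain ⟨htt, hc, hε⟩ : (ζ ^ t) ^ t = ζ ∧ (ζ * ζ ^ t = 1 ∨ ζ * ζ ^ t = -1) ∧
      (ζ + ζ ^ t = ζ + ζ⁻¹ ∨ ζ + ζ ^ t = ζ - ζ⁻¹) := by
    obtain ⟨hp1, hp2⟩ := pow_exponent hn hζ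
    rcases ht with rfl | rfl
    · rw [hp1]
      refine ⟨?_, Or.inl (mul_inv_cancel₀ hne), Or.inl rfl⟩
      rw [inv_pow, hp1, inv_inv]
    · obtain ⟨-, -, h1, h2⟩ := exponents (ht4 rfl) hζ (Or.inr rfl)
      exact ⟨h1, h2, Or.inr (by rw [hp2 (ht4 rfl), ← sub_eq_add_neg])⟩
  have hcop : t.Coprime N := Nat.Coprime.pow_right _ (Nat.coprime_two_right.mpr hodd)
  set C := Subgroup.centralizer ({g} : Set G) with hC
  have heven : 2 ∣ C.index := by
    by_contra hodd'
    obtain ⟨S⟩ := (inferInstance : Nonempty (Sylow 2 C))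
    have hSc : Nat.card S = 2 ^ n := by
      rw [S.card_eq_multiplicity, ← hP, P.card_eq_multiplicity, ← C.card_mul_index,
        Nat.factorization_mul Nat.card_pos.ne' Subgroup.index_ne_zero_of_finite, Finsupp.add_apply,
        Nat.factorization_eq_zero_of_not_dvd hodd', add_zero]
    obtain ⟨Q, hQ⟩ := (S.isPGroup'.map C.subtype).exists_le_sylow
    have hQe : (S : Subgroup C).map C.subtype = (Q : Subgroup G) := by
      refine Subgroup.eq_of_le_of_card_ge hQ ?_
      rw [Subgroup.card_map_of_injective C.subtype_injective, Nat.card_congr (Q.equiv P).toEquiv, hP]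
      exact hSc.ge
    have hQC : (Q : Subgroup G) ≤ C := hQe ▸ Subgroup.map_subtype_le _
    have hgQ : g ∈ (Q : Subgroup G) := by
      have hnorm : (Q : Subgroup G) ≤ Subgroup.normalizer (Subgroup.zpowers g : Set G) :=
        hQC.trans ((Subgroup.centralizer_le_normalizer _).trans' (by
          intro x hx
          rw [Subgroup.mem_centralizer_iff]
          rintro _ ⟨i, rfl⟩
          exact ((show Commute x g from Subgroup.mem_centralizer_singleton_iff.mp hx).zpow_right i).symm))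
      have hp : IsPGroup 2 (Subgroup.zpowers g ⊔ (Q : Subgroup G) : Subgroup G) :=
        (P.isPGroup'.to_le (Subgroup.zpowers_le.mpr a.2)).to_sup_of_normal_left' Q.isPGroup' hnorm
      rw [← Q.is_maximal' hp le_sup_right]
      exact Subgroup.mem_sup_left (Subgroup.mem_zpowers g)
    let e := Q.equiv P
    have hcen : e ⟨g, hgQ⟩ ∈ Subgroup.center P := by
      refine Subgroup.mem_center_iff.mpr fun y => ?_
      obtain ⟨y, rfl⟩ := e.surjective y
      rw [← map_mul, ← map_mul]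
      exact congrArg e (Subtype.ext (Subgroup.mem_centralizer_singleton_iff.mp (hQC y.2)))
    have h2 := Subgroup.orderOf_dvd_natCard _ hcen
    rw [hZ, MulEquiv.orderOf_eq, ← Subgroup.orderOf_coe, hg] at h2
    have := Nat.le_of_dvd two_pos h2
    omega
  refine ⟨g, a.2, heven, ?_⟩
  -- the automiser of `⟨g⟩`
  set H := Subgroup.zpowers g with hH
  set f := H.normalizerMonoidHom with hf
  have hfker : Nat.card f.ker = Nat.card C := by
    have hcen : Subgroup.centralizer (H : Set G) = C := by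
      refine le_antisymm (Subgroup.centralizer_le (Set.singleton_subset_iff.mpr
        (Subgroup.mem_zpowers g))) fun x hx => ?_
      rw [Subgroup.mem_centralizer_iff]
      rintro _ ⟨i, rfl⟩
      exact ((show Commute x g from Subgroup.mem_centralizer_singleton_iff.mp hx).zpow_right i).symm
    rw [hf, Subgroup.normalizerMonoidHom_ker, hcen]
    refine Nat.card_congr (Subgroup.subgroupOfEquivOfLe ?_).toEquiv
    exact hcen ▸ Subgroup.centralizer_le_normalizer _
  have hautc : Nat.card (MulAut H) = 2 ^ (n - 2) := by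
    rw [IsCyclic.card_mulAut, Nat.card_zpowers, hg, hN,
      Nat.totient_prime_pow Nat.prime_two (by omega), show n - 1 - 1 = n - 2 by omega]
    ring
  have hrange : Nat.card f.range ≤ 2 := by
    have hdvd : Nat.card f.range ∣ 2 ^ (n - 2) := hautc ▸ Subgroup.card_subgroup_dvd_card _
    obtain ⟨j, -, hj⟩ := (Nat.dvd_prime_pow Nat.prime_two).mp hdvd
    have hN' : Nat.card C * Nat.card f.range ∣ Nat.card G := by
      rw [← hfker, ← Subgroup.index_ker f, Subgroup.card_mul_index]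
      exact Subgroup.card_subgroup_dvd_card _
    have hNC : N ∣ Nat.card C := by
      rw [← hg]
      exact Subgroup.orderOf_dvd_natCard _ (Subgroup.mem_centralizer_singleton_iff.mpr rfl)
    have h := Nat.prime_two.pow_dvd_iff_le_factorization Nat.card_pos.ne' |>.mp
      (show 2 ^ (n - 1 + j) ∣ Nat.card G by
        rw [pow_add, ← hj]
        exact (Nat.mul_dvd_mul_right hNC _).trans hN')
    have hfac : (Nat.card G).factorization 2 = n := by
      have := P.card_eq_multiplicity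
      rw [hP] at this
      exact (Nat.pow_right_injective (le_refl 2) this).symm
    rw [hj]
    calc 2 ^ j ≤ 2 ^ 1 := Nat.pow_le_pow_right (by norm_num) (by omega)
      _ = 2 := pow_one 2
  have hnmem : ∀ (x : G) (k : ℕ), k.Coprime N → x * g * x⁻¹ = g ^ k →
      x ∈ Subgroup.normalizer (H : Set G) := by
    intro x k hk hx
    rw [Subgroup.mem_normalizer_iff_map_conj_eq, hH, MonoidHom.map_zpowers]
    show Subgroup.zpowers (x * g * x⁻¹) = Subgroup.zpowers g
    rw [hx]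
    refine Subgroup.eq_of_le_of_card_ge (Subgroup.zpowers_le.mpr ⟨k, by simp⟩) ?_
    rw [Nat.card_zpowers, Nat.card_zpowers, Nat.Coprime.orderOf_pow (hg ▸ hk.symm)]
  have hW : ∀ k : ℕ, k.Coprime N → IsConj g (g ^ k) → ζ ^ k = ζ ∨ ζ ^ k = ζ ^ t := by
    intro k hk hconj
    obtain ⟨x, hx⟩ := isConj_iff.mp hconj
    let u : Subgroup.normalizer (H : Set G) := ⟨x, hnmem x k hk hx⟩
    let v : Subgroup.normalizer (H : Set G) := ⟨b, hnmem b t hcop hbg⟩
    have hval : ∀ w : Subgroup.normalizer (H : Set G),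
        ((f w ⟨g, Subgroup.mem_zpowers g⟩ : H) : G) = (w : G) * g * (w : G)⁻¹ := fun w => rfl
    have hv1 : (⟨f v, v, rfl⟩ : f.range) ≠ 1 := by
      intro h
      have h' := hval v
      rw [show f v = 1 from congrArg Subtype.val h] at h'
      exact hgt (hbg.symm.trans h'.symm)
    have h2 : Nat.card f.range = 2 := by
      haveI : Nontrivial f.range := ⟨_, _, hv1⟩
      have := Finite.one_lt_card (α := f.range)
      omega
    have hu : (⟨f u, u, rfl⟩ : f.range) = 1 ∨ (⟨f u, u, rfl⟩ : f.range) = ⟨f v, v, rfl⟩ := by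
      by_cases h1 : (⟨f u, u, rfl⟩ : f.range) = 1
      · exact Or.inl h1
      obtain ⟨w, -, huniq⟩ := (Nat.card_eq_two_iff' (1 : f.range)).mp h2
      exact Or.inr ((huniq _ h1).trans (huniq _ hv1).symm)
    rcases hu with h | h
    · left
      have h' := hval u
      rw [show f u = 1 from congrArg Subtype.val h] at h'
      have hgk : g ^ 1 = g ^ k := by rw [pow_one]; exact h'.trans hx
      rw [pow_eq_pow_iff_modEq, hg, ← zeta_pow_eq_iff hζ, pow_one] at hgk
      exact hgk.symm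
    · right
      have h' := hval u
      rw [show f u = f v from congrArg Subtype.val h, hval v] at h'
      have hgk : g ^ t = g ^ k := (hbg.symm.trans h').trans hx
      rw [pow_eq_pow_iff_modEq, hg, ← zeta_pow_eq_iff hζ] at hgk
      exact hgk.symm
  have heq : valueField g = IntermediateField.adjoin ℚ ({ζ + ζ ^ t} : Set ℂ) := by
    refine le_antisymm (valueField_le hζ hgN hcop hζt htt hc (isConj_iff.mpr ⟨b, hbg⟩)) ?_
    rw [IntermediateField.adjoin_le_iff, Set.singleton_subset_iff]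
    exact mem_valueField hζ hgN htt hW
  rcases hε with h | h
  · exact Or.inl (h ▸ heq)
  · exact Or.inr (h ▸ heq)

end CfsgLib.RealChar.TwoField
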