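import Mathlib

/-!
# Points with smallest stabiliser for small groups of exponent `p`

A finite abelian group acting on an abelian group of coprime order has a point whose stabiliser is
the kernel of the action.  So does a group of odd exponent `p` whose commutators are powers of a
central element without non-zero fixed points.
-/

set_option autoImplicit false
set_option linter.style.haveILetI false

namespace CfsgLib.RealChar.VanOrder

open scoped commutatorElement

universe u v

section

variable {E : Type u} [Group E] {L : Type v} [AddCommGroup L] [DistribMulAction E L]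

/-- The fixed points of one element. -/
def fixOf (e : E) : AddSubgroup L where
  carrier := {v | e • v = v}
  zero_mem' := smul_zero e
  add_mem' := fun {a b} (ha : e • a = a) (hb : e • b = b) => by
    show e • (a + b) = a + b
    rw [smul_add, ha, hb]
  neg_mem' := fun {a} (ha : e • a = a) => by
    show e • -a = -a
    rw [smul_neg, ha]

theorem mem_fixOf {e : E} {v : L} : v ∈ fixOf e ↔ e • v = v := Iff.rfl

theorem pow_smul_eq_self {e : E} {v : L} (h : e • v = v) : ∀ k : ℕ, e ^ k • v = v
  | 0 => by rw [pow_zero, one_smul]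
  | k + 1 => by rw [pow_succ, mul_smul, h, pow_smul_eq_self h k]

theorem smul_nsmul_fixed {e : E} {v : L} (h : e • v = v) (k : ℕ) : e • (k • v) = k • v := by
  rw [← DistribSMul.toAddMonoidHom_apply L e (k • v), map_nsmul, DistribSMul.toAddMonoidHom_apply, h]

/-- Cancelling a multiplier prime to the order. -/
theorem eq_of_nsmul_eq [Finite L] {m : ℕ} (hm : (Nat.card L).Coprime m) {v w : L}
    (h : m • v = m • w) : v = w := by
  have h1 : m • (v - w) = 0 := by rw [smul_sub, h, sub_self]
  exact sub_eq_zero.mp (AddMonoid.addOrderOf_eq_one_iff.mp (Nat.eq_one_of_dvd_coprimes hm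
    (addOrderOf_dvd_natCard _) (addOrderOf_dvd_of_nsmul_eq_zero h1)))

/-- The sum over the powers of an element of order dividing `p`. -/
def norm (p : ℕ) (e : E) (v : L) : L := ∑ j ∈ Finset.range p, e ^ j • v

theorem smul_norm {p : ℕ} {e : E} (he : e ^ p = 1) (v : L) : e • norm p e v = norm p e v := by
  have h1 : e • norm p e v + v = norm p e v + v := by
    have h2 := Finset.sum_range_succ' (fun j => e ^ j • v) p
    rw [Finset.sum_range_succ (fun j => e ^ j • v) p, he, pow_zero, one_smul] at h2
    rw [norm, Finset.smul_sum]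
    simp only [← mul_smul, ← pow_succ']
    exact h2.symm
  exact add_right_cancel h1

theorem norm_of_fixed {p : ℕ} {e : E} {v : L} (hv : e • v = v) : norm p e v = p • v := by
  rw [norm, Finset.sum_congr rfl (g := fun _ => v) fun j _ => pow_smul_eq_self hv j,
    Finset.sum_const, Finset.card_range]

theorem norm_eq_zero_of_free {p : ℕ} {e : E} (he : e ^ p = 1)
    (hz : ∀ v : L, e • v = v → v = 0) (v : L) : norm p e v = 0 :=
  hz _ (smul_norm he v)

theorem smul_norm_of_commute {p : ℕ} {e e' : E} (hc : Commute e' e) {v : L} (hv : e' • v = v) :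
    e' • norm p e v = norm p e v := by
  rw [norm, Finset.smul_sum]
  refine Finset.sum_congr rfl fun j _ => ?_
  rw [← mul_smul, (hc.pow_right j).eq, mul_smul, hv]

theorem sum_norm {p : ℕ} [hp : Fact p.Prime] {a z : E} (hc : Commute a z) (hz : z ^ p = 1)
    (hfree : ∀ v : L, z • v = v → v = 0) (v : L) :
    ∑ i ∈ Finset.range p, norm p (a * z ^ i) v = p • v := by
  simp only [norm]
  rw [Finset.sum_comm]
  have hterm : ∀ j ∈ Finset.range p, j ≠ 0 →
      ∑ i ∈ Finset.range p, (a * z ^ i) ^ j • v = 0 := by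
    intro j hj hj0
    have hjp : j < p := Finset.mem_range.mp hj
    have hzj : (z ^ j) ^ p = 1 := by rw [← pow_mul, mul_comm, pow_mul, hz, one_pow]
    have hzero : norm p (z ^ j) v = 0 := by
      refine norm_eq_zero_of_free hzj (fun w hw => hfree w ?_) v
      obtain ⟨k, hk⟩ := Nat.exists_mul_mod_eq_one_of_coprime (k := p)
        ((Nat.coprime_comm.mp ((hp.out.coprime_iff_not_dvd).mpr
          fun h => hj0 (Nat.eq_zero_of_dvd_of_lt h hjp)))) hp.out.one_lt
      have h1 := pow_smul_eq_self hw k
      rwa [← pow_mul, pow_eq_pow_mod _ hz, hk.2, pow_one] at h1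
    rw [← smul_zero (a ^ j : E), ← hzero, norm, Finset.smul_sum]
    refine Finset.sum_congr rfl fun i _ => ?_
    rw [← mul_smul, (hc.pow_right i).mul_pow, ← pow_mul, ← pow_mul, mul_comm i j]
  rw [Finset.sum_eq_single 0 hterm (fun h => absurd (Finset.mem_range.mpr hp.out.pos) h)]
  simp

/-- An abelian group acting coprimely has a point whose stabiliser is the kernel. -/
theorem exists_stab_eq_kernel_comm [Finite E] [Finite L] (hA : ∀ a b : E, a * b = b * a)
    (hcop : (Nat.card L).Coprime (Nat.card E)) :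
    ∃ v : L, ∀ g : E, g • v = v → ∀ w : L, g • w = w := by
  classical
  haveI := Fintype.ofFinite L
  obtain ⟨v, -, hmin⟩ := Finset.univ.exists_min_image
    (fun v : L => Nat.card (MulAction.stabilizer E v)) Finset.univ_nonempty
  refine ⟨v, fun s hs w₀ => ?_⟩
  by_contra hw₀
  set w := s • w₀ - w₀ with hw
  have hkey : ∀ u : L, s • u = u → ∀ x : L, u = s • x - x → u = 0 := by
    intro u hu x hx
    have hk : ∀ k : ℕ, s ^ k • x = x + k • u := by
      intro k
      induction k with
      | zero => simp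
      | succ k ih =>
        have h1 : s • x = x + u := by rw [hx]; abel
        rw [pow_succ', mul_smul, ih, smul_add, smul_nsmul_fixed hu k, h1,
          succ_nsmul]
        abel
    have h2 := hk (orderOf s)
    rw [pow_orderOf_eq_one, one_smul, left_eq_add] at h2
    exact eq_of_nsmul_eq (hcop.coprime_dvd_right (orderOf_dvd_natCard s))
      (by rw [h2, smul_zero])
  have hw0 : w ≠ 0 := fun h => hw₀ (sub_eq_zero.mp h)
  have hlt : MulAction.stabilizer E (v + w) < MulAction.stabilizer E v := by
    have hle : ∀ g : E, g • (v + w) = v + w → g • v = v ∧ g • w = w := by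
      intro g hg
      rw [smul_add] at hg
      set d := g • v - v with hd
      have hd' : d = w - g • w := by
        rw [hd, sub_eq_sub_iff_add_eq_add, hg, add_comm]
      have hd0 : d = 0 := by
        refine hkey d ?_ (w₀ - g • w₀) ?_
        · rw [hd, smul_sub, ← mul_smul, hA s g, mul_smul, hs]
        · rw [hd', hw, smul_sub g, smul_sub s, ← mul_smul, ← mul_smul, hA s g]
          abel
      exact ⟨sub_eq_zero.mp hd0, (sub_eq_zero.mp (hd' ▸ hd0)).symm⟩
    refine lt_of_le_of_ne (fun g hg => (hle g hg).1) fun heq => hw0 ?_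
    have : s ∈ MulAction.stabilizer E (v + w) := heq.symm ▸ hs
    exact hkey w (hle s this).2 w₀ rfl
  exact absurd (hmin (v + w) (Finset.mem_univ _))
    (not_le.mpr ((Set.Finite.card_lt_card (Set.toFinite _) hlt)))

end

/-- Exponent `p` and commutators in a fixed-point-free central cyclic subgroup. -/
theorem exists_stab_eq_kernel {p : ℕ} [hp : Fact p.Prime] (hp2 : p ≠ 2) :
    ∀ (n : ℕ) (E : Type u) [Group E] [Finite E] (L : Type v) [AddCommGroup L] [Finite L]
      [DistribMulAction E L], Nat.card E = n → (Nat.card L).Coprime p → (∀ e : E, e ^ p = 1) →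
      ∀ z : E, z ∈ Subgroup.center E → (∀ a b : E, ⁅a, b⁆ ∈ Subgroup.zpowers z) →
      (∀ w : L, z • w = w → w = 0) →
      ∃ v : L, ∀ g : E, g • v = v → ∀ w : L, g • w = w := by
  intro n
  induction n using Nat.strong_induction_on with
  | _ n ih =>
  intro E _ _ L _ _ _ hn hcop hexp z hz hcomm hfree
  classical
  by_cases hab : ∀ a b : E, a * b = b * a
  · refine exists_stab_eq_kernel_comm hab ?_
    refine Nat.coprime_of_dvd fun q hq hqL hqE => ?_
    haveI : Fact q.Prime := ⟨hq⟩
    obtain ⟨e, he⟩ := exists_prime_orderOf_dvd_card' q hqE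
    have h1 := orderOf_dvd_of_pow_eq_one (hexp e)
    rw [he, Nat.prime_dvd_prime_iff_eq hq hp.out] at h1
    exact hp.out.coprime_iff_not_dvd.mp hcop.symm (h1 ▸ hqL)
  push Not at hab
  obtain ⟨h, u, hhu⟩ := hab
  -- the commutator takes the place of `z`
  set c := ⁅h, u⁆ with hcdef
  have hc1 : c ≠ 1 := fun h0 => hhu (commutatorElement_eq_one_iff_mul_comm.mp h0)
  have hzc : Subgroup.zpowers c = Subgroup.zpowers z := by
    refine Subgroup.eq_of_le_of_card_ge (Subgroup.zpowers_le.mpr (hcomm h u)) ?_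
    rw [Nat.card_zpowers, Nat.card_zpowers, orderOf_eq_prime (hexp c) hc1]
    exact Nat.le_of_dvd hp.out.pos (orderOf_dvd_of_pow_eq_one (hexp z))
  have hcc : c ∈ Subgroup.center E := by
    obtain ⟨i, hi⟩ := Subgroup.mem_zpowers_iff.mp (hcomm h u)
    rw [hcdef, ← hi]
    exact zpow_mem hz i
  have hcomm' : ∀ a b : E, ⁅a, b⁆ ∈ Subgroup.zpowers c := fun a b => hzc ▸ hcomm a b
  have hfreec : ∀ w : L, c • w = w → w = 0 := fun w hw => hfree w (by
    have h1 : Subgroup.zpowers c ≤ MulAction.stabilizer E w := Subgroup.zpowers_le.mpr hw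
    exact h1 (hzc.symm ▸ Subgroup.mem_zpowers z))
  have hcz : ∀ g : E, Commute g c := fun g => Subgroup.mem_center_iff.mp hcc g
  have hhuc : h * u * h⁻¹ = c * u := by rw [hcdef, commutatorElement_def]; group
  -- the fixed spaces
  let e : ℕ → E := fun i => u * c ^ i
  have heexp : ∀ i, e i ^ p = 1 := fun i => hexp _
  have hecomm : ∀ i k, Commute (e i) (e k) := fun i k =>
    ((Commute.refl u).mul_right ((hcz u).pow_right k)).mul_left
      ((((hcz u).pow_right i).symm).mul_right ((Commute.refl c).pow_pow i k))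
  have hproj : ∀ i k : ℕ, c ^ i ≠ c ^ k → ∀ y : L, e k • y = y → norm p (e i) y = 0 := by
    intro i k hik y hy
    set w := norm p (e i) y with hw
    have h1 : e i • w = w := smul_norm (heexp i) y
    have h2 : e k • w = w := smul_norm_of_commute (hecomm k i) hy
    have h3 : ((e k)⁻¹ * e i) • w = w := by rw [mul_smul, h1, inv_smul_eq_iff, h2]
    have h4 : (e k)⁻¹ * e i = (c ^ k)⁻¹ * c ^ i := by simp [e, mul_assoc]
    rw [h4] at h3
    have hle : Subgroup.zpowers ((c ^ k)⁻¹ * c ^ i) = Subgroup.zpowers c := by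
      refine Subgroup.eq_of_le_of_card_ge (Subgroup.zpowers_le.mpr (mul_mem
        (inv_mem (pow_mem (Subgroup.mem_zpowers c) k)) (pow_mem (Subgroup.mem_zpowers c) i))) ?_
      rw [Nat.card_zpowers, Nat.card_zpowers, orderOf_eq_prime (hexp c) hc1,
        orderOf_eq_prime (hexp _) (fun h5 => hik (inv_mul_eq_one.mp h5).symm)]
    have h6 : Subgroup.zpowers ((c ^ k)⁻¹ * c ^ i) ≤ MulAction.stabilizer E w :=
      Subgroup.zpowers_le.mpr h3
    exact hfreec w (h6 (hle.symm ▸ Subgroup.mem_zpowers c))
  have hshift : ∀ i : ℕ, ∀ y : L, u • y = y → e i • (h ^ i • y) = h ^ i • y := by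
    intro i y hy
    have h1 : h ^ i * u = e i * h ^ i := by
      induction i with
      | zero => simp [e]
      | succ i ihi =>
        have hcu : c * u = u * c := (hcz u).eq.symm
        calc h ^ (i + 1) * u = h * (h ^ i * u) := by rw [pow_succ', mul_assoc]
          _ = h * (u * c ^ i * h ^ i) := by rw [ihi]
          _ = (h * u * h⁻¹) * (h * c ^ i) * h ^ i := by group
          _ = (u * c) * (c ^ i * h) * h ^ i := by rw [hhuc, hcu, ((hcz h).pow_right i).eq]
          _ = e (i + 1) * h ^ (i + 1) := by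
            show _ = u * c ^ (i + 1) * h ^ (i + 1)
            rw [pow_succ', pow_succ']; group
    rw [← mul_smul, ← h1, mul_smul, hy]
  -- the centraliser of `u`
  let D : Subgroup E := Subgroup.centralizer {u}
  have hDmem : ∀ g, g ∈ D ↔ g * u = u * g := fun g => Subgroup.mem_centralizer_singleton_iff
  let L0 : AddSubgroup L := fixOf u
  have hDL : ∀ (g : D) (y : L0), (g : E) • (y : L) ∈ L0 := fun g y => by
    show u • ((g : E) • (y : L)) = (g : E) • (y : L)
    rw [← mul_smul, ← (hDmem g).mp g.2, mul_smul, y.2]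
  letI : DistribMulAction D L0 :=
    { smul := fun g y => ⟨(g : E) • (y : L), hDL g y⟩
      one_smul := fun y => Subtype.ext (one_smul E (y : L))
      mul_smul := fun g g' y => Subtype.ext (mul_smul (g : E) g' (y : L))
      smul_zero := fun g => Subtype.ext (smul_zero (g : E))
      smul_add := fun g a b => Subtype.ext (smul_add (g : E) (a : L) (b : L)) }
  have hDlt : Nat.card D < n := by
    rw [← hn]
    refine Nat.lt_of_le_of_ne (Subgroup.card_le_card_group D) fun h1 => hhu ?_
    exact (hDmem h).mp (Subgroup.eq_top_of_card_eq D h1 ▸ Subgroup.mem_top h)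
  have hcD : c ∈ D := (hDmem c).mpr (hcz u).eq.symm
  obtain ⟨w, hw⟩ := ih _ hDlt D L0 rfl
    (hcop.coprime_dvd_left L0.card_addSubgroup_dvd_card) (fun g => Subtype.ext (hexp g))
    ⟨c, hcD⟩ (Subgroup.mem_center_iff.mpr fun g => Subtype.ext (hcz g).eq)
    (fun a b => by
      obtain ⟨i, hi⟩ := Subgroup.mem_zpowers_iff.mp (hcomm' a b)
      exact Subgroup.mem_zpowers_iff.mpr ⟨i, Subtype.ext (by
        simpa [commutatorElement_def] using hi)⟩)
    (fun y hy => Subtype.ext (hfreec y (congrArg Subtype.val hy)))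
  set x0 : L := (w : L) with hx0
  have hx0u : u • x0 = x0 := w.2
  have hwD : ∀ g : E, g * u = u * g → g • x0 = x0 → ∀ y : L, u • y = y → g • y = y :=
    fun g hg hgx y hy =>
      congrArg Subtype.val (hw ⟨g, (hDmem g).mpr hg⟩ (Subtype.ext hgx) ⟨y, hy⟩)
  have hspan : ∀ v : L, ∑ i ∈ Finset.range p, norm p (e i) v = p • v := fun v =>
    sum_norm (hcz u) (hexp c) hfreec v
  have hfixe : ∀ (i : ℕ) (v : L), ∃ y : L, u • y = y ∧ h ^ i • y = norm p (e i) v := by
    intro i v
    refine ⟨(h ^ i)⁻¹ • norm p (e i) v, ?_, smul_inv_smul _ _⟩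
    have h1 := smul_norm (heexp i) v
    have h2 : e i * h ^ i = h ^ i * u := by
      clear h1
      induction i with
      | zero => simp [e]
      | succ i ihi =>
        have hcu : c * u = u * c := (hcz u).eq.symm
        calc e (i + 1) * h ^ (i + 1) = u * c ^ (i + 1) * h ^ (i + 1) := rfl
          _ = (u * c) * (c ^ i * h) * h ^ i := by rw [pow_succ', pow_succ']; group
          _ = (h * u * h⁻¹) * (h * c ^ i) * h ^ i := by rw [hhuc, hcu, ((hcz h).pow_right i).eq]
          _ = h * (e i * h ^ i) := by show _ = h * (u * c ^ i * h ^ i); group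
          _ = h ^ (i + 1) * u := by rw [ihi, pow_succ', mul_assoc]
    have h3 : u * (h ^ i)⁻¹ = (h ^ i)⁻¹ * e i := by
      rw [eq_inv_mul_iff_mul_eq, ← mul_assoc, ← h2, mul_inv_cancel_right]
    rw [← mul_smul, h3, mul_smul, h1]
  by_cases htriv : ∀ v : L, v = 0
  · exact ⟨0, fun g _ v => (htriv _).trans (htriv v).symm⟩
  push Not at htriv
  obtain ⟨v₀, hv₀⟩ := htriv
  have hx0ne : x0 ≠ 0 := by
    intro h0
    obtain ⟨y, hy, hy0⟩ : ∃ y : L, u • y = y ∧ y ≠ 0 := by
      by_contra hcon
      push Not at hcon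
      apply hv₀
      refine eq_of_nsmul_eq hcop ?_
      rw [← hspan v₀, smul_zero]
      refine Finset.sum_eq_zero fun i _ => ?_
      obtain ⟨y, hy, hyn⟩ := hfixe i v₀
      rw [← hyn, hcon y hy, smul_zero]
    exact hy0 (hfreec y (hwD c ((hcz u).eq.symm) (by rw [h0, smul_zero]) y hy))
  set x1 : L := h • x0 with hx1
  have hx1fix : e 1 • x1 = x1 := by
    have := hshift 1 x0 hx0u
    rwa [pow_one] at this
  have hx0fix : e 0 • x0 = x0 := by simpa [e] using hx0u
  refine ⟨x0 + x1, fun g hg => ?_⟩
  rw [smul_add] at hg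
  obtain ⟨j, hj⟩ : ∃ j : ℕ, c ^ j = ⁅g, u⁆ :=
    (isOfFinOrder_of_finite c).mem_powers_iff_mem_zpowers.mpr (hcomm' g u)
  have hgu : g * u = e j * g := by
    show g * u = u * c ^ j * g
    rw [← ((hcz u).pow_right j).symm.eq, hj, commutatorElement_def]; group
  have hgx0 : e j • (g • x0) = g • x0 := by rw [← mul_smul, ← hgu, mul_smul, hx0u]
  have hgx1 : e (j + 1) • (g • x1) = g • x1 := by
    have h1 : g * e 1 = e (j + 1) * g := by
      show g * (u * c ^ 1) = u * c ^ (j + 1) * g
      rw [pow_one, ← mul_assoc, hgu]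
      show u * c ^ j * g * c = _
      rw [pow_succ, mul_assoc (u * c ^ j), (hcz g).eq]
      group
    rw [← mul_smul, ← h1, mul_smul, hx1fix]
  have hcmod : ∀ a b : ℕ, c ^ a = c ^ b ↔ a ≡ b [MOD p] := fun a b => by
    rw [pow_eq_pow_iff_modEq, orderOf_eq_prime (hexp c) hc1]
  have hpos := hp.out.two_le
  by_cases hj0 : c ^ j = 1
  · have hgD : g * u = u * g := by
      rw [hgu]; show u * c ^ j * g = _; rw [hj0, mul_one]
    have hgx0' : g • x0 = x0 := by
      refine eq_of_nsmul_eq hcop ?_
      have h1 : (1 : E) ≠ c ^ 1 := by rw [pow_one]; exact hc1.symm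
      have hx1' : e 1 • (g • x1) = g • x1 := by
        have : e (j + 1) = e 1 := by
          show u * c ^ (j + 1) = u * c ^ 1
          rw [pow_succ, hj0, one_mul, pow_one]
        rwa [this] at hgx1
      have hgx0'' : e 0 • (g • x0) = g • x0 := by
        have : e j = e 0 := by show u * c ^ j = u * c ^ 0; rw [hj0, pow_zero]
        rwa [this] at hgx0
      have hN := congrArg (norm p (e 0)) hg
      simp only [norm, smul_add, Finset.sum_add_distrib] at hN
      rw [← norm, ← norm, ← norm, ← norm, norm_of_fixed hgx0'', norm_of_fixed hx0fix,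
        hproj 0 1 (by rwa [pow_zero]) _ hx1', hproj 0 1 (by rwa [pow_zero]) _ hx1fix,
        add_zero, add_zero] at hN
      exact hN
    have hgx1' : g • x1 = x1 := add_left_cancel (hgx0' ▸ hg)
    have hg0 : ∀ y : L, u • y = y → g • y = y := hwD g hgD hgx0'
    set g' := h⁻¹ * g * h with hg'
    have hg'x : g' • x0 = x0 := by rw [hg', mul_smul, mul_smul, ← hx1, hgx1', hx1, inv_smul_smul]
    have hg'D : g' * u = u * g' := by
      have h1 : h⁻¹ * u * h = u * c⁻¹ := by
        have h0 : u = c⁻¹ * (h * u * h⁻¹) := by rw [hhuc, inv_mul_cancel_left]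
        calc h⁻¹ * u * h = h⁻¹ * (c⁻¹ * (h * u * h⁻¹)) * h := by rw [← h0]
          _ = h⁻¹ * (h * c⁻¹) * u := by rw [← ((hcz h).inv_right).eq.symm.trans rfl]; group
          _ = u * c⁻¹ := by rw [inv_mul_cancel_left, ((hcz u).inv_right).eq]
      calc g' * u = h⁻¹ * g * (h * u * h⁻¹) * h := by rw [hg']; group
        _ = h⁻¹ * g * (c * u) * h := by rw [hhuc]
        _ = h⁻¹ * ((c * u) * g) * h := by
          rw [mul_assoc h⁻¹, ← ((hcz g).mul_right (show Commute g u from hgD)).eq]
        _ = h⁻¹ * (h * u * h⁻¹ * g) * h := by rw [hhuc]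
        _ = u * g' := by rw [hg']; group
    have hg'0 : ∀ y : L, u • y = y → g' • y = y := hwD g' hg'D hg'x
    have hd : ⁅h, g⁆ = 1 := by
      by_contra hd1
      have hfixd : ⁅h, g⁆ • x1 = x1 := by
        have h1 : g⁻¹ • x1 = x1 := by rw [inv_smul_eq_iff, hgx1']
        rw [commutatorElement_def, mul_smul, h1, mul_smul, mul_smul, hx1, inv_smul_smul, hgx0']
      have hle : Subgroup.zpowers ⁅h, g⁆ = Subgroup.zpowers c := by
        refine Subgroup.eq_of_le_of_card_ge (Subgroup.zpowers_le.mpr (hcomm' h g)) ?_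
        rw [Nat.card_zpowers, Nat.card_zpowers, orderOf_eq_prime (hexp c) hc1,
          orderOf_eq_prime (hexp _) hd1]
      have h6 : Subgroup.zpowers ⁅h, g⁆ ≤ MulAction.stabilizer E x1 :=
        Subgroup.zpowers_le.mpr hfixd
      have := hfreec x1 (h6 (hle.symm ▸ Subgroup.mem_zpowers c))
      rw [hx1, smul_eq_zero_iff_eq] at this
      exact hx0ne this
    have hhg : Commute g h := (commutatorElement_eq_one_iff_mul_comm.mp hd).symm
    intro v
    refine eq_of_nsmul_eq hcop ?_
    rw [← smul_comm g p v, ← hspan v, Finset.smul_sum]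
    refine Finset.sum_congr rfl fun i _ => ?_
    obtain ⟨y, hy, hyn⟩ := hfixe i v
    rw [← hyn, ← mul_smul, (hhg.pow_right i).eq, mul_smul, hg0 y hy]
  · exfalso
    by_cases hj1 : c ^ (j + 1) = 1
    · have h10 : c ^ 1 ≠ c ^ 0 := by rwa [pow_one, pow_zero]
      have h1j : c ^ 1 ≠ c ^ j := by
        intro h1
        rw [pow_succ, ← h1, pow_one, ← pow_two] at hj1
        have h2 := orderOf_dvd_of_pow_eq_one hj1
        rw [orderOf_eq_prime (hexp c) hc1, Nat.prime_dvd_prime_iff_eq hp.out Nat.prime_two] at h2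
        exact hp2 h2
      have h1j1 : c ^ 1 ≠ c ^ (j + 1) := by rwa [hj1, pow_one]
      have hN := congrArg (norm p (e 1)) hg
      simp only [norm, smul_add, Finset.sum_add_distrib] at hN
      rw [← norm, ← norm, ← norm, ← norm, norm_of_fixed hx1fix, hproj 1 0 h10 _ hx0fix,
        hproj 1 j h1j _ hgx0, hproj 1 (j + 1) h1j1 _ hgx1, add_zero, zero_add] at hN
      have h2 : x1 = 0 := eq_of_nsmul_eq hcop (by rw [← hN, smul_zero])
      rw [hx1, smul_eq_zero_iff_eq] at h2
      exact hx0ne h2
    · have h01 : c ^ 0 ≠ c ^ 1 := by rw [pow_one, pow_zero]; exact hc1.symm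
      have h0j : c ^ 0 ≠ c ^ j := by rw [pow_zero]; exact fun h1 => hj0 h1.symm
      have h0j1 : c ^ 0 ≠ c ^ (j + 1) := by rw [pow_zero]; exact fun h1 => hj1 h1.symm
      have hN := congrArg (norm p (e 0)) hg
      simp only [norm, smul_add, Finset.sum_add_distrib] at hN
      rw [← norm, ← norm, ← norm, ← norm, norm_of_fixed hx0fix, hproj 0 1 h01 _ hx1fix,
        hproj 0 j h0j _ hgx0, hproj 0 (j + 1) h0j1 _ hgx1] at hN
      simp only [add_zero] at hN
      exact hx0ne (eq_of_nsmul_eq hcop (by rw [smul_zero]; exact hN.symm))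

end CfsgLib.RealChar.VanOrder
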