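import Cfsg.Agent.S0191
import Cfsg.Agent.S4558
import Cfsg.Agent.S4456
import Cfsg.Agent.Lib.RealChar.CrossDegree
import Cfsg.Agent.Lib.RealChar.Coprime
import Cfsg.Agent.Lib.Char.Clifford
import Cfsg.Agent.Lib.Char.CentralOver
import Cfsg.Agent.Lib.CharTools.Basic
import Cfsg.Agent.Lib.Frobenius.Basic
import Cfsg.Agent.Lib.Solvable.Core
import Mathlib

/-!
# Groups in which every vanishing element has prime power order for one fixed prime

Such a group is a `p`-group or a central extension by `O_p` of a Frobenius group whose complement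
is a `p`-group. No classification is used: all nonlinear degrees are divisible by `p`, so there is
a normal `p`-complement, and a `p`-element with a fixed point on it fixes all its characters.
-/

set_option autoImplicit false
set_option linter.style.haveILetI false

namespace CfsgLib.RealChar.VanPow

attribute [local instance high] Fintype.ofFinite

universe u

open CfsgLib

variable {G : Type u} [Group G] [Finite G] {p : ℕ} [hp : Fact p.Prime]

omit hp in
/-- In a `p`-group every noncentral element is a zero of an irreducible character. -/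
theorem exists_zero_of_noncentral [hp : Fact p.Prime] (hG : IsPGroup p G) {x : G}
    (hx : x ∉ Subgroup.center G) : ∃ χ : Cfsg.IrrCharacter G, (χ : G → ℂ) x = 0 := by
  classical
  obtain ⟨N, -, hN⟩ := exists_maximal_ge_of_wellFoundedGT
    (fun K : Subgroup G => K.Normal ∧ ∃ y : G, y * x * y⁻¹ * x⁻¹ ∉ K) ⊥
    ⟨inferInstance, by
      by_contra h
      push Not at h
      exact hx (Subgroup.mem_center_iff.mpr fun y => mul_inv_eq_iff_eq_mul.mp
        (mul_inv_eq_one.mp (Subgroup.mem_bot.mp (h y))))⟩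
  obtain ⟨hNn, y, hy⟩ := hN.1
  haveI := hNn
  set π := QuotientGroup.mk' N with hπ
  have hπs : Function.Surjective π := QuotientGroup.mk'_surjective N
  haveI : Nontrivial (G ⧸ N) := ⟨⟨π (y * x * y⁻¹ * x⁻¹), 1, fun h => hy ((QuotientGroup.eq_one_iff _).mp h)⟩⟩
  haveI hc := (hG.to_quotient N).center_nontrivial
  obtain ⟨z, hz⟩ := exists_ne (1 : Subgroup.center (G ⧸ N))
  set Z := (Subgroup.center (G ⧸ N)).comap π with hZ
  set c := π y * π x * (π y)⁻¹ * (π x)⁻¹ with hcdef
  have hc1 : c ≠ 1 := by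
    rw [hcdef, ← map_inv, ← map_inv, ← map_mul, ← map_mul, ← map_mul]
    exact fun h => hy ((QuotientGroup.eq_one_iff _).mp h)
  have hcc : c ∈ Subgroup.center (G ⧸ N) := by
    by_contra hcon
    have hle : N ≤ Z := by
      intro n hn
      show π n ∈ Subgroup.center (G ⧸ N)
      rw [show π n = 1 from (QuotientGroup.eq_one_iff n).mpr hn]
      exact Subgroup.one_mem _
    have hZn : Z.Normal := inferInstance
    have hZle : Z ≤ N := hN.2 ⟨hZn, y, fun h => hcon (by
      have h2 : π (y * x * y⁻¹ * x⁻¹) ∈ Subgroup.center (G ⧸ N) := h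
      simpa [hcdef] using h2)⟩ hle
    obtain ⟨g, hg⟩ := hπs (z : G ⧸ N)
    have hgN : g ∈ N := hZle (show π g ∈ Subgroup.center (G ⧸ N) by rw [hg]; exact z.2)
    exact hz (Subtype.ext (hg.symm.trans ((QuotientGroup.eq_one_iff g).mpr hgN)))
  obtain ⟨χ, hχ, hχc⟩ : ∃ χ : G ⧸ N → ℂ, Cfsg.IsIrrCharacter (G ⧸ N) χ ∧ χ c ≠ χ 1 := by
    by_contra h
    push Not at h
    exact hc1 (isConj_one_left.mp (Char.isConj_of_forall_eq h))
  refine ⟨⟨fun g => χ (π g), CharTools.isIrrCharacter_comp π hπs hχ⟩, ?_⟩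
  have h1 := CharOver.apply_mul_central hχ hcc (π x)
  have h2 : χ (π x * c) = χ (π x) := by
    have hcx : π x * c = c * π x := (Subgroup.mem_center_iff.mp hcc (π x))
    rw [hcx, hcdef, inv_mul_cancel_right]
    exact Char.IsIrrCharacter.isClassFunction hχ (π x) (π y)
  rw [h2] at h1
  show χ (π x) = 0
  by_contra h0
  exact hχc (mul_left_cancel₀ h0 h1).symm

/-- All zeros of irreducible characters have nontrivial `p`-power order. -/
def VanPPow (p : ℕ) (G : Type u) [Group G] : Prop :=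
  ∀ g : G, (∃ χ : Cfsg.IrrCharacter G, (χ : G → ℂ) g = 0) → ∃ m : ℕ, 1 ≤ m ∧ orderOf g = p ^ m

theorem dvd_degree (h : VanPPow p G) (χ : Cfsg.IrrCharacter G)
    (hχ : Cfsg.charDegree (χ : G → ℂ) ≠ 1) : p ∣ Cfsg.charDegree (χ : G → ℂ) := by
  obtain ⟨n, ρ, hρ, hρχ⟩ := χ.2
  haveI := hρ
  have hn : Cfsg.charDegree (χ : G → ℂ) = n := by
    rw [← hρχ]
    simp [Cfsg.charDegree, Representation.char_one]
  have hn1 : 1 < Module.finrank ℂ (Fin n → ℂ) := by
    rw [Module.finrank_fintype_fun_eq_card, Fintype.card_fin]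
    have := CharTools.irr_degree_pos χ
    omega
  obtain ⟨g, hg⟩ := Cfsg.Agent.S0191.result ρ hn1
  rw [hρχ] at hg
  obtain ⟨m, -, hm⟩ := h g ⟨χ, hg⟩
  exact Cfsg.Agent.S4558.result p (χ : G → ℂ) (Char.IsIrrCharacter.isCharacter χ.2) g ⟨m, hm⟩ hg

/-- The main theorem. -/
theorem structure_of_vanPPow (hna : ¬ IsMulCommutative G) (h : VanPPow p G) :
    IsPGroup p G ∨ (Subgroup.center G = Cfsg.pCore p G ∧
      ∃ H : Subgroup (G ⧸ Subgroup.center G), Cfsg.IsFrobeniusComplement H ∧ IsPGroup p H) := by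
  classical
  obtain ⟨K, hKn, hKp, k, hk⟩ := Cfsg.Agent.S4456.result p hp.out (dvd_degree h)
  haveI := hKn
  have hpK : ¬ p ∣ Nat.card K := (hp.out.coprime_iff_not_dvd).mp hKp.symm
  by_cases hK1 : K = ⊥
  · left
    refine IsPGroup.of_card (n := k) ?_
    rw [← hk, hK1, Subgroup.index_bot]
  right
  obtain ⟨P⟩ : Nonempty (Sylow p G) := inferInstance
  obtain ⟨j, hj⟩ := IsPGroup.iff_card.mp P.2
  have hinf : K ⊓ (P : Subgroup G) = ⊥ := Subgroup.inf_eq_bot_of_coprime
    (by rw [hj]; exact Nat.Coprime.pow_right j hKp)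
  have hPc : Nat.card P = p ^ k := by
    rw [P.card_eq_multiplicity, ← K.card_mul_index,
      Nat.factorization_mul Nat.card_pos.ne' Subgroup.index_ne_zero_of_finite, Finsupp.add_apply,
      Nat.factorization_eq_zero_of_not_dvd hpK, zero_add, hk, hp.out.factorization_pow,
      Finsupp.single_eq_same]
  have hcompl : Subgroup.IsComplement' K (P : Subgroup G) :=
    Subgroup.isComplement'_of_coprime (by rw [hPc, ← hk, K.card_mul_index])
      (by rw [hPc]; exact Nat.Coprime.pow_right k hKp)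
  have hsup : K ⊔ (P : Subgroup G) = ⊤ := hcompl.sup_eq_top
  have hdec : ∀ g : G, ∃ a ∈ K, ∃ x ∈ (P : Subgroup G), g = a * x := by
    intro g
    have hg : g ∈ ((K ⊔ (P : Subgroup G) : Subgroup G) : Set G) := hsup ▸ Subgroup.mem_top g
    rw [Subgroup.normal_mul] at hg
    obtain ⟨a, ha, x, hx, e⟩ := hg
    exact ⟨a, ha, x, hx, e.symm⟩
  have hppow : ∀ x ∈ (P : Subgroup G), ∃ i : ℕ, x ^ p ^ i = 1 := fun x hx => by
    obtain ⟨i, hi⟩ := P.2 ⟨x, hx⟩
    exact ⟨i, by simpa [Subtype.ext_iff] using hi⟩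
  have hKtriv : ∀ a ∈ K, (∃ i : ℕ, a ^ p ^ i = 1) → a = 1 := by
    rintro a ha ⟨i, hi⟩
    have h1 : orderOf a ∣ Nat.gcd (Nat.card K) (p ^ i) := Nat.dvd_gcd
      (by rw [← Nat.card_zpowers]; exact Subgroup.card_dvd_of_le (Subgroup.zpowers_le.mpr ha))
      (orderOf_dvd_of_pow_eq_one hi)
    rwa [Nat.Coprime.gcd_eq_one (Nat.Coprime.pow_right i hKp), Nat.dvd_one, orderOf_eq_one_iff] at h1
  -- a product of commuting elements is not a zero
  have hnv : ∀ x ∈ (P : Subgroup G), ∀ a ∈ K, a ≠ 1 → Commute x a →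
      ∀ χ : Cfsg.IrrCharacter G, (χ : G → ℂ) (x * a) ≠ 0 := by
    intro x hx a ha ha1 hc χ h0
    obtain ⟨m, -, hm⟩ := h _ ⟨χ, h0⟩
    obtain ⟨i, hi⟩ := hppow x hx
    refine ha1 (hKtriv a ha ⟨m + i, ?_⟩)
    have h1 : (x * a) ^ p ^ (m + i) = 1 := by
      rw [pow_add, pow_mul, ← hm, pow_orderOf_eq_one, one_pow]
    have h2 : x ^ p ^ (m + i) = 1 := by
      rw [add_comm, pow_add, pow_mul, hi, one_pow]
    rwa [hc.mul_pow, h2, one_mul] at h1
  -- elements noncentral in `P` have no fixed point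
  have hnc : ∀ x ∈ (P : Subgroup G), (∃ y ∈ (P : Subgroup G), y * x ≠ x * y) →
      ∀ a ∈ K, Commute x a → a = 1 := by
    intro x hx ⟨y, hy, hyx⟩ a ha hc
    by_contra ha1
    obtain ⟨ψ, hψ⟩ := exists_zero_of_noncentral P.2 (x := ⟨x, hx⟩) (fun hcen => hyx (by
      have := congrArg Subtype.val (Subgroup.mem_center_iff.mp hcen ⟨y, hy⟩)
      simpa using this))
    let f : ↥(P : Subgroup G) →* G ⧸ K := (QuotientGroup.mk' K).comp (P : Subgroup G).subtype
    have hf : Function.Bijective f := by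
      refine ⟨(injective_iff_map_eq_one f).mpr fun z hz => ?_, fun q => ?_⟩
      · have h1 : (z : G) ∈ K := (QuotientGroup.eq_one_iff _).mp hz
        have h2 : (z : G) ∈ K ⊓ (P : Subgroup G) := ⟨h1, z.2⟩
        rw [hinf, Subgroup.mem_bot] at h2
        exact Subtype.ext h2
      · obtain ⟨g, rfl⟩ := QuotientGroup.mk'_surjective K q
        obtain ⟨b, hb, z, hz, rfl⟩ := hdec g
        exact ⟨⟨z, hz⟩, by
          show (QuotientGroup.mk' K z) = _
          rw [map_mul, show QuotientGroup.mk' K b = 1 from (QuotientGroup.eq_one_iff b).mpr hb, one_mul]⟩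
    let e := MulEquiv.ofBijective f hf
    let φ : G →* ↥(P : Subgroup G) := e.symm.toMonoidHom.comp (QuotientGroup.mk' K)
    have hφs : Function.Surjective φ := e.symm.surjective.comp (QuotientGroup.mk'_surjective K)
    refine hnv x hx a ha ha1 hc ⟨_, CharTools.isIrrCharacter_comp φ hφs ψ.2⟩ ?_
    show (ψ : ↥(P : Subgroup G) → ℂ) (φ (x * a)) = 0
    have h1 : φ (x * a) = ⟨x, hx⟩ := by
      show e.symm _ = _
      rw [MulEquiv.symm_apply_eq, map_mul,
        show QuotientGroup.mk' K a = 1 from (QuotientGroup.eq_one_iff a).mpr ha, mul_one]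
      rfl
    rw [h1]; exact hψ
  -- every element of `P` centralizes `K` or has no fixed point on it
  have hdich : ∀ x ∈ (P : Subgroup G), (∀ a ∈ K, Commute x a) ∨ ∀ a ∈ K, Commute x a → a = 1 := by
    intro x hx
    by_cases hcen : ∃ y ∈ (P : Subgroup G), y * x ≠ x * y
    · exact Or.inr (hnc x hx hcen)
    push Not at hcen
    refine or_iff_not_imp_right.mpr fun hne => ?_
    push Not at hne
    obtain ⟨a, ha, hxa, ha1⟩ := hne
    have hfixθ : ∀ θ : Cfsg.IrrCharacter K, CharTwist.conjFun K (θ : K → ℂ) x = θ := by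
      intro θ
      by_contra hmove
      obtain ⟨χ, hχ⟩ := Blk83.exists_over K θ
      set T := CharTwist.inertia K (θ : K → ℂ) with hT
      have hKT : K ≤ T := CharTwist.le_inertia K (Char.IsIrrCharacter.isClassFunction θ.2)
      obtain ⟨ψ, -, hψ, -⟩ := Clifford.exists_indFun_eq K T hKT θ.2
        (fun g => CharTwist.mem_inertia) χ.2 hχ
      refine hnv x hx a ha ha1 hxa χ ?_
      rw [← hψ]
      refine Char.indFun_eq_zero_of_forall_notMem _ _ _ fun g hg => hmove ?_
      obtain ⟨b, hb, y, hy, rfl⟩ := hdec g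
      have e : (b * y)⁻¹ * (x * a) * (b * y) =
          (y⁻¹ * x * y) * ((y⁻¹ * x * y)⁻¹ * (y⁻¹ * (b⁻¹ * (x * a) * b * (x * a)⁻¹) * y) *
            (y⁻¹ * x * y) * (y⁻¹ * a * y)) := by group
      have hyx : y⁻¹ * x * y = x := by rw [mul_assoc, ← hcen y hy, inv_mul_cancel_left]
      rw [e, hyx] at hg
      have hK' : x⁻¹ * (y⁻¹ * (b⁻¹ * (x * a) * b * (x * a)⁻¹) * y) * x * (y⁻¹ * a * y) ∈ K := by
        refine K.mul_mem ?_ (by simpa using hKn.conj_mem a ha y⁻¹)
        have h3 : b⁻¹ * ((x * a) * b * (x * a)⁻¹) ∈ K :=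
          K.mul_mem (K.inv_mem hb) (hKn.conj_mem b hb _)
        have h4 : y⁻¹ * (b⁻¹ * (x * a) * b * (x * a)⁻¹) * y ∈ K := by
          simpa [mul_assoc] using hKn.conj_mem _ h3 y⁻¹
        simpa using hKn.conj_mem _ h4 x⁻¹
      exact CharTwist.mem_inertia.mp ((T.mul_mem_cancel_right (hKT hK')).mp hg)
    intro b hb
    set Cx : Subgroup K := (Subgroup.centralizer ({x} : Set G)).subgroupOf K with hCx
    suffices hD : Cx = ⊤ by
      have h1 : (⟨b, hb⟩ : K) ∈ Cx := hD ▸ Subgroup.mem_top _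
      exact (Subgroup.mem_centralizer_singleton_iff.mp h1).symm
    refine Cross.eq_top_of_conj_cover Cx fun c => ?_
    have hinv : ∀ z ∈ Subgroup.zpowers x, ∀ c' : K, (c' : G) = z * (c : G) * z⁻¹ → IsConj c c' := by
      intro z hz c' hc'
      refine Char.isConj_of_forall_eq fun θ hθ => ?_
      have hzT : z ∈ CharTwist.inertia K θ :=
        Subgroup.zpowers_le.mpr (CharTwist.mem_inertia.mpr (hfixθ ⟨θ, hθ⟩)) hz
      have h1 := congrFun (CharTwist.mem_inertia.mp hzT) c
      rw [← h1]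
      exact congrArg θ (Subtype.ext hc'.symm)
    have hxP : IsPGroup p (Subgroup.zpowers x) := P.2.to_le (Subgroup.zpowers_le.mpr hx)
    obtain ⟨c', hcc', hc'⟩ := exists_conj_commute hxP hpK
      (by rw [Subgroup.normalizer_eq_top]; exact le_top) c hinv
    obtain ⟨d, hd⟩ := isConj_iff.mp hcc'
    refine ⟨d⁻¹, ?_⟩
    rw [inv_inv, hd, hCx, Subgroup.mem_subgroupOf]
    exact Subgroup.mem_centralizer_singleton_iff.mpr
      (mul_inv_eq_iff_eq_mul.mp (hc' x (Subgroup.mem_zpowers x))).symm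
  -- the part centralizing `K`
  obtain ⟨a₀, ha₀, ha₀1⟩ : ∃ a ∈ K, a ≠ 1 := by
    by_contra hcon
    push Not at hcon
    exact hK1 ((Subgroup.eq_bot_iff_forall _).mpr hcon)
  have hZ0 : ∀ x ∈ (P : Subgroup G), (∀ a ∈ K, Commute x a) → x ∈ Subgroup.center G := by
    intro x hx hxK
    rw [Subgroup.mem_center_iff]
    intro g
    obtain ⟨a, ha, y, hy, rfl⟩ := hdec g
    have hyx : y * x = x * y := by
      by_contra hne
      exact ha₀1 (hnc x hx ⟨y, hy, hne⟩ a₀ ha₀ (hxK a₀ ha₀))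
    rw [mul_assoc, hyx, ← mul_assoc, ← (hxK a ha).eq, mul_assoc]
  -- some element of `P` moves `K`
  have hPne : ∃ x ∈ (P : Subgroup G), ∀ a ∈ K, Commute x a → a = 1 := by
    by_contra hcon
    push Not at hcon
    have hall : ∀ x ∈ (P : Subgroup G), ∀ a ∈ K, Commute x a := fun x hx =>
      (hdich x hx).resolve_right fun hf => by
        obtain ⟨a, ha, hc, ha1⟩ := hcon x hx
        exact ha1 (hf a ha hc)
    haveI : (P : Subgroup G).Normal := ⟨fun x hx g => by
      rw [Subgroup.mem_center_iff.mp (hZ0 x hx (hall x hx)) g, mul_inv_cancel_right]; exact hx⟩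
    have hlin : ∀ θ : Cfsg.IrrCharacter K, (θ : K → ℂ) 1 = 1 := by
      intro θ
      let f : K →* G ⧸ (P : Subgroup G) := (QuotientGroup.mk' (P : Subgroup G)).comp K.subtype
      have hf : Function.Bijective f := by
        refine ⟨(injective_iff_map_eq_one f).mpr fun z hz => ?_, fun q => ?_⟩
        · have h1 : (z : G) ∈ (P : Subgroup G) := (QuotientGroup.eq_one_iff _).mp hz
          have h2 : (z : G) ∈ K ⊓ (P : Subgroup G) := ⟨z.2, h1⟩
          rw [hinf, Subgroup.mem_bot] at h2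
          exact Subtype.ext h2
        · obtain ⟨g, rfl⟩ := QuotientGroup.mk'_surjective (P : Subgroup G) q
          obtain ⟨b, hb, z, hz, rfl⟩ := hdec g
          exact ⟨⟨b, hb⟩, by
            show (QuotientGroup.mk' (P : Subgroup G) b) = _
            rw [map_mul, show QuotientGroup.mk' (P : Subgroup G) z = 1 from
              (QuotientGroup.eq_one_iff z).mpr hz, mul_one]⟩
      let e := MulEquiv.ofBijective f hf
      let φ : G →* K := e.symm.toMonoidHom.comp (QuotientGroup.mk' (P : Subgroup G))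
      have hφs : Function.Surjective φ := e.symm.surjective.comp (QuotientGroup.mk'_surjective _)
      have hd := dvd_degree h ⟨_, CharTools.isIrrCharacter_comp φ hφs θ.2⟩
      have hdeg : Cfsg.charDegree (fun g => (θ : K → ℂ) (φ g)) = Cfsg.charDegree (θ : K → ℂ) := by
        simp [Cfsg.charDegree]
      simp only [hdeg] at hd
      by_contra hne
      exact hpK ((hd fun h1 => hne (by
        rw [← CharTools.irr_degree_cast θ, h1, Nat.cast_one])).trans (CharTools.degree_dvd_card θ))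
    have hKab : ∀ a b : K, a * b = b * a := by
      intro a b
      refine mul_inv_eq_one.mp (isConj_one_left.mp (Char.isConj_of_forall_eq fun θ hθ => ?_)) |>.trans rfl
      obtain ⟨f, hf⟩ := Char.IsCharacter.exists_linear
        (Char.IsIrrCharacter.isCharacter hθ) (hlin ⟨θ, hθ⟩)
      simp [hf, mul_comm (f a) (f b)]
    refine hna ⟨⟨fun g g' => ?_⟩⟩
    obtain ⟨a, ha, x, hx, rfl⟩ := hdec g
    obtain ⟨b, hb, y, hy, rfl⟩ := hdec g'
    have e1 : Commute a b := congrArg Subtype.val (hKab ⟨a, ha⟩ ⟨b, hb⟩)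
    have e2 : Commute a y := (hall y hy a ha).symm
    have e3 : Commute x b := hall x hx b hb
    have e4 : Commute x y := (Subgroup.mem_center_iff.mp (hZ0 x hx (hall x hx)) y).symm
    exact ((e1.mul_right e2).mul_left (e3.mul_right e4)).eq
  obtain ⟨x₀, hx₀, hx₀f⟩ := hPne
  -- the centre
  have hcent : ∀ z ∈ Subgroup.center G, z ∈ (P : Subgroup G) ∧ ∀ a ∈ K, Commute z a := by
    intro z hz
    obtain ⟨a, ha, y, hy, rfl⟩ := hdec z
    have hyc : Commute y x₀ := by
      by_contra hne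
      -- conjugating by `x₀` fixes the `P`-part
      apply hne
      have h1 := Subgroup.mem_center_iff.mp hz x₀
      have h2 : y⁻¹ * x₀⁻¹ * y * x₀ ∈ K ⊓ (P : Subgroup G) := by
        refine ⟨?_, Subgroup.mul_mem _ (Subgroup.mul_mem _ (Subgroup.mul_mem _ (Subgroup.inv_mem _ hy) (Subgroup.inv_mem _ hx₀)) hy) hx₀⟩
        have h3 : y⁻¹ * x₀⁻¹ * y * x₀ = y⁻¹ * ((x₀⁻¹ * a⁻¹ * x₀) * a) * y⁻¹⁻¹ := by
          calc y⁻¹ * x₀⁻¹ * y * x₀ = y⁻¹ * x₀⁻¹ * a⁻¹ * ((a * y) * x₀) := by group
            _ = y⁻¹ * x₀⁻¹ * a⁻¹ * (x₀ * (a * y)) := by rw [h1]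
            _ = _ := by group
        rw [h3]
        exact hKn.conj_mem _ (K.mul_mem (by simpa using hKn.conj_mem _ (K.inv_mem ha) x₀⁻¹) ha) y⁻¹
      rw [hinf, Subgroup.mem_bot] at h2
      show y * x₀ = x₀ * y
      calc y * x₀ = x₀ * y * (y⁻¹ * x₀⁻¹ * y * x₀) := by group
        _ = x₀ * y := by rw [h2, mul_one]
    have ha1 : a = 1 := by
      refine hx₀f a ha ?_
      have h1 := Subgroup.mem_center_iff.mp hz x₀
      show x₀ * a = a * x₀
      rw [← mul_assoc, mul_assoc a y x₀, hyc.eq, ← mul_assoc] at h1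
      exact mul_right_cancel h1
    subst ha1
    rw [one_mul] at hz ⊢
    exact ⟨hy, fun b _ => (Subgroup.mem_center_iff.mp hz b).symm⟩
  have hZeq : Subgroup.center G = Cfsg.pCore p G := by
    refine le_antisymm (Solvable.le_pCore inferInstance (P.2.to_le fun z hz => (hcent z hz).1)) ?_
    intro z hz
    haveI := Solvable.pCore_normal p G
    have hOp := Solvable.pCore_isPGroup p G
    have hzP : z ∈ (P : Subgroup G) := by
      have h1 : IsPGroup p ↥((P : Subgroup G) ⊔ Cfsg.pCore p G) := P.2.to_sup_of_normal_right hOp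
      exact (P.3 h1 le_sup_left) ▸ Subgroup.mem_sup_right hz
    refine hZ0 z hzP fun a ha => ?_
    obtain ⟨i, hi⟩ := IsPGroup.iff_card.mp hOp
    exact Subgroup.commute_of_normal_of_disjoint _ K inferInstance hKn
      (disjoint_iff.mpr (Subgroup.inf_eq_bot_of_coprime
        (by rw [hi]; exact Nat.Coprime.pow_left i hKp.symm))) z a hz ha
  refine ⟨hZeq, (P : Subgroup G).map (QuotientGroup.mk' (Subgroup.center G)), ?_, P.2.map _⟩
  set π := QuotientGroup.mk' (Subgroup.center G) with hπ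
  have hπs : Function.Surjective π := QuotientGroup.mk'_surjective _
  haveI : (K.map π).Normal := hKn.map π hπs
  have hcompl' : Subgroup.IsComplement' (K.map π) ((P : Subgroup G).map π) := by
    refine Subgroup.isComplement'_of_disjoint_and_mul_eq_univ (disjoint_iff.mpr ?_) ?_
    · rw [Subgroup.eq_bot_iff_forall]
      rintro _ ⟨⟨a, ha, rfl⟩, y, hy, hay⟩
      have h1 : y⁻¹ * a ∈ Subgroup.center G := by
        rw [← QuotientGroup.eq]
        exact hay
      have h2 : a ∈ (P : Subgroup G) := by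
        have := Subgroup.mul_mem _ hy (hcent _ h1).1
        simpa using this
      have h3 : a ∈ K ⊓ (P : Subgroup G) := ⟨ha, h2⟩
      rw [hinf, Subgroup.mem_bot] at h3
      simp [h3]
    · rw [← Subgroup.normal_mul, ← Subgroup.map_sup, hsup, Subgroup.map_top_of_surjective _ hπs,
        Subgroup.coe_top]
  refine Frobenius.isFrobeniusComplement_of_fpf hcompl' ?_ ?_ ?_
  · intro hbot
    rw [Subgroup.map_eq_bot_iff, QuotientGroup.ker_mk'] at hbot
    exact ha₀1 (hKtriv a₀ ha₀ (hppow a₀ (hcent a₀ (hbot ha₀)).1))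
  · intro hbot
    rw [Subgroup.map_eq_bot_iff, QuotientGroup.ker_mk'] at hbot
    exact ha₀1 (hx₀f a₀ ha₀ ((hcent x₀ (hbot hx₀)).2 a₀ ha₀))
  · rintro _ ⟨x, hx, rfl⟩ hx1
    have hxf : ∀ a ∈ K, Commute x a → a = 1 :=
      (hdich x hx).resolve_left fun hall =>
        hx1 ((QuotientGroup.eq_one_iff x).mpr (hZ0 x hx hall))
    rw [Subgroup.eq_bot_iff_forall]
    rintro _ ⟨⟨a, ha, rfl⟩, hc⟩
    have h1 := Subgroup.mem_centralizer_singleton_iff.mp hc
    rw [← map_mul, ← map_mul] at h1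
    have h2 : (a * x)⁻¹ * (x * a) ∈ Subgroup.center G := QuotientGroup.eq.mp h1
    have h3 : (a * x)⁻¹ * (x * a) ∈ K := by
      have e : (a * x)⁻¹ * (x * a) = (x⁻¹ * a⁻¹ * x⁻¹⁻¹) * a := by group
      rw [e]
      exact K.mul_mem (hKn.conj_mem _ (K.inv_mem ha) _) ha
    have h4 : (a * x)⁻¹ * (x * a) = 1 :=
      hKtriv _ h3 (hppow _ (hcent _ h2).1)
    rw [hxf a ha (inv_mul_eq_one.mp h4).symm, map_one]

end CfsgLib.RealChar.VanPow
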