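import Cfsg.Agent.Lib.RealChar.VanOrbit
import Cfsg.Agent.Lib.RealChar.PalfyDual
import Cfsg.Agent.Lib.Solvable.CoprimeAction
import Cfsg.Agent.Lib.Transfer.PGroup
import Cfsg.Agent.Lib.Subnormal.Join
import Cfsg.Agent.Lib.TwoGroupInvol.Basic

/-!
# Solvable groups whose vanishing `p`-singular elements all have one order

The Sylow `p`-subgroups of the quotient by the `p`-core are cyclic.
-/

set_option autoImplicit false
set_option linter.style.haveILetI false

namespace CfsgLib.RealChar.VanOrder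

open Cfsg CfsgLib.CharTwist
open CfsgLib.RealChar.Palfy (linAction linFun linIrr smul_eq_iff finite_linear normal_of_normalized)
open scoped commutatorElement

universe u

/-- Some irreducible character is zero at `x`. -/
def Vanishes (G : Type u) [Group G] (x : G) : Prop :=
  ∃ χ : IrrCharacter G, (χ : G → ℂ) x = 0

/-- What is inherited by quotients from equal orders of vanishing `p`-singular elements. -/
structure VanProp (p : ℕ) (G : Type u) [Group G] : Prop where
  same : ∀ x y : G, Vanishes G x → Vanishes G y → p ∣ orderOf x → p ∣ orderOf y →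
    (∃ k, orderOf x = p ^ k) → ∃ k, orderOf y = p ^ k
  pow : ∀ x : G, Vanishes G x → Vanishes G (x ^ p) → ¬ p ∣ orderOf (x ^ p)

theorem VanProp.quotient {p : ℕ} [hp : Fact p.Prime] {G : Type u} [Group G] [Finite G]
    (h : VanProp p G) (N : Subgroup G) [N.Normal] : VanProp p (G ⧸ N) := by
  let π := QuotientGroup.mk' N
  have hπ : Function.Surjective π := QuotientGroup.mk'_surjective N
  have hlift : ∀ x : G, Vanishes (G ⧸ N) (π x) → Vanishes G x := fun x ⟨χ, hχ⟩ =>
    ⟨⟨fun g => (χ : G ⧸ N → ℂ) (π g), CharTools.isIrrCharacter_comp π hπ χ.2⟩, hχ⟩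
  refine ⟨fun x y hx hy hpx hpy hxk => ?_, fun x hx hxp hd => ?_⟩
  · obtain ⟨k, hk⟩ := hxk
    obtain ⟨S, hS⟩ := (IsPGroup.of_card (n := k)
      (by rw [Nat.card_zpowers, hk] : Nat.card (Subgroup.zpowers x) = p ^ k)).exists_le_sylow
    obtain ⟨P, rfl⟩ := Sylow.mapSurjective_surjective hπ p S
    obtain ⟨a, haP, rfl⟩ := hS (Subgroup.mem_zpowers x)
    obtain ⟨b, rfl⟩ := hπ y
    obtain ⟨i, hi⟩ := IsPGroup.iff_orderOf.mp P.isPGroup' ⟨a, haP⟩
    rw [← Subgroup.orderOf_coe] at hi
    obtain ⟨l, hl⟩ := h.same a b (hlift a hx) (hlift b hy) (hpx.trans (orderOf_map_dvd π a))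
      (hpy.trans (orderOf_map_dvd π b)) ⟨i, hi⟩
    obtain ⟨m, -, hm⟩ := (Nat.dvd_prime_pow hp.out).mp (hl ▸ orderOf_map_dvd π b)
    exact ⟨m, hm⟩
  · obtain ⟨a, rfl⟩ := hπ x
    rw [← map_pow] at hxp hd
    exact h.pow a (hlift a hx) (hlift _ hxp) (hd.trans (orderOf_map_dvd π _))

variable {G : Type u} [Group G] [Finite G] {p : ℕ} [hp : Fact p.Prime]

attribute [local instance high] Fintype.ofFinite

omit hp in
/-- An element with no conjugate in the inertia group of some linear character vanishes. -/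
theorem vanishes_of_avoid (F : Subgroup G) [F.Normal] (l : F →* ℂˣ) {x : G}
    (h : ∀ g : G, g⁻¹ * x * g ∉ inertia F (linFun l)) : Vanishes G x := by
  obtain ⟨χ, hχ⟩ := Blk83.exists_over F (linIrr l)
  set T := inertia F (linFun l) with hT
  have hFT : F ≤ T := le_inertia F (Char.IsIrrCharacter.isClassFunction (linIrr l).2)
  obtain ⟨ψ, -, hψ, -⟩ := Clifford.exists_indFun_eq F T hFT (linIrr l).2
    (fun g => mem_inertia) χ.2 hχ
  refine ⟨χ, ?_⟩
  rw [← hψ]
  exact Char.indFun_eq_zero_of_forall_notMem _ _ _ h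

/-- The setting: solvable with trivial `p`-core, and the Fitting subgroup. -/
structure Setting (p : ℕ) (G : Type u) [Group G] (F : Subgroup G) : Prop where
  van : VanProp p G
  eqF : F = Cfsg.fittingSubgroup G
  notDvd : ¬ p ∣ Nat.card F
  cent : Subgroup.centralizer (F : Set G) ≤ F
  nil : Group.IsNilpotent F
  lin : ∃ l : F →* ℂˣ, l ≠ 1

/-- `x` has no fixed point on `F` but `1`. -/
def Free (F : Subgroup G) (x : G) : Prop := ∀ v ∈ F, x * v = v * x → v = 1

variable {F : Subgroup G}

omit hp in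
theorem Free.conj [F.Normal] {x : G} (h : Free F x) (g : G) : Free F (g * x * g⁻¹) := by
  intro v hv hxv
  have h1 := h (g⁻¹ * v * g) (by
    simpa using (inferInstance : F.Normal).conj_mem v hv g⁻¹) (by
    have h2 := congrArg (fun z => g⁻¹ * z * g) hxv
    simpa [mul_assoc] using h2)
  calc v = g * (g⁻¹ * v * g) * g⁻¹ := by group
    _ = 1 := by rw [h1, mul_one, mul_inv_cancel]

omit hp in
theorem Free.lin_eq_one [F.Normal] {x : G} (h : Free F x) (l : F →* ℂˣ)
    (hx : x ∈ inertia F (linFun l)) : l = 1 := by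
  let f : F → F := fun v => v⁻¹ * MulAut.conjNormal (H := F) x v
  have hinj : Function.Injective f := by
    intro v w hvw
    have h1 : MulAut.conjNormal (H := F) x (w * v⁻¹) = w * v⁻¹ := by
      rw [map_mul, map_inv]
      calc MulAut.conjNormal (H := F) x w * (MulAut.conjNormal (H := F) x v)⁻¹
          = w * f w * (f v)⁻¹ * v⁻¹ := by simp [f, mul_assoc]
        _ = w * v⁻¹ := by rw [hvw, mul_inv_cancel_right]
    have h2 := congrArg Subtype.val h1
    rw [MulAut.conjNormal_apply, mul_inv_eq_iff_eq_mul] at h2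
    have h3 := h _ (w * v⁻¹ : F).2 h2
    exact (mul_inv_eq_one.mp (Subtype.ext h3 : (w * v⁻¹ : F) = 1)).symm
  refine MonoidHom.ext fun v => ?_
  obtain ⟨w, rfl⟩ := Finite.surjective_of_injective hinj v
  have h4 : l (MulAut.conjNormal (H := F) x w) = l w :=
    Units.ext (congrFun (mem_inertia.mp hx) w)
  show l (w⁻¹ * MulAut.conjNormal (H := F) x w) = 1
  rw [map_mul, map_inv, h4, inv_mul_cancel]

namespace Setting

variable [F.Normal] (S : Setting p G F)

include S

/-- Elements of a subgroup with a regular linear character vanish. -/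
theorem free_of_regular (E : Subgroup G) (hE : IsPGroup p E) (hEF : (E ⊔ F).Normal) (l : F →* ℂˣ)
    (hl : ∀ e ∈ E, e ∈ inertia F (linFun l) → e = 1) {e : G} (he : e ∈ E) (he1 : e ≠ 1) :
    Free F e ∧ e ^ p = 1 := by
  set T := inertia F (linFun l) with hT
  have hFT : F ≤ T := le_inertia F (Char.IsIrrCharacter.isClassFunction (linIrr l).2)
  have hordp : ∀ a ∈ E, ∃ k, orderOf a = p ^ k := fun a ha => by
    obtain ⟨k, hk⟩ := IsPGroup.iff_orderOf.mp hE ⟨a, ha⟩
    exact ⟨k, by rw [← hk, ← Subgroup.orderOf_coe]⟩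
  have havoid : ∀ a ∈ E, a ≠ 1 → ∀ v ∈ F, ∀ g : G, g⁻¹ * (a * v) * g ∉ T := by
    intro a ha ha1 v hv g hmem
    have hv' : g⁻¹ * v * g ∈ T :=
      hFT (by simpa using (inferInstance : F.Normal).conj_mem v hv g⁻¹)
    have ha' : g⁻¹ * a * g ∈ T := by
      have := T.mul_mem hmem (T.inv_mem hv')
      simpa [mul_assoc] using this
    have hEm : g⁻¹ * a * g ∈ E ⊔ F := by
      simpa using hEF.conj_mem a (Subgroup.mem_sup_left ha) g⁻¹
    obtain ⟨a', ha'E, w, hw, hprod⟩ := Subgroup.mem_sup_of_normal_right.mp hEm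
    have ha'T : a' ∈ T := by
      have h2 := T.mul_mem ha' (T.inv_mem (hFT hw))
      rwa [← hprod, mul_inv_cancel_right] at h2
    have hinF : g⁻¹ * a * g ∈ F := by
      rw [← hprod, hl a' ha'E ha'T, one_mul]; exact hw
    have haF : a ∈ F := by
      simpa [mul_assoc] using (inferInstance : F.Normal).conj_mem _ hinF g
    obtain ⟨k, hk⟩ := hordp a ha
    have h3 : orderOf a ∣ Nat.card F := by
      rw [show a = ((⟨a, haF⟩ : F) : G) from rfl, Subgroup.orderOf_coe]
      exact orderOf_dvd_natCard _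
    rcases k with _ | k
    · exact ha1 (orderOf_eq_one_iff.mp (by rw [hk, pow_zero]))
    · exact S.notDvd ((dvd_pow_self p k.succ_ne_zero).trans (hk ▸ h3))
  have hvan : ∀ a ∈ E, a ≠ 1 → Vanishes G a := fun a ha ha1 =>
    vanishes_of_avoid F l fun g => by simpa using havoid a ha ha1 1 F.one_mem g
  have hpd : ∀ a ∈ E, a ≠ 1 → p ∣ orderOf a := fun a ha ha1 => by
    obtain ⟨k, hk⟩ := hordp a ha
    rcases k with _ | k
    · exact absurd (orderOf_eq_one_iff.mp (by rw [hk, pow_zero])) ha1
    · rw [hk]; exact dvd_pow_self p k.succ_ne_zero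
  refine ⟨fun v hv hev => ?_, ?_⟩
  · by_contra hv1
    have hvF : orderOf v ∣ Nat.card F := by
      rw [show v = ((⟨v, hv⟩ : F) : G) from rfl, Subgroup.orderOf_coe]
      exact orderOf_dvd_natCard _
    obtain ⟨k, hk⟩ := hordp e he
    have hcop : (orderOf e).Coprime (orderOf v) := by
      rw [hk]
      exact ((hp.out.coprime_iff_not_dvd).mpr fun h => S.notDvd (h.trans hvF)).pow_left k
    have hord := (show Commute e v from hev).orderOf_mul_eq_mul_orderOf_of_coprime hcop
    obtain ⟨m, hm⟩ := S.van.same e (e * v) (hvan e he he1)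
      (vanishes_of_avoid F l (havoid e he he1 v hv)) (hpd e he he1)
      (hord ▸ (hpd e he he1).mul_right _) ⟨k, hk⟩
    rw [hord] at hm
    refine hv1 (orderOf_eq_one_iff.mp ?_)
    obtain ⟨i, -, hi⟩ := (Nat.dvd_prime_pow hp.out).mp (hm ▸ dvd_mul_left (orderOf v) (orderOf e))
    rcases i with _ | i
    · simpa using hi
    · exact absurd ((dvd_pow_self p i.succ_ne_zero).trans (hi ▸ hvF)) S.notDvd
  · by_contra h1
    exact S.van.pow e (hvan e he he1) (hvan _ (pow_mem he p) h1)
      (hpd _ (pow_mem he p) h1)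

/-- A `p`-element acting trivially on the linear characters of `F` is trivial. -/
theorem eq_one_of_fix_all (E : Subgroup G) (hE : IsPGroup p E) {e : G} (he : e ∈ E)
    (hfix : ∀ l : F →* ℂˣ, e ∈ inertia F (linFun l)) : e = 1 := by
  haveI := S.nil
  obtain ⟨k, hk⟩ := IsPGroup.iff_orderOf.mp hE ⟨e, he⟩
  rw [← Subgroup.orderOf_coe] at hk
  have hcop : (Nat.card (Subgroup.zpowers e)).Coprime (Nat.card (frattini F)) := by
    rw [Nat.card_zpowers, hk]
    exact ((hp.out.coprime_iff_not_dvd).mpr fun h =>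
      S.notDvd (h.trans (Subgroup.card_subgroup_dvd_card _))).pow_left k
  have htriv : ∀ a ∈ Subgroup.zpowers e, ∀ v ∈ F,
      a * v * a⁻¹ * v⁻¹ ∈ (frattini F).map F.subtype := by
    intro a ha v hv
    have haI : ∀ l : F →* ℂˣ, a ∈ inertia F (linFun l) := fun l =>
      (Subgroup.zpowers_le.mpr (hfix l)) ha
    set w : F := MulAut.conjNormal (H := F) a ⟨v, hv⟩ * (⟨v, hv⟩ : F)⁻¹ with hw
    have hwc : w ∈ commutator F := by
      by_contra hne
      have hne' : (Abelianization.of w) ≠ 1 := fun h => hne (by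
        rwa [← MonoidHom.mem_ker, Abelianization.ker_of] at h)
      obtain ⟨f, hf⟩ :=
        CommGroup.exists_apply_ne_one_of_hasEnoughRootsOfUnity (Abelianization F) ℂ hne'
      apply hf
      have h1 := congrFun (mem_inertia.mp (haI (f.comp Abelianization.of))) ⟨v, hv⟩
      rw [hw, map_mul, map_mul, map_inv, map_inv, mul_inv_eq_one]
      exact Units.ext h1
    refine ⟨w, CfsgLib.Transfer.commutator_le_frattini hwc, ?_⟩
    simp [hw, MulAut.conjNormal_apply]
  have hcent := CfsgLib.Solvable.le_centralizer_of_trivial_on_frattini_quotient hcop htriv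
  have heF : e ∈ F := S.cent (hcent (Subgroup.mem_zpowers e))
  have h3 : orderOf e ∣ Nat.card F := by
    rw [show e = ((⟨e, heF⟩ : F) : G) from rfl, Subgroup.orderOf_coe]
    exact orderOf_dvd_natCard _
  rcases k with _ | k
  · exact orderOf_eq_one_iff.mp (by rw [hk, pow_zero])
  · exact absurd ((dvd_pow_self p k.succ_ne_zero).trans (hk ▸ h3)) S.notDvd

theorem coprime_lin : (Nat.card (Additive (F →* ℂˣ))).Coprime p := by
  have h1 : Nat.card (F →* ℂˣ) ∣ Nat.card F := by
    rw [CfsgLib.TwoGroupInvol.card_linear]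
    exact Subgroup.index_dvd_card _
  exact ((hp.out.coprime_iff_not_dvd).mpr fun h => S.notDvd (h.trans h1)).symm

/-- Two independent commuting elements without fixed points are impossible. -/
theorem rank_one {a z : G} (haz : Commute a z) (hz : z ^ p = 1) (ha : a ^ p = 1)
    (hzf : Free F z) (haf : ∀ i : ℕ, Free F (a * z ^ i)) : False := by
  letI := linAction F (⊤ : Subgroup G)
  haveI : Finite (Additive (F →* ℂˣ)) := finite_linear (N := F)
  obtain ⟨l, hl⟩ := S.lin
  have hfree : ∀ g : (⊤ : Subgroup G), Free F (g : G) →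
      ∀ w : Additive (F →* ℂˣ), g • w = w → w = 0 := fun g hg w hw =>
    congrArg Additive.ofMul (hg.lin_eq_one w.toMul ((smul_eq_iff F ⊤ g w).mp hw))
  let a' : (⊤ : Subgroup G) := ⟨a, Subgroup.mem_top a⟩
  let z' : (⊤ : Subgroup G) := ⟨z, Subgroup.mem_top z⟩
  have hsum := sum_norm (p := p) (a := a') (z := z') (Subtype.ext haz.eq) (Subtype.ext hz)
    (hfree z' hzf) (Additive.ofMul l)
  rw [Finset.sum_eq_zero fun i _ => norm_eq_zero_of_free
    (Subtype.ext (by
      show (a * z ^ i) ^ p = 1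
      rw [(haz.pow_right i).mul_pow, ha, ← pow_mul, mul_comm, pow_mul, hz, one_pow, one_mul]))
    (hfree _ (haf i)) _] at hsum
  exact hl (congrArg Additive.toMul (eq_of_nsmul_eq S.coprime_lin
    (hsum.symm.trans (smul_zero p).symm)))

/-- In an abelian or exponent `p` symplectic group some linear character is regular. -/
theorem exists_regular (E : Subgroup G) (hE : IsPGroup p E)
    (h : (∀ a ∈ E, ∀ b ∈ E, a * b = b * a) ∨ (p ≠ 2 ∧ (∀ a ∈ E, a ^ p = 1) ∧
      ∃ z ∈ E, Free F z ∧ (∀ a ∈ E, a * z = z * a) ∧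
        ∀ a ∈ E, ∀ b ∈ E, ⁅a, b⁆ ∈ Subgroup.zpowers z)) :
    ∃ l : F →* ℂˣ, ∀ e ∈ E, e ∈ inertia F (linFun l) → e = 1 := by
  letI := linAction F E
  haveI : Finite (Additive (F →* ℂˣ)) := finite_linear (N := F)
  suffices H : ∃ v : Additive (F →* ℂˣ), ∀ g : E, g • v = v → ∀ w, g • w = w by
    obtain ⟨v, hv⟩ := H
    refine ⟨v.toMul, fun e he hmem => S.eq_one_of_fix_all E hE he fun l => ?_⟩
    exact (smul_eq_iff F E ⟨e, he⟩ (Additive.ofMul l)).mp
      (hv ⟨e, he⟩ ((smul_eq_iff F E ⟨e, he⟩ v).mpr hmem) _)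
  rcases h with h | ⟨hp2, hexp, z, hz, hzf, hzc, hcomm⟩
  · refine exists_stab_eq_kernel_comm (E := E) (L := Additive (F →* ℂˣ)) (fun a b => Subtype.ext (h (a : G) a.2 (b : G) b.2)) ?_
    obtain ⟨k, hk⟩ := IsPGroup.iff_card.mp hE
    rw [hk]
    exact S.coprime_lin.pow_right k
  · refine exists_stab_eq_kernel hp2 _ E _ rfl S.coprime_lin
      (fun a => Subtype.ext (hexp a a.2)) ⟨z, hz⟩
      (Subgroup.mem_center_iff.mpr fun a => Subtype.ext (hzc a a.2)) (fun a b => ?_) fun w hw =>
      congrArg Additive.ofMul (hzf.lin_eq_one w.toMul ((smul_eq_iff F E ⟨z, hz⟩ w).mp hw))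
    obtain ⟨i, hi⟩ := Subgroup.mem_zpowers_iff.mp (hcomm a a.2 b b.2)
    exact Subgroup.mem_zpowers_iff.mpr ⟨i, Subtype.ext (by simpa [commutatorElement_def] using hi)⟩

/-- A non-trivial abelian subgroup, normal modulo `F`, has order `p`. -/
theorem abelian_cyclic (A : Subgroup G) (hA : IsPGroup p A) (hAF : (A ⊔ F).Normal)
    (hAc : ∀ a ∈ A, ∀ b ∈ A, a * b = b * a) {z : G} (hz : z ∈ A) (hz1 : z ≠ 1) :
    Free F z ∧ A = Subgroup.zpowers z ∧ orderOf z = p := by
  obtain ⟨l, hl⟩ := S.exists_regular A hA (Or.inl hAc)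
  have key := fun e he he1 => S.free_of_regular A hA hAF l hl (e := e) he he1
  refine ⟨(key z hz hz1).1, le_antisymm (fun a ha => ?_) (Subgroup.zpowers_le.mpr hz),
    orderOf_eq_prime (key z hz hz1).2 hz1⟩
  by_contra hna
  have ha1 : a ≠ 1 := fun h => hna (h ▸ one_mem _)
  refine S.rank_one (hAc a ha z hz) (key z hz hz1).2 (key a ha ha1).2 (key z hz hz1).1 fun i =>
    (key _ (mul_mem ha (pow_mem hz i)) fun h => hna ?_).1
  rw [mul_eq_one_iff_eq_inv] at h
  rw [h]
  exact inv_mem (pow_mem (Subgroup.mem_zpowers z) i)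

/-- The centraliser of a fixed-point-free `p`-element is a `p`-group. -/
theorem centralizer_isPGroup {z : G} (hzf : Free F z) (hzp : orderOf z = p) :
    IsPGroup p (Subgroup.centralizer ({z} : Set G)) := by
  set C := Subgroup.centralizer ({z} : Set G) with hC
  obtain ⟨l, hl⟩ := S.lin
  refine IsPGroup.of_card (n := _) (Nat.eq_prime_pow_of_unique_prime_dvd Nat.card_pos.ne'
    fun {s} hs hsC => ?_)
  by_contra hsp
  haveI : Fact s.Prime := ⟨hs⟩
  obtain ⟨y, hy⟩ := exists_prime_orderOf_dvd_card' (G := C) s hsC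
  rw [← Subgroup.orderOf_coe] at hy
  have hyz : Commute z (y : G) := (Subgroup.mem_centralizer_singleton_iff.mp y.2).symm
  have hcop : (orderOf z).Coprime (orderOf (y : G)) := by
    rw [hzp, hy]
    exact (Nat.coprime_primes hp.out hs).mpr (Ne.symm hsp)
  have hord := hyz.orderOf_mul_eq_mul_orderOf_of_coprime hcop
  have havoid : ∀ (w : G), Commute z w → (orderOf z).Coprime (orderOf w) →
      Vanishes G (z * w) := fun w hzw hcopw => vanishes_of_avoid F l fun g hmem => by
    apply hl
    refine (show Free F (g⁻¹ * z * g) by simpa using hzf.conj g⁻¹).lin_eq_one l ?_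
    obtain ⟨m, hm⟩ := exists_pow_eq_self_of_coprime (x := z) (n := orderOf w) hcopw.symm
    have h1 : (g⁻¹ * (z * w) * g) ^ (orderOf w * m) = g⁻¹ * z * g := by
      have h0 : ∀ k : ℕ, (g⁻¹ * (z * w) * g) ^ k = g⁻¹ * (z * w) ^ k * g := fun k => by
        have := conj_pow (i := k) (a := g⁻¹) (b := z * w)
        simpa using this
      rw [h0, hzw.mul_pow, pow_mul w, pow_orderOf_eq_one, one_pow, mul_one, pow_mul, hm]
    exact h1 ▸ pow_mem hmem _
  obtain ⟨k, hk⟩ := S.van.same z (z * (y : G))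
    (by simpa using havoid 1 (Commute.one_right z) (by simp))
    (havoid _ hyz hcop) (hzp ▸ dvd_rfl) (by rw [hord, hzp]; exact dvd_mul_right _ _)
    ⟨1, by rw [hzp, pow_one]⟩
  rw [hord, hy] at hk
  exact hsp ((Nat.prime_dvd_prime_iff_eq hs hp.out).mp
    (hs.dvd_of_dvd_pow (hk ▸ dvd_mul_left s (orderOf z))))

omit S hp [Finite G] in
/-- A characteristic subgroup stays normal modulo `F`. -/
theorem char_sup_normal (P : Subgroup G) (K : Subgroup P) [K.Characteristic]
    (hN : Subgroup.normalizer (P : Set G) ⊔ F = ⊤) : (K.map P.subtype ⊔ F).Normal := by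
  refine normal_of_normalized hN ?_ (le_sup_right.trans Subgroup.le_normalizer)
  refine Subgroup.le_normalizer_iff.mpr fun g hg x hx => ?_
  obtain ⟨k, hk, v, hv, rfl⟩ := Subgroup.mem_sup_of_normal_right.mp hx
  obtain ⟨k0, hk0, rfl⟩ := hk
  let c : P ≃* P :=
    { toFun := fun y => ⟨g * y * g⁻¹, (Subgroup.mem_normalizer_iff.mp hg y).mp y.2⟩
      invFun := fun y => ⟨g⁻¹ * y * g, by
        simpa using (Subgroup.mem_normalizer_iff.mp (inv_mem hg) y).mp y.2⟩
      left_inv := fun y => Subtype.ext (by simp [mul_assoc])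
      right_inv := fun y => Subtype.ext (by simp [mul_assoc])
      map_mul' := fun y w => Subtype.ext (by simp [mul_assoc]) }
  have h1 : c k0 ∈ K := by
    have h2 := (inferInstance : K.Characteristic).fixed c
    exact (SetLike.ext_iff.mp h2 k0).mpr hk0
  refine Subgroup.mem_sup_of_normal_right.mpr ⟨_, ⟨c k0, h1, rfl⟩, g * v * g⁻¹,
    (inferInstance : F.Normal).conj_mem v hv g, ?_⟩
  simp [c, mul_assoc]

/-- The core: a fixed-point-free element of order `p`, normal modulo `F`. -/
theorem sylow_card_of_free {z : G} (hzf : Free F z) (hzp : orderOf z = p)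
    (hzF : (Subgroup.zpowers z ⊔ F).Normal) (P₀ : Sylow p G) :
    Nat.card (P₀ : Subgroup G) = p := by
  classical
  have hz1 : z ≠ 1 := fun h => by rw [h, orderOf_one] at hzp; exact hp.out.one_lt.ne hzp
  set C := Subgroup.centralizer ({z} : Set G) with hC
  have hCp : IsPGroup p C := S.centralizer_isPGroup hzf hzp
  obtain ⟨P, hCP⟩ := hCp.exists_le_sylow
  set M := Subgroup.zpowers z ⊔ F with hM
  have hzC : z ∈ C := Subgroup.mem_centralizer_singleton_iff.mpr rfl
  have hcardz : Nat.card (Subgroup.zpowers z) = p := by rw [Nat.card_zpowers, hzp]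
  have hMi : ¬ p ∣ (Subgroup.zpowers z).relIndex M := by
    intro h
    apply S.notDvd
    refine h.trans (Nat.dvd_of_mul_dvd_mul_left (k := p) hp.out.pos ?_)
    have h1 : Nat.card ((Subgroup.zpowers z).subgroupOf M) * (Subgroup.zpowers z).relIndex M =
        Nat.card M := ((Subgroup.zpowers z).subgroupOf M).card_mul_index
    have h2 : Nat.card (F.subgroupOf M) * F.relIndex M = Nat.card M :=
      (F.subgroupOf M).card_mul_index
    rw [Nat.card_congr (Subgroup.subgroupOfEquivOfLe (le_sup_left : _ ≤ M)).toEquiv, hcardz] at h1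
    rw [Nat.card_congr (Subgroup.subgroupOfEquivOfLe (le_sup_right : F ≤ M)).toEquiv, hM,
      Subgroup.relIndex_sup_right] at h2
    have h3 : F.relIndex (Subgroup.zpowers z) ∣ p := hcardz ▸ Subgroup.relIndex_dvd_card _ _
    rw [h1, hM, ← h2, mul_comm p]
    exact mul_dvd_mul_left _ h3
  -- `P` centralises `z`
  have hPM : (P : Subgroup G) ⊓ M = Subgroup.zpowers z := by
    refine (Subgroup.eq_of_le_of_card_ge (le_inf (Subgroup.zpowers_le.mpr (hCP hzC)) le_sup_left)
      ?_).symm
    obtain ⟨k, hk⟩ := IsPGroup.iff_card.mp (P.isPGroup'.to_le (inf_le_left : _ ⊓ M ≤ _))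
    have hle1 : Subgroup.zpowers z ≤ (P : Subgroup G) ⊓ M :=
      le_inf (Subgroup.zpowers_le.mpr (hCP hzC)) le_sup_left
    have h1 := Subgroup.relIndex_mul_relIndex _ _ _ hle1 (inf_le_right : _ ⊓ M ≤ M)
    have h2 : (Subgroup.zpowers z).relIndex ((P : Subgroup G) ⊓ M) ∣ p ^ k :=
      hk ▸ Subgroup.relIndex_dvd_card _ _
    obtain ⟨i, -, hi⟩ := (Nat.dvd_prime_pow hp.out).mp h2
    rcases i with _ | i
    · exact Subgroup.card_le_of_le (Subgroup.relIndex_eq_one.mp (by simpa using hi))
    · exact absurd ((hi ▸ dvd_pow_self p i.succ_ne_zero).mul_right _ |> fun h => h1 ▸ h) hMi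
  have hPcent : ∀ x ∈ (P : Subgroup G), x * z = z * x := by
    intro x hx
    -- a `p`-element cannot induce a non-trivial automorphism of a group of order `p`
    let Q : Subgroup G := Subgroup.zpowers z
    have hQn : (Q.subgroupOf (P : Subgroup G)).Normal := by
      refine ⟨fun y hy w => ?_⟩
      rw [Subgroup.mem_subgroupOf] at hy ⊢
      have : (w : G) * y * (w : G)⁻¹ ∈ (P : Subgroup G) ⊓ M :=
        ⟨(w * y * w⁻¹).2, hzF.conj_mem _ (Subgroup.mem_sup_left hy) _⟩
      rw [hPM] at this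
      exact this
    haveI := hQn
    have hne : Q.subgroupOf (P : Subgroup G) ≠ ⊥ := fun h => hz1 (by
      have : (⟨z, hCP hzC⟩ : (P : Subgroup G)) ∈ Q.subgroupOf (P : Subgroup G) :=
        Subgroup.mem_subgroupOf.mpr (Subgroup.mem_zpowers z)
      rw [h, Subgroup.mem_bot] at this
      exact congrArg Subtype.val this)
    obtain ⟨w, hw, hw1⟩ :=
      CfsgLib.Solvable.exists_ne_one_mem_inf_center_of_normal P.isPGroup' hne
    have hwz : Subgroup.zpowers (w : G) = Q := by
      refine Subgroup.eq_of_le_of_card_ge (Subgroup.zpowers_le.mpr hw.1) (le_of_eq ?_)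
      rw [hcardz, Nat.card_zpowers]
      have hd : orderOf (w : G) ∣ p := hcardz ▸ (by
        rw [show (w : G) = ((⟨(w : G), hw.1⟩ : Q) : G) from rfl, Subgroup.orderOf_coe]
        exact orderOf_dvd_natCard _)
      rcases hp.out.eq_one_or_self_of_dvd _ hd with h | h
      · exact absurd (Subtype.ext (orderOf_eq_one_iff.mp h)) hw1
      · exact h.symm
    obtain ⟨i, hi⟩ := Subgroup.mem_zpowers_iff.mp
      (show z ∈ Subgroup.zpowers (w : G) by rw [hwz]; exact Subgroup.mem_zpowers z)
    rw [← hi]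
    exact (show Commute x (w : G) from congrArg Subtype.val
      (Subgroup.mem_center_iff.mp hw.2 ⟨x, hx⟩)).zpow_right i
  have hPC : (P : Subgroup G) = C :=
    le_antisymm (fun x hx => Subgroup.mem_centralizer_singleton_iff.mpr (hPcent x hx)) hCP
  -- the normaliser of `P` supplements `F`
  set N := Subgroup.normalizer ((Subgroup.zpowers z : Subgroup G) : Set G) with hN
  have hNtop : N ⊔ F = ⊤ := by
    haveI := hzF
    let Q : Sylow p M := IsPGroup.toSylow (P := (Subgroup.zpowers z).subgroupOf M)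
      ((IsPGroup.of_card (n := 1) (by rw [hcardz, pow_one])).comap_of_injective _ M.subtype_injective)
      hMi
    have h1 := Sylow.normalizer_sup_eq_top Q
    rw [show (Q : Subgroup M).map M.subtype = Subgroup.zpowers z from
      Subgroup.map_subgroupOf_eq_of_le le_sup_left] at h1
    refine top_le_iff.mp (h1 ▸ sup_le le_sup_left ?_)
    exact sup_le (Subgroup.le_normalizer.trans le_sup_left) le_sup_right
  have hNP : N ≤ Subgroup.normalizer ((P : Subgroup G) : Set G) := by
    refine Subgroup.le_normalizer_iff.mpr fun g hg x hx => ?_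
    rw [hPC, hC, Subgroup.mem_centralizer_singleton_iff] at hx ⊢
    have hgz : g⁻¹ * z * g ∈ Subgroup.zpowers z := by
      simpa using (Subgroup.mem_normalizer_iff.mp (inv_mem hg) z).mp (Subgroup.mem_zpowers z)
    obtain ⟨i, hi⟩ := Subgroup.mem_zpowers_iff.mp hgz
    have h1 : Commute x (g⁻¹ * z * g) := hi ▸ (show Commute x z from hx).zpow_right i
    calc g * x * g⁻¹ * z = g * (x * (g⁻¹ * z * g)) * g⁻¹ := by group
      _ = g * ((g⁻¹ * z * g) * x) * g⁻¹ := by rw [h1.eq]
      _ = z * (g * x * g⁻¹) := by group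
  have hPtop : Subgroup.normalizer ((P : Subgroup G) : Set G) ⊔ F = ⊤ :=
    top_le_iff.mp (hNtop ▸ sup_le_sup_right hNP F)
  -- the centre of `P`
  set Z := (Subgroup.center (P : Subgroup G)).map (P : Subgroup G).subtype with hZdef
  have hzZ : z ∈ Z := ⟨⟨z, hCP hzC⟩, Subgroup.mem_center_iff.mpr fun x =>
    Subtype.ext (hPcent x x.2), rfl⟩
  have hZF : (Z ⊔ F).Normal := char_sup_normal (P : Subgroup G) _ hPtop
  have hZeq : Z = Subgroup.zpowers z := (S.abelian_cyclic Z
    ((P.isPGroup'.to_subgroup _).map _) hZF (by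
      rintro _ ⟨a, ha, rfl⟩ _ ⟨b, -, rfl⟩
      exact congrArg Subtype.val (Subgroup.mem_center_iff.mp ha b).symm) hzZ hz1).2.1
  have hzcen : ∀ w : (P : Subgroup G), w ∈ Subgroup.center (P : Subgroup G) →
      (w : G) ∈ Subgroup.zpowers z := fun w hw => hZeq ▸ ⟨w, hw, rfl⟩
  -- the second centre
  set E0 := Subgroup.upperCentralSeries (P : Subgroup G) 2 with hE0
  have hE0mem : ∀ u : (P : Subgroup G),
      u ∈ E0 ↔ ∀ x : (P : Subgroup G), ⁅u, x⁆ ∈ Subgroup.center (P : Subgroup G) := fun u => by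
    rw [hE0, Subgroup.mem_upperCentralSeries_succ_iff, Subgroup.upperCentralSeries_one]
  haveI hE0c : E0.Characteristic := by rw [hE0]; infer_instance
  set E := E0.map (P : Subgroup G).subtype with hEdef
  have hEp : IsPGroup p E := (P.isPGroup'.to_subgroup _).map _
  have hEF : (E ⊔ F).Normal := char_sup_normal (P : Subgroup G) _ hPtop
  have hcP : ∀ w : (P : Subgroup G), w ∈ Subgroup.center (P : Subgroup G) → w ^ p = 1 := by
    intro w hw
    obtain ⟨i, hi⟩ := Subgroup.mem_zpowers_iff.mp (hzcen w hw)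
    refine Subtype.ext ?_
    rw [SubmonoidClass.coe_pow, OneMemClass.coe_one, ← hi, ← zpow_natCast, ← zpow_mul, mul_comm,
      zpow_mul, zpow_natCast, ← hzp, pow_orderOf_eq_one, one_zpow]
  have hexpE : ∀ a ∈ E, a ^ p = 1 := by
    rintro _ ⟨u, hu, rfl⟩
    have hup : u ^ p ∈ Subgroup.center (P : Subgroup G) := by
      refine Subgroup.mem_center_iff.mpr fun x => ?_
      have hc := (hE0mem u).mp (show u ∈ E0 from hu) x
      have hd : x * u * x⁻¹ = ⁅u, x⁆⁻¹ * u := by rw [commutatorElement_def]; group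
      have h1 : (x * u * x⁻¹) ^ p = u ^ p := by
        rw [hd, (show Commute ⁅u, x⁆⁻¹ u from
          (show Commute ⁅u, x⁆ u from (Subgroup.mem_center_iff.mp hc u).symm).inv_left).mul_pow,
          inv_pow, hcP _ hc, inv_one, one_mul]
      rw [conj_pow] at h1
      exact (mul_inv_eq_iff_eq_mul.mp h1)
    by_contra hne
    have hne1 : (u : G) ^ p ≠ 1 := hne
    obtain ⟨i, hi⟩ := Subgroup.mem_zpowers_iff.mp (hzcen _ hup)
    rw [SubmonoidClass.coe_pow] at hi
    have hfree : Free F ((u : G) ^ p) := fun v hv hcm => hzf v hv (by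
      have hle : Subgroup.zpowers ((u : G) ^ p) = Subgroup.zpowers z := by
        refine Subgroup.eq_of_le_of_card_ge (Subgroup.zpowers_le.mpr
          (hi ▸ zpow_mem (Subgroup.mem_zpowers z) i)) (le_of_eq ?_)
        rw [hcardz, Nat.card_zpowers, orderOf_eq_prime (p := p) ?_ hne1]
        rw [← hi, ← zpow_natCast, ← zpow_mul, mul_comm, zpow_mul, zpow_natCast, ← hzp,
          pow_orderOf_eq_one, one_zpow]
      obtain ⟨j, hj⟩ := Subgroup.mem_zpowers_iff.mp (hle.symm ▸ Subgroup.mem_zpowers z)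
      rw [← hj]
      exact (show Commute ((u : G) ^ p) v from hcm).zpow_left j)
    have hufree : Free F (u : G) := fun v hv hcm =>
      hfree v hv ((show Commute (u : G) v from hcm).pow_left p)
    obtain ⟨l, hl⟩ := S.lin
    have hvan : ∀ w : G, Free F w → Vanishes G w := fun w hw => vanishes_of_avoid F l fun g hmem =>
      hl ((show Free F (g⁻¹ * w * g) by simpa using hw.conj g⁻¹).lin_eq_one l hmem)
    refine S.van.pow _ (hvan _ hufree) (hvan _ hfree) ?_
    rw [← hi]
    have : orderOf (z ^ i) ∣ p := hzp ▸ orderOf_dvd_of_mem_zpowers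
      (zpow_mem (Subgroup.mem_zpowers z) i)
    rcases hp.out.eq_one_or_self_of_dvd _ this with h | h
    · exact absurd (hi ▸ orderOf_eq_one_iff.mp h) hne1
    · rw [h]
  have hzE : z ∈ E := ⟨⟨z, hCP hzC⟩, (hE0mem _).mpr fun x => by
    rw [commutatorElement_eq_one_iff_mul_comm.mpr (Subtype.ext (hPcent x x.2).symm)]
    exact one_mem _, rfl⟩
  obtain ⟨l, hl⟩ := S.exists_regular E hEp (by
    by_cases hp2 : p = 2
    · left
      subst hp2
      intro a ha b hb
      have h1 := hexpE _ ha
      have h2 := hexpE _ hb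
      have h3 := hexpE _ (mul_mem ha hb)
      rw [pow_two] at h1 h2 h3
      calc a * b = (a * b)⁻¹ := eq_inv_of_mul_eq_one_right h3
        _ = b⁻¹ * a⁻¹ := mul_inv_rev a b
        _ = b * a := by rw [inv_eq_of_mul_eq_one_right h1, inv_eq_of_mul_eq_one_right h2]
    · right
      refine ⟨hp2, hexpE, z, hzE, hzf, ?_, ?_⟩
      · rintro _ ⟨a, -, rfl⟩
        exact hPcent a a.2
      · rintro _ ⟨a, ha, rfl⟩ _ ⟨b, -, rfl⟩
        rw [← map_commutatorElement]
        exact hzcen _ ((hE0mem a).mp ha b))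
  have hEz : E = Subgroup.zpowers z := by
    refine le_antisymm (fun a ha => ?_) (Subgroup.zpowers_le.mpr hzE)
    by_contra hna
    refine S.rank_one ?_ (hzp ▸ pow_orderOf_eq_one z) (hexpE a ha) hzf fun i =>
      (S.free_of_regular E hEp hEF l hl (mul_mem ha (pow_mem hzE i)) fun h => hna ?_).1
    · obtain ⟨a', -, rfl⟩ := ha
      exact hPcent a' a'.2
    · rw [mul_eq_one_iff_eq_inv] at h
      rw [h]
      exact inv_mem (pow_mem (Subgroup.mem_zpowers z) i)
  have hE0le : E0 ≤ Subgroup.center (P : Subgroup G) := fun u hu => by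
    have h1 : (u : G) ∈ Z := hZeq ▸ hEz ▸ (⟨u, hu, rfl⟩ : (u : G) ∈ E)
    obtain ⟨w, hw, hwu⟩ := h1
    rwa [← Subtype.ext hwu]
  have hstab : ∀ m : ℕ, Subgroup.upperCentralSeries (P : Subgroup G) m ≤
      Subgroup.center (P : Subgroup G) := by
    intro m
    induction m with
    | zero => rw [Subgroup.upperCentralSeries_zero]; exact bot_le
    | succ m ih =>
      intro u hu
      rw [Subgroup.mem_upperCentralSeries_succ_iff] at hu
      exact hE0le ((hE0mem u).mpr fun x => ih (hu x))
  haveI := P.isPGroup'.isNilpotent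
  obtain ⟨m, hm⟩ := Group.IsNilpotent.nilpotent (G := (P : Subgroup G))
  have hcard : Nat.card (P : Subgroup G) = p := by
    refine (congrArg (fun K : Subgroup G => Nat.card K) (le_antisymm (fun x hx => ?_)
      (Subgroup.zpowers_le.mpr (hCP hzC)))).trans hcardz
    exact hzcen ⟨x, hx⟩ (hstab m (hm.symm ▸ Subgroup.mem_top _))
  exact (Nat.card_congr (Sylow.equiv P₀ P).toEquiv).trans hcard

end Setting

/-- The Sylow `p`-subgroups are cyclic when the `p`-core is trivial. -/
theorem isCyclic_sylow : ∀ (n : ℕ) (G : Type u) [Group G] [Finite G] [Group.IsSolvable G],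
    Nat.card G = n → VanProp p G → Cfsg.pCore p G = ⊥ → ∀ P : Sylow p G,
      IsCyclic (P : Subgroup G) := by
  intro n
  induction n using Nat.strong_induction_on with
  | _ n ih =>
  intro G _ _ _ hn hv hcore P
  classical
  rcases subsingleton_or_nontrivial G with hG | hG
  · infer_instance
  set F := Cfsg.fittingSubgroup G with hFdef
  haveI hFn : F.Normal := CfsgLib.Solvable.fittingSubgroup_normal G
  have hFne : F ≠ ⊥ := CfsgLib.Solvable.fittingSubgroup_ne_bot
  have hFnil : Group.IsNilpotent F := CfsgLib.Solvable.fittingSubgroup_isNilpotent G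
  have hFp : ¬ p ∣ Nat.card F := by
    intro h
    obtain ⟨Q⟩ : Nonempty (Sylow p F) := inferInstance
    haveI hQn : (Q : Subgroup F).Normal :=
      Q.normal_of_normalizerCondition (Group.normalizerCondition_of_isNilpotent)
    haveI : (Q : Subgroup F).Characteristic := Q.characteristic_of_normal hQn
    haveI := CfsgLib.Solvable.normal_map_subtype_of_characteristic F (Q : Subgroup F)
    have h1 := CfsgLib.Solvable.pCore_eq_bot_iff.mp hcore _ inferInstance
      (Q.isPGroup'.map F.subtype)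
    rw [Subgroup.map_eq_bot_iff, F.ker_subtype, le_bot_iff] at h1
    have h2 := Q.not_dvd_index
    rw [h1, Subgroup.index_bot] at h2
    exact h2 h
  haveI := hFnil
  have hlin : ∃ l : F →* ℂˣ, l ≠ 1 := by
    haveI : Finite (F →* ℂˣ) := finite_linear (N := F)
    by_contra h
    push Not at h
    have h1 : Nat.card (F →* ℂˣ) = 1 :=
      Nat.card_eq_one_iff_unique.mpr ⟨⟨fun a b => (h a).trans (h b).symm⟩, ⟨1⟩⟩
    rw [CfsgLib.TwoGroupInvol.card_linear, Subgroup.index_eq_one] at h1
    have h2 := CfsgLib.Transfer.eq_top_of_sup_commutator (G := F) (X := ⊥) (by rw [bot_sup_eq, h1])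
    have h3 : Nat.card F = 1 := by
      rw [← Subgroup.card_top (G := F), ← h2, Subgroup.card_bot]
    exact hFne (Subgroup.card_eq_one.mp h3)
  have S : Setting p G F :=
    ⟨hv, hFdef, hFp, CfsgLib.Solvable.centralizer_fittingSubgroup_le, hFnil, hlin⟩
  let π := QuotientGroup.mk' F
  have hπ : Function.Surjective π := QuotientGroup.mk'_surjective F
  haveI : Group.IsSolvable (G ⧸ F) := Group.isSolvable_of_surjective hπ
  by_cases hU : Cfsg.pCore p (G ⧸ F) = ⊥
  · -- the quotient is smaller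
    have hlt : Nat.card (G ⧸ F) < n := by
      rw [← hn, Subgroup.card_eq_card_quotient_mul_card_subgroup F]
      exact lt_mul_right Nat.card_pos (Finite.one_lt_card_iff_nontrivial.mpr
        ((Subgroup.nontrivial_iff_ne_bot F).mpr hFne))
    haveI := ih _ hlt (G ⧸ F) rfl (hv.quotient F) hU (P.mapSurjective hπ)
    let f : (P : Subgroup G) →* ((P.mapSurjective hπ : Sylow p (G ⧸ F)) : Subgroup (G ⧸ F)) :=
      { toFun := fun x => ⟨π (x : G), ⟨(x : G), x.2, rfl⟩⟩
        map_one' := Subtype.ext (map_one π)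
        map_mul' := fun a b => Subtype.ext (map_mul π (a : G) (b : G)) }
    refine isCyclic_of_injective f ((injective_iff_map_eq_one f).mpr fun x hx => ?_)
    have hxF : (x : G) ∈ F := (QuotientGroup.eq_one_iff _).mp (congrArg Subtype.val hx)
    obtain ⟨k, hk⟩ := IsPGroup.iff_orderOf.mp P.isPGroup' x
    refine orderOf_eq_one_iff.mp ?_
    rcases k with _ | k
    · simpa using hk
    · refine absurd ((dvd_pow_self p k.succ_ne_zero).trans (?_ : p ^ (k + 1) ∣ Nat.card F)) hFp
      rw [← hk, ← Subgroup.orderOf_coe, show (x : G) = ((⟨(x : G), hxF⟩ : F) : G) from rfl,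
        Subgroup.orderOf_coe]
      exact orderOf_dvd_natCard _
  · -- a fixed-point-free element of order `p`
    set U := Cfsg.pCore p (G ⧸ F) with hUdef
    haveI : U.Normal := CfsgLib.Solvable.pCore_normal p _
    set M := U.comap π with hMdef
    haveI : M.Normal := Subgroup.Normal.comap inferInstance π
    obtain ⟨Q⟩ : Nonempty (Sylow p M) := inferInstance
    set U0 := (Q : Subgroup M).map M.subtype with hU0def
    have hU0M : U0 ≤ M := Subgroup.map_subtype_le _
    have hFM : F ≤ M := fun x hx => by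
      show π x ∈ U
      rw [show π x = 1 from (QuotientGroup.eq_one_iff x).mpr hx]
      exact one_mem _
    have hU0p : IsPGroup p U0 := Q.isPGroup'.map _
    have hFidx : F.relIndex M = Nat.card U := by
      conv_lhs => rw [← QuotientGroup.ker_mk' F]
      rw [Subgroup.relIndex_ker]
      exact congrArg (fun K : Subgroup _ => Nat.card K)
        (Subgroup.map_comap_eq_self_of_surjective hπ U)
    obtain ⟨a, ha⟩ := CfsgLib.Solvable.card_pCore (p := p) (G := G ⧸ F)
    have hsupM : U0 ⊔ F = M := by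
      refine le_antisymm (sup_le hU0M hFM) (Subgroup.relIndex_eq_one.mp ?_)
      have h1 : (U0 ⊔ F).relIndex M ∣ p ^ a := by
        rw [← ha, ← hUdef, ← hFidx,
          ← Subgroup.relIndex_mul_relIndex F (U0 ⊔ F) M le_sup_right (sup_le hU0M hFM)]
        exact dvd_mul_left _ _
      have h2 : (U0 ⊔ F).relIndex M ∣ (Q : Subgroup M).index := by
        have : U0.relIndex M = (Q : Subgroup M).index := by
          rw [Subgroup.relIndex, hU0def, Subgroup.subgroupOf,
            Subgroup.comap_map_eq_self_of_injective M.subtype_injective]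
        rw [← this, ← Subgroup.relIndex_mul_relIndex U0 (U0 ⊔ F) M le_sup_left (sup_le hU0M hFM)]
        exact dvd_mul_left _ _
      obtain ⟨i, -, hi⟩ := (Nat.dvd_prime_pow hp.out).mp h1
      rcases i with _ | i
      · simpa using hi
      · exact absurd ((hi ▸ dvd_pow_self p i.succ_ne_zero).trans h2) Q.not_dvd_index
    have htop : Subgroup.normalizer (U0 : Set G) ⊔ F = ⊤ := by
      have h1 := Sylow.normalizer_sup_eq_top Q
      refine top_le_iff.mp (h1 ▸ sup_le le_sup_left ?_)
      rw [← hsupM]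
      exact sup_le (Subgroup.le_normalizer.trans le_sup_left) le_sup_right
    have hU0ne : U0 ≠ ⊥ := fun h => hU (by
      rw [h, bot_sup_eq] at hsupM
      rw [← Subgroup.map_comap_eq_self_of_surjective hπ U, ← hMdef, ← hsupM,
        Subgroup.map_eq_bot_iff, QuotientGroup.ker_mk'])
    haveI : Nontrivial U0 := (Subgroup.nontrivial_iff_ne_bot U0).mpr hU0ne
    haveI := hU0p.center_nontrivial
    obtain ⟨z0, hz0⟩ := exists_ne (1 : Subgroup.center U0)
    obtain ⟨hzf, hAz, hzp⟩ := S.abelian_cyclic ((Subgroup.center U0).map U0.subtype)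
      ((hU0p.to_subgroup _).map _) (Setting.char_sup_normal U0 _ htop) (by
        rintro _ ⟨x, hx, rfl⟩ _ ⟨y, -, rfl⟩
        exact congrArg Subtype.val (Subgroup.mem_center_iff.mp hx y).symm)
      (z := ((z0 : U0) : G)) ⟨z0, z0.2, rfl⟩ (fun h => hz0 (Subtype.ext (Subtype.ext h)))
    have hzF : (Subgroup.zpowers ((z0 : U0) : G) ⊔ F).Normal :=
      hAz ▸ Setting.char_sup_normal U0 _ htop
    exact isCyclic_of_prime_card (S.sylow_card_of_free hzf hzp hzF P)

/-- The statement for an arbitrary solvable group. -/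
theorem subnormal_and_cyclic [Group.IsSolvable G] (hv : VanProp p G) (P : Sylow p G) :
    ((commutator ↥(P : Subgroup G)).map (P : Subgroup G).subtype).IsSubnormal ∧
      IsCyclic ↥((P : Subgroup G).map (QuotientGroup.mk' (Cfsg.pCore p G))) := by
  haveI := CfsgLib.Solvable.pCore_normal p G
  set O := Cfsg.pCore p G with hO
  let π := QuotientGroup.mk' O
  have hπ : Function.Surjective π := QuotientGroup.mk'_surjective O
  haveI : Group.IsSolvable (G ⧸ O) := Group.isSolvable_of_surjective hπ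
  have hcyc : IsCyclic ↥((P : Subgroup G).map π) :=
    isCyclic_sylow _ (G ⧸ O) rfl (hv.quotient O) (CfsgLib.Solvable.pCore_quotient_eq_bot O hO)
      (P.mapSurjective hπ)
  refine ⟨?_, hcyc⟩
  set D := (commutator ↥(P : Subgroup G)).map (P : Subgroup G).subtype with hD
  have hDO : D ≤ O := by
    rw [hD, Subgroup.map_le_iff_le_comap, commutator_eq_closure, Subgroup.closure_le]
    rintro _ ⟨a, b, rfl⟩
    show ((⁅a, b⁆ : (P : Subgroup G)) : G) ∈ O
    rw [← QuotientGroup.eq_one_iff]
    show π ((P : Subgroup G).subtype ⁅a, b⁆) = 1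
    rw [map_commutatorElement, map_commutatorElement, commutatorElement_eq_one_iff_mul_comm]
    exact congrArg Subtype.val (@mul_comm' _ _ _
      (⟨π (a : G), ⟨(a : G), a.2, rfl⟩⟩ : ↥((P : Subgroup G).map π))
      ⟨π (b : G), ⟨(b : G), b.2, rfl⟩⟩)
  haveI : Group.IsNilpotent O := (CfsgLib.Solvable.pCore_isPGroup p G).isNilpotent
  exact Subgroup.IsSubnormal.trans hDO
    (Subnormal.isSubnormal_of_normalizerCondition Group.normalizerCondition_of_isNilpotent _)
    (Subgroup.Normal.isSubnormal inferInstance)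

/-- The property follows from equal orders. -/
theorem vanProp_of_singleton {b : ℕ}
    (hvo : {n : ℕ | p ∣ n ∧ ∃ (g : G) (χ : Cfsg.IrrCharacter G), orderOf g = n ∧ (χ : G → ℂ) g = 0} =
      {b}) : VanProp p G := by
  have key : ∀ x : G, Vanishes G x → p ∣ orderOf x → orderOf x = b := fun x ⟨χ, hχ⟩ hd => by
    have h : orderOf x ∈ ({b} : Set ℕ) := hvo ▸ ⟨hd, x, χ, rfl, hχ⟩
    exact h
  refine ⟨fun x y hx hy hpx hpy hxk => by rw [key y hy hpy, ← key x hx hpx]; exact hxk,
    fun x hx hxp hd => ?_⟩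
  have hdx : p ∣ orderOf x := hd.trans (orderOf_pow_dvd p)
  have h1 := (key x hx hdx).trans (key _ hxp hd).symm
  rw [orderOf_pow, Nat.gcd_eq_right hdx] at h1
  exact (Nat.div_lt_self (orderOf_pos x) hp.out.one_lt).ne h1.symm

end CfsgLib.RealChar.VanOrder
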